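import Cfsg.Agent.Lib.Linear.ShortPres.OmegaPlus.Unip

/-!
# The cell decomposition and faithfulness of the matrix representation
-/

set_option autoImplicit false
set_option linter.unusedSectionVars false

namespace Cfsg.Lib.Linear.ShortPres.OmegaPlus

open Equiv Matrix
open Cfsg.Lib.Linear.ShortPres.SLN
open scoped MatrixGroups

variable {F : Type*} [Field F] {k : ℕ} {G : Type*} [Group G]

theorem T_lower_eq {α : Type*} [Fintype α] [DecidableEq α] {i j : α} (h : i ≠ j) (t : Fˣ) :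
    (Wt h (1 : Fˣ) : SpecialLinearGroup α F) * T h (t : F) =
      T h (-((t⁻¹ : Fˣ) : F)) * hd h (-t⁻¹) * T h.symm ((t⁻¹ : Fˣ) : F) := by
  have e1 : T h.symm ((t⁻¹ : Fˣ) : F) = T h (t : F) * Wt h (-t) * T h (t : F) := by
    have hW : Wt h (-t) = T h (-(t : F)) * T h.symm ((t⁻¹ : Fˣ) : F) * T h (-(t : F)) := by
      simp [Wt]
    have hz : ∀ x : F, T h x * T h (-x) = (1 : SpecialLinearGroup α F) := fun x => by
      rw [T_add, add_neg_cancel]; exact Subtype.ext (by simp [T_coe])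
    have hz' : ∀ x : F, T h (-x) * T h x = (1 : SpecialLinearGroup α F) := fun x => by
      rw [T_add, neg_add_cancel]; exact Subtype.ext (by simp [T_coe])
    rw [hW]
    simp only [← mul_assoc, hz, one_mul]
    rw [mul_assoc, hz', mul_one]
  have e2 : hd h (-t⁻¹) * T h (t : F) = T h ((t⁻¹ : Fˣ) : F) * hd h (-t⁻¹) := by
    have := hd_conj_T h h (-t⁻¹) (t : F)
    rw [mul_inv_eq_iff_eq_mul] at this
    rw [this]
    congr 2
    simp [hv, h.symm]
  have e3 : hd h (-t⁻¹) * Wt h (-t) = Wt h (1 : Fˣ) := by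
    rw [show hd h (-t⁻¹) = Wt h (1 : Fˣ) * Wt h t by rw [Wt_mul]; simp, mul_assoc, Wt_mul]
    rw [show -(t * (-t)⁻¹) = 1 from Units.ext (by simp), map_one, mul_one]
  have hz0 : T h (-((t⁻¹ : Fˣ) : F)) * T h ((t⁻¹ : Fˣ) : F) = (1 : SpecialLinearGroup α F) := by
    rw [T_add, neg_add_cancel]; exact Subtype.ext (by simp [T_coe])
  calc (Wt h (1 : Fˣ) : SpecialLinearGroup α F) * T h (t : F)
      = (T h (-((t⁻¹ : Fˣ) : F)) * T h ((t⁻¹ : Fˣ) : F)) * (hd h (-t⁻¹) * Wt h (-t)) * T h (t : F) := by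
        rw [hz0, one_mul, e3]
    _ = T h (-((t⁻¹ : Fˣ) : F)) * (hd h (-t⁻¹) * T h (t : F)) * Wt h (-t) * T h (t : F) := by
        rw [e2]; simp only [mul_assoc]
    _ = _ := by rw [e1]; simp only [mul_assoc]

/-- A simple root. -/
def Simple (a b : SI k) : Prop :=
  (a.2 = 0 ∧ b.2 = 0 ∧ b.1.1 = a.1.1 + 1) ∨
    (a.2 = 0 ∧ b.2 = 1 ∧ a.1.1 + 2 = 2 + (k + 2) ∧ b.1.1 + 1 = 2 + (k + 2))

theorem Simple.pos {a b : SI k} (h : Simple a b) :
    (pos b = pos a + 1 ∧ pos a + 2 ≤ 2 + (k + 2)) ∨ (pos b = pos a + 2 ∧ pos a + 2 = 2 + (k + 2)) := by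
  have := a.1.2
  have := b.1.2
  rcases h with ⟨ha, hb, h⟩ | ⟨ha, hb, h, h'⟩
  · rw [OmegaPlus.pos, OmegaPlus.pos, if_pos ha, if_pos hb]; omega
  · rw [OmegaPlus.pos, OmegaPlus.pos, if_pos ha, if_neg (by rw [hb]; decide)]; omega

theorem Simple.posv {a b : SI k} (h : Simple a b) : Posv a b := by
  refine ⟨fun e => ?_, ?_⟩
  · rw [Fin.ext_iff] at e
    rcases h with ⟨-, -, h⟩ | ⟨-, -, h, h'⟩ <;> omega
  · rcases h.pos with h | h <;> omega

/-- A simple reflection permutes the other positive roots. -/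
theorem Simple.perm {a b : SI k} (h : Simple a b) {c d : SI k} (hcd : Posv c d) (h1 : (c, d) ≠ (a, b))
    (h2 : (c, d) ≠ (bar b, bar a)) : Posv (rperm a b c) (rperm a b d) := by
  have hab := h.posv.1
  have hr : ∀ x : SI k,
      (OmegaPlus.pos x = OmegaPlus.pos a ∧ OmegaPlus.pos (rperm a b x) = OmegaPlus.pos b) ∨
      (OmegaPlus.pos x = OmegaPlus.pos (bar a) ∧ OmegaPlus.pos (rperm a b x) = OmegaPlus.pos (bar b)) ∨
      (OmegaPlus.pos x = OmegaPlus.pos b ∧ OmegaPlus.pos (rperm a b x) = OmegaPlus.pos a) ∨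
      (OmegaPlus.pos x = OmegaPlus.pos (bar b) ∧ OmegaPlus.pos (rperm a b x) = OmegaPlus.pos (bar a)) ∨
      (OmegaPlus.pos x ≠ OmegaPlus.pos a ∧ OmegaPlus.pos x ≠ OmegaPlus.pos (bar a) ∧
        OmegaPlus.pos x ≠ OmegaPlus.pos b ∧ OmegaPlus.pos x ≠ OmegaPlus.pos (bar b) ∧
        OmegaPlus.pos (rperm a b x) = OmegaPlus.pos x) := by
    intro x
    rcases rperm_cases hab x with ⟨e, r⟩ | ⟨e, r⟩ | ⟨e, r⟩ | ⟨e, r⟩ | ⟨e, e', r⟩
    · exact Or.inl ⟨congrArg _ e, congrArg _ r⟩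
    · exact Or.inr (Or.inl ⟨congrArg _ e, congrArg _ r⟩)
    · exact Or.inr (Or.inr (Or.inl ⟨congrArg _ e, congrArg _ r⟩))
    · exact Or.inr (Or.inr (Or.inr (Or.inl ⟨congrArg _ e, congrArg _ r⟩)))
    · exact Or.inr (Or.inr (Or.inr (Or.inr ⟨fun q => e (congrArg Prod.fst (pos_inj q)),
        fun q => e ((congrArg Prod.fst (pos_inj q)).trans (bar_fst a)),
        fun q => e' (congrArg Prod.fst (pos_inj q)),
        fun q => e' ((congrArg Prod.fst (pos_inj q)).trans (bar_fst b)), congrArg _ r⟩)))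
  have hlt := hcd.2
  have hcd' : OmegaPlus.pos d ≠ OmegaPlus.pos (bar c) := fun q => hcd.1 (congrArg Prod.fst (pos_inj q)).symm
  have n1 : ¬ (OmegaPlus.pos c = OmegaPlus.pos a ∧ OmegaPlus.pos d = OmegaPlus.pos b) := fun q =>
    h1 (Prod.ext (pos_inj q.1) (pos_inj q.2))
  have n2 : ¬ (OmegaPlus.pos c = OmegaPlus.pos (bar b) ∧ OmegaPlus.pos d = OmegaPlus.pos (bar a)) := fun q =>
    h2 (Prod.ext (pos_inj q.1) (pos_inj q.2))
  have pc := pos_bar c
  have prc := pos_bar (rperm a b c)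
  have pa := pos_bar a
  have pb := pos_bar b
  have := pos_lt a
  have := pos_lt b
  have := pos_lt c
  have := pos_lt d
  have hp := h.pos
  have rc := hr c
  have rd := hr d
  refine ⟨fun e => ?_, ?_⟩
  · rcases sib_cases e.symm with q | q
    · have q' := congrArg OmegaPlus.pos q
      omega
    · have q' := congrArg OmegaPlus.pos q
      omega
  · omega

namespace Sys

variable (S : Sys k F G)

/-- The positive root subgroup without one root. -/
def Uex (a b : SI k) : Subgroup G :=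
  Subgroup.closure {g | ∃ c d t, Posv c d ∧ (c, d) ≠ (a, b) ∧ (c, d) ≠ (bar b, bar a) ∧ g = S.toPre.X c d t}

theorem conj_gen {a b c d : SI k} (hab : Posv a b) (hcd : Posv c d) (h1 : (c, d) ≠ (a, b))
    (h2 : (c, d) ≠ (bar b, bar a)) (s t : F) :
    S.toPre.X a b s * S.toPre.X c d t * (S.toPre.X a b s)⁻¹ ∈ S.Uex a b := by
  have hmem : ∀ {c d : SI k}, Posv c d → (c, d) ≠ (a, b) → (c, d) ≠ (bar b, bar a) → ∀ t,
      S.toPre.X c d t ∈ S.Uex a b := fun h h' h'' t => Subgroup.subset_closure ⟨_, _, t, h, h', h'', rfl⟩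
  have A : ∀ {d : SI k}, Posv b d → (b, d) ≠ (bar b, bar a) → ∀ t,
      S.toPre.X a b s * S.toPre.X b d t * (S.toPre.X a b s)⁻¹ ∈ S.Uex a b := by
    intro d hd hd2 t
    have hmemd := hmem hd (fun e => hab.1 (congrArg (fun z => z.1.1) e).symm) hd2
    by_cases hda : d.1 = a.1
    · rcases sib_cases hda with rfl | rfl
      · exact absurd (hab.2.trans hd.2) (lt_irrefl _)
      · have e := S.toPre.X_flip b (bar a) (-t)
        rw [bar_bar, neg_neg] at e
        rw [← e, ((S.comm_same hab.1) s (-t)).1.eq, mul_inv_cancel_right, e]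
        exact hmemd t
    · rw [S.toPre.prod_X hab.1 hd.1 (Ne.symm hda), mul_inv_cancel_right]
      refine mul_mem (hmem ⟨Ne.symm hda, hab.2.trans hd.2⟩ ?_ ?_ _) (hmemd _)
      · exact fun e => hd.1 (congrArg (fun z => z.2.1) e).symm
      · exact fun e => hab.1 (congrArg (fun z => z.1.1) e)
  have B : ∀ {c : SI k}, Posv c a → (c, a) ≠ (bar b, bar a) → ∀ t,
      S.toPre.X a b s * S.toPre.X c a t * (S.toPre.X a b s)⁻¹ ∈ S.Uex a b := by
    intro c hc hc2 t
    have hmemc := hmem hc (fun e => hab.1 (congrArg (fun z => z.2.1) e)) hc2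
    by_cases hcb : c.1 = b.1
    · rcases sib_cases hcb with rfl | rfl
      · exact absurd (hab.2.trans hc.2) (lt_irrefl _)
      · have e := S.toPre.X_flip (bar b) a (-t)
        rw [bar_bar, neg_neg] at e
        rw [← e, ((S.comm_same' hab.1) s (-t)).1.eq, mul_inv_cancel_right, e]
        exact hmemc t
    · have e := S.toPre.prod_X hc.1 hab.1 hcb t s
      have : S.toPre.X a b s * S.toPre.X c a t * (S.toPre.X a b s)⁻¹ =
          (S.toPre.X c b (t * s))⁻¹ * S.toPre.X c a t := by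
        rw [mul_inv_eq_iff_eq_mul, mul_assoc, e]
        simp [mul_assoc]
      rw [this]
      refine mul_mem (inv_mem (hmem ⟨hcb, hc.2.trans hab.2⟩ ?_ ?_ _)) (hmemc _)
      · exact fun e => hc.1 (congrArg (fun z => z.1.1) e)
      · exact fun e => hab.1 (congrArg (fun z => z.2.1) e).symm
  by_cases q1 : b = c
  · subst q1; exact A hcd h2 t
  by_cases q2 : a = d
  · subst q2; exact B hcd h2 t
  have fl2 : ∀ {c d : SI k}, (c, d) ≠ (a, b) → (bar d, bar c) ≠ (bar b, bar a) := fun {c d} h e => h (by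
    simp only [Prod.mk.injEq] at e
    have e1 := congrArg bar e.1
    have e2 := congrArg bar e.2
    rw [bar_bar, bar_bar] at e1 e2
    rw [e1, e2])
  by_cases q3 : bar b = d
  · subst q3
    have e := S.toPre.X_flip c (bar b) (-t)
    rw [neg_neg, bar_bar] at e
    rw [← e]
    have hp := hcd.flip
    rw [bar_bar] at hp
    refine A hp ?_ _
    have := fl2 h1
    rwa [bar_bar] at this
  by_cases q4 : bar a = c
  · subst q4
    have e := S.toPre.X_flip (bar a) d (-t)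
    rw [neg_neg, bar_bar] at e
    rw [← e]
    have hp := hcd.flip
    rw [bar_bar] at hp
    refine B hp ?_ _
    have := fl2 h1
    rwa [bar_bar] at this
  rw [(S.comm_X q1 q2 q3 q4 s t).eq, mul_inv_cancel_right]
  exact hmem hcd h1 h2 t

theorem U_split {a b : SI k} (hab : Posv a b) {u : G} (hu : u ∈ S.U) :
    ∃ y ∈ S.Uex a b, ∃ s, u = y * S.toPre.X a b s := by
  have hnorm : ∀ s, ∀ y ∈ S.Uex a b, S.toPre.X a b s * y * (S.toPre.X a b s)⁻¹ ∈ S.Uex a b := by
    intro s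
    have h : S.Uex a b ≤ (S.Uex a b).comap (MulAut.conj (S.toPre.X a b s) : G ≃* G).toMonoidHom := by
      refine (Subgroup.closure_le _).2 ?_
      rintro _ ⟨c, d, t, hcd, h1, h2, rfl⟩
      exact S.conj_gen hab hcd h1 h2 s t
    exact fun y hy => h hy
  refine Subgroup.closure_induction (p := fun u _ => ∃ y ∈ S.Uex a b, ∃ s, u = y * S.toPre.X a b s) ?_ ?_ ?_ ?_ hu
  · rintro _ ⟨c, d, t, hcd, rfl⟩
    by_cases h1 : (c, d) = (a, b)
    · obtain ⟨rfl, rfl⟩ := Prod.mk.injEq .. ▸ h1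
      exact ⟨1, one_mem _, t, by rw [one_mul]⟩
    by_cases h2 : (c, d) = (bar b, bar a)
    · obtain ⟨rfl, rfl⟩ := Prod.mk.injEq .. ▸ h2
      exact ⟨1, one_mem _, -t, by rw [one_mul, S.toPre.X_flip]⟩
    exact ⟨_, Subgroup.subset_closure ⟨c, d, t, hcd, h1, h2, rfl⟩, 0, by rw [S.toPre.X_zero, mul_one]⟩
  · exact ⟨1, one_mem _, 0, by rw [S.toPre.X_zero, mul_one]⟩
  · rintro _ _ _ _ ⟨y, hy, s, rfl⟩ ⟨y', hy', s', rfl⟩
    refine ⟨y * (S.toPre.X a b s * y' * (S.toPre.X a b s)⁻¹), mul_mem hy (hnorm s _ hy'), s + s', ?_⟩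
    rw [← S.toPre.X_add]
    simp [mul_assoc]
  · rintro _ _ ⟨y, hy, s, rfl⟩
    refine ⟨S.toPre.X a b (-s) * y⁻¹ * (S.toPre.X a b (-s))⁻¹, hnorm _ _ (inv_mem hy), -s, ?_⟩
    simp [S.toPre.X_inv, mul_assoc, S.toPre.X_add, S.toPre.X_zero]

theorem n_Uex {a b : SI k} (h : Simple a b) {y : G} (hy : y ∈ S.Uex a b) :
    S.toPre.n a b * y * (S.toPre.n a b)⁻¹ ∈ S.U := by
  have h' : S.Uex a b ≤ S.U.comap (MulAut.conj (S.toPre.n a b) : G ≃* G).toMonoidHom := by
    refine (Subgroup.closure_le _).2 ?_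
    rintro _ ⟨c, d, t, hcd, h1, h2, rfl⟩
    obtain ⟨u, hu⟩ := S.toPre.n_X h.posv.1 c d t
    show S.toPre.n a b * S.toPre.X c d t * (S.toPre.n a b)⁻¹ ∈ S.U
    rw [hu]
    exact S.X_mem_U (h.perm hcd h1 h2) u
  exact h' hy

theorem tor_U {x : G} (hx : x ∈ S.tor) {u : G} (hu : u ∈ S.U) : x * u * x⁻¹ ∈ S.U := by
  have hH : ∀ a b s, ∀ y ∈ S.U, S.toPre.H a b s * y * (S.toPre.H a b s)⁻¹ ∈ S.U := by
    intro a b s
    have h : S.U ≤ S.U.comap (MulAut.conj (S.toPre.H a b s) : G ≃* G).toMonoidHom := by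
      refine (Subgroup.closure_le _).2 ?_
      rintro _ ⟨c, d, t, hcd, rfl⟩
      obtain ⟨v, hv⟩ := S.H_X a b c d s t
      show S.toPre.H a b s * S.toPre.X c d t * (S.toPre.H a b s)⁻¹ ∈ S.U
      rw [hv]
      exact S.X_mem_U hcd v
    exact fun y hy => h hy
  revert u
  refine Subgroup.closure_induction'' (p := fun x _ => ∀ {u : G}, u ∈ S.U → x * u * x⁻¹ ∈ S.U) ?_ ?_ ?_ ?_ hx
  · rintro _ ⟨a, b, s, rfl⟩ u hu; exact hH a b s u hu
  · rintro _ ⟨a, b, s, rfl⟩ u hu; rw [← map_inv]; exact hH a b s⁻¹ u hu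
  · intro u hu; simpa using hu
  · intro x z _ _ h1 h2 u hu
    have := h1 (h2 hu)
    simpa [mul_assoc] using this

/-- The cells. -/
def Cell : Set G := {g | ∃ u ∈ S.U, ∃ m, S.InN m ∧ ∃ v ∈ S.U, g = u * m * v}

theorem n_cell {a b : SI k} (h : Simple a b) {g : G} (hg : g ∈ S.Cell) : S.toPre.n a b * g ∈ S.Cell := by
  obtain ⟨u, hu, m, hm, v, hv, rfl⟩ := hg
  obtain ⟨y, hy, s, rfl⟩ := S.U_split h.posv hu
  have hny := S.n_Uex h hy
  have hab := h.posv.1
  obtain ⟨σ, hinj, hbar, hσ⟩ := S.inN_nice hm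
  obtain ⟨w, hw⟩ := hσ a b s
  rw [inv_inv] at hw
  have hne : (σ a).1 ≠ (σ b).1 := fun e => by
    rcases sib_cases e with e' | e'
    · exact hab (congrArg Prod.fst (hinj e'))
    · rw [← hbar] at e'
      exact hab ((congrArg Prod.fst (hinj e')).trans (bar_fst b))
  by_cases hp : pos (σ a) < pos (σ b)
  · refine ⟨_, hny, S.toPre.n a b * m, S.inN_mul (S.inN_n hab) hm, S.toPre.X (σ a) (σ b) w * v,
      mul_mem (S.X_mem_U ⟨hne, hp⟩ w) hv, ?_⟩
    rw [← hw]
    simp [mul_assoc]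
  · rcases eq_or_ne s 0 with rfl | hs
    · refine ⟨_, hny, S.toPre.n a b * m, S.inN_mul (S.inN_n hab) hm, v, hv, ?_⟩
      rw [S.toPre.X_zero]
      simp [mul_assoc]
    have hp' : pos (σ b) < pos (σ a) :=
      lt_of_le_of_ne (not_lt.1 hp) fun e => hne (congrArg Prod.fst (pos_inj e)).symm
    set t := Units.mk0 s hs
    obtain ⟨f, hf⟩ := exists_fr hab
    have key : S.toPre.n a b * S.toPre.X a b s = S.toPre.X a b (-((t⁻¹ : Fˣ) : F)) * S.toPre.H a b (-t⁻¹) *
        S.toPre.X b a ((t⁻¹ : Fˣ) : F) := by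
      rw [S.toPre.n_eq hab hf, S.toPre.X_eq hab hf, S.toPre.X_eq hab hf, S.toPre.H_eq hab hf,
        S.toPre.X_eq hab.symm ⟨hf.1, hf.2.2, hf.2.1⟩, ← map_mul, ← map_mul, ← map_mul,
        ← T_lower_eq hab t]
      rfl
    obtain ⟨w', hw'⟩ := hσ b a ((t⁻¹ : Fˣ) : F)
    rw [inv_inv] at hw'
    refine ⟨S.toPre.n a b * y * (S.toPre.n a b)⁻¹ * S.toPre.X a b (-((t⁻¹ : Fˣ) : F)),
      mul_mem hny (S.X_mem_U h.posv _), S.toPre.H a b (-t⁻¹) * m,
      S.inN_mul (S.inN_tor (S.H_mem _ _ _)) hm, S.toPre.X (σ b) (σ a) w' * v,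
      mul_mem (S.X_mem_U ⟨hne.symm, hp'⟩ w') hv, ?_⟩
    rw [← hw']
    have e : S.toPre.n a b * (y * S.toPre.X a b s * m * v) =
        S.toPre.n a b * y * (S.toPre.n a b)⁻¹ * (S.toPre.n a b * S.toPre.X a b s) * m * v := by
      simp [mul_assoc]
    rw [e, key]
    simp [mul_assoc]

theorem cell_top
    (htop : Subgroup.closure ((S.U : Set G) ∪ {g | ∃ a b, Simple a b ∧ g = S.toPre.n a b}) = ⊤) (g : G) :
    g ∈ S.Cell := by
  have h1 : (1 : G) ∈ S.Cell := ⟨1, one_mem _, 1, S.inN_one, 1, one_mem _, by simp⟩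
  have hU : ∀ x ∈ S.U, ∀ g ∈ S.Cell, x * g ∈ S.Cell := by
    rintro x hx _ ⟨u, hu, m, hm, v, hv, rfl⟩
    exact ⟨x * u, mul_mem hx hu, m, hm, v, hv, by simp [mul_assoc]⟩
  have h : ∀ x : G, (∀ g ∈ S.Cell, x * g ∈ S.Cell) ∧ ∀ g ∈ S.Cell, x⁻¹ * g ∈ S.Cell := by
    intro x
    refine Subgroup.closure_induction (p := fun x _ => (∀ g ∈ S.Cell, x * g ∈ S.Cell) ∧
      ∀ g ∈ S.Cell, x⁻¹ * g ∈ S.Cell) ?_ ?_ ?_ ?_ (htop ▸ Subgroup.mem_top x)
    · rintro x (hx | ⟨a, b, hab, rfl⟩)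
      · exact ⟨hU x hx, hU _ (inv_mem hx)⟩
      · refine ⟨fun g hg => S.n_cell hab hg, fun g hg => ?_⟩
        have e := inv_eq_of_mul_eq_one_right (S.toPre.n_pow_four hab.posv.1)
        rw [e, mul_assoc, mul_assoc]
        exact S.n_cell hab (S.n_cell hab (S.n_cell hab hg))
    · exact ⟨fun g hg => by simpa using hg, fun g hg => by simpa using hg⟩
    · rintro x y - - ⟨hx, hx'⟩ ⟨hy, hy'⟩
      exact ⟨fun g hg => by rw [mul_assoc]; exact hx _ (hy g hg),
        fun g hg => by rw [_root_.mul_inv_rev, mul_assoc]; exact hy' _ (hx' g hg)⟩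
    · rintro x - ⟨hx, hx'⟩
      exact ⟨hx', by simpa using hx⟩
  simpa using (h g).1 1 h1

/-- Diagonal elements lie in the torus. -/
theorem diag_mem (M : SpecialLinearGroup (Ix k) F) (hM : ∀ i j, i ≠ j → M.1 i j = 0) : S.A M ∈ S.tor := by
  classical
  suffices key : ∀ (s : Finset (Ix k)) (M : SpecialLinearGroup (Ix k) F), (∀ i j, i ≠ j → M.1 i j = 0) →
      j0 k ∉ s → (∀ i, i ∉ s → i ≠ j0 k → M.1 i i = 1) → S.A M ∈ S.tor from
    key (Finset.univ.erase (j0 k)) M hM (Finset.notMem_erase _ _) (fun i h1 h2 => by simp [h2] at h1)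
  intro s
  induction s using Finset.induction with
  | empty =>
    intro M hM _ h1
    have hdiag : M.1 = Matrix.diagonal fun i => M.1 i i := by
      ext i j
      rcases eq_or_ne i j with rfl | h
      · simp
      · simp [Matrix.diagonal_apply_ne _ h, hM i j h]
    have h0 : M.1 (j0 k) (j0 k) = 1 := by
      have := M.2
      rw [hdiag, Matrix.det_diagonal, Finset.prod_eq_single (j0 k) (fun i _ hi => h1 i (by simp) hi)
        (fun h => absurd (Finset.mem_univ _) h)] at this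
      exact this
    have : M = 1 := Subtype.ext (by
      rw [hdiag, Matrix.SpecialLinearGroup.coe_one, ← Matrix.diagonal_one]
      congr 1
      funext i
      rcases eq_or_ne i (j0 k) with rfl | hi
      · exact h0
      · exact h1 i (by simp) hi)
    rw [this, map_one]
    exact one_mem _
  | insert a s ha ih =>
    intro M hM h0 h1
    rw [Finset.mem_insert, not_or] at h0
    have hne : M.1 a a ≠ 0 := by
      intro e
      have hdet := M.2
      rw [Matrix.det_eq_zero_of_row_eq_zero a (fun j => by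
        rcases eq_or_ne a j with rfl | h
        · exact e
        · exact hM a j h)] at hdet
      exact zero_ne_one hdet
    let t := Units.mk0 (M.1 a a) hne
    have haj : a ≠ j0 k := Ne.symm h0.1
    have hmul : ∀ i j, ((hd haj t)⁻¹ * M).1 i j = hv a (j0 k) t⁻¹ i * M.1 i j := fun i j => by
      rw [← map_inv, Matrix.SpecialLinearGroup.coe_mul, hd_coe, Matrix.diagonal_mul]
    have hrec : S.A ((hd haj t)⁻¹ * M) ∈ S.tor := by
      refine ih _ (fun i j hij => by rw [hmul, hM i j hij, mul_zero]) h0.2 (fun i hi hi0 => ?_)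
      rw [hmul]
      rcases eq_or_ne i a with rfl | hia
      · simp [hv, t, hne]
      · simp [hv, hia, hi0, h1 i (by simp [hia, hi]) hi0]
    have hH : S.A (hd haj t) ∈ S.tor := by
      rw [← S.toPre.cf_zero, ← S.toPre.H_eq (a := ((a, 0) : SI k)) (b := (j0 k, 0)) (f := 0) haj
        ⟨by simp [Even'], rfl, rfl⟩]
      exact S.H_mem _ _ _
    have := mul_mem hH hrec
    rwa [← map_mul, mul_inv_cancel_left] at this

/-- The torus in normal form. -/
theorem tor_form {x : G} (hx : x ∈ S.tor) : ∃ (M : SpecialLinearGroup (Ix k) F) (t : Fˣ),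
    (∀ i j, i ≠ j → M.1 i j = 0) ∧ x = S.A M * S.toPre.H (j0 k, 0) (j1 k, 1) t := by
  classical
  let D : Subgroup (SpecialLinearGroup (Ix k) F) :=
    { carrier := {M | ∀ i j, i ≠ j → M.1 i j = 0}
      one_mem' := fun i j h => Matrix.one_apply_ne h
      mul_mem' := fun {M N} hM hN i j h => by
        rw [Matrix.SpecialLinearGroup.coe_mul, Matrix.mul_apply, Finset.sum_eq_zero]
        intro z _
        rcases eq_or_ne i z with rfl | hz
        · rw [hN i j h, mul_zero]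
        · rw [hM i z hz, zero_mul]
      inv_mem' := fun {M} hM i j h => by
        have e : M.1 = Matrix.diagonal fun i => M.1 i i := by
          ext a b
          rcases eq_or_ne a b with rfl | hab
          · simp
          · simp [Matrix.diagonal_apply_ne _ hab, hM a b hab]
        rw [Matrix.SpecialLinearGroup.coe_inv, e, Matrix.adjugate_diagonal, Matrix.diagonal_apply_ne _ h] }
  let τ := S.toPre.H ((j0 k, 0) : SI k) (j1 k, 1)
  let K : Subgroup G :=
    { carrier := {x | ∃ M ∈ D, ∃ t, x = S.A M * τ t}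
      one_mem' := ⟨1, one_mem _, 1, by simp⟩
      mul_mem' := by
        rintro _ _ ⟨M, hM, t, rfl⟩ ⟨M', hM', t', rfl⟩
        refine ⟨M * M', mul_mem hM hM', t * t', ?_⟩
        rw [map_mul, map_mul]
        have hc := S.tor_comm (S.diag_mem M' hM') (S.H_mem (j0 k, 0) (j1 k, 1) t)
        rw [mul_assoc, ← mul_assoc (τ t), show τ t * S.A M' = S.A M' * τ t from hc.symm]
        simp [mul_assoc]
      inv_mem' := by
        rintro _ ⟨M, hM, t, rfl⟩
        refine ⟨M⁻¹, inv_mem hM, t⁻¹, ?_⟩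
        rw [_root_.mul_inv_rev, ← map_inv, ← map_inv]
        exact (S.tor_comm (S.diag_mem _ (inv_mem hM)) (S.H_mem (j0 k, 0) (j1 k, 1) t⁻¹)).symm }
  have hA : ∀ (i j : Ix k) (s : Fˣ), S.toPre.H ((i, 0) : SI k) (j, 0) s ∈ K := by
    intro i j s
    rcases eq_or_ne i j with rfl | h
    · rw [S.toPre.H_same (a := ((i, 0) : SI k)) (b := (i, 0)) rfl]; exact one_mem _
    refine ⟨hd h s, fun a b hab => Matrix.diagonal_apply_ne _ hab, 1, ?_⟩
    rw [map_one, mul_one, S.toPre.H_eq (a := ((i, 0) : SI k)) (b := (j, 0)) (f := 0) h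
      ⟨by simp [Even'], rfl, rfl⟩, S.toPre.cf_zero]
  have key01 : bar ((0 : Ix k), (0 : ZMod 2)) = (0, 1) := Prod.ext rfl (zero_add 1)
  have bar1 : ∀ i : Ix k, bar ((i, 1) : SI k) = (i, 0) := fun i =>
    Prod.ext rfl (show (1 : ZMod 2) + 1 = 0 by decide)
  have bar0 : ∀ i : Ix k, bar ((i, 0) : SI k) = (i, 1) := fun i => Prod.ext rfl (zero_add 1)
  have hsym : ∀ (i j : Ix k) s, S.toPre.H ((i, 0) : SI k) (j, 1) s = S.toPre.H ((j, 0) : SI k) (i, 1) s := by
    intro i j s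
    have := S.toPre.H_flip ((i, 0) : SI k) (j, 1) s
    rw [bar1, bar0] at this
    exact this.symm
  have hstep : ∀ (i l j : Ix k), l ≠ j → i ≠ l → (∀ s, S.toPre.H ((l, 0) : SI k) (j, 1) s ∈ K) →
      ∀ s, S.toPre.H ((i, 0) : SI k) (j, 1) s ∈ K := by
    intro i l j hlj hil hK s
    rcases eq_or_ne i j with rfl | hij
    · rw [S.toPre.H_same (a := ((i, 0) : SI k)) (b := (i, 1)) rfl]; exact one_mem _
    rw [← S.toPre.H_cocycle (a := ((i, 0) : SI k)) (b := (l, 0)) (c := (j, 1)) hil hlj hij]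
    exact mul_mem (hA i l s) (hK s)
  have h01 : j0 k ≠ j1 k := by simp [Fin.ext_iff]
  have hb : ∀ s, S.toPre.H ((j0 k, 0) : SI k) (j1 k, 1) s ∈ K := fun s => ⟨1, one_mem _, s, by simp [τ]⟩
  have hb' : ∀ s, S.toPre.H ((j1 k, 0) : SI k) (j0 k, 1) s ∈ K := fun s => by rw [hsym]; exact hb s
  have hto1 : ∀ i s, S.toPre.H ((i, 0) : SI k) (j1 k, 1) s ∈ K := fun i s => by
    rcases eq_or_ne i (j0 k) with rfl | h
    · exact hb s
    · exact hstep i (j0 k) (j1 k) h01 h hb s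
  have hto0 : ∀ i s, S.toPre.H ((i, 0) : SI k) (j0 k, 1) s ∈ K := fun i s => by
    rcases eq_or_ne i (j1 k) with rfl | h
    · exact hb' s
    · exact hstep i (j1 k) (j0 k) h01.symm h hb' s
  have hall : ∀ i j s, S.toPre.H ((i, 0) : SI k) (j, 1) s ∈ K := fun i j s => by
    rcases eq_or_ne i (j0 k) with rfl | hi
    · rw [hsym]; exact hto0 j s
    rcases eq_or_ne j (j0 k) with rfl | hj
    · exact hto0 i s
    exact hstep i (j0 k) j (Ne.symm hj) hi (fun s => by rw [hsym]; exact hto0 j s) s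
  have hle : S.tor ≤ K := by
    refine (Subgroup.closure_le _).2 ?_
    rintro _ ⟨⟨i, p⟩, ⟨j, q⟩, s, rfl⟩
    have key : ∀ z : ZMod 2, z = 0 ∨ z = 1 := by decide
    rcases key p with rfl | rfl <;> rcases key q with rfl | rfl
    · exact hA i j s
    · exact hall i j s
    · rw [S.toPre.H_symm ((j, 0) : SI k) (i, 1)]; exact hall j i _
    · rw [← S.toPre.H_flip, bar1, bar1]; exact hA j i s
  obtain ⟨M, hM, t, e⟩ := hle hx
  exact ⟨M, t, hM, e⟩

variable {S} (R : Rep S.toPre)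

theorem P_H_base (t : Fˣ) (x : SI k) :
    R.P (S.toPre.H (j0 k, 0) (j1 k, 1) t) x x =
      if x.1 = j0 k ∨ x.1 = j1 k then (if x.2 = 0 then (t : F) else ((t⁻¹ : Fˣ) : F)) else 1 := by
  have h01 : j0 k ≠ j1 k := by simp [Fin.ext_iff]
  have h12 : j1 k ≠ j2 k := by simp [Fin.ext_iff]
  have h02 : j0 k ≠ j2 k := by simp [Fin.ext_iff]
  have hf : Fr (Pi.single (j1 k) 1 + Pi.single (j2 k) 1 : Ix k → ZMod 2) (j0 k, 0) (j1 k, 1) :=
    ⟨even_pair _ _, by simp [h01, h02], by simp [h12]⟩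
  rw [S.toPre.H_eq (a := ((j0 k, 0) : SI k)) (b := (j1 k, 1)) h01 hf, R.P_cf hf.1, R.hA, if_pos rfl,
    ← map_inv, hd_coe, hd_coe, Matrix.diagonal_apply_eq, Matrix.diagonal_apply_eq, fl_fst, fl_snd]
  obtain ⟨i, z⟩ := x
  have key : ∀ z : ZMod 2, z = 0 ∨ z = 1 := by decide
  have h11 : (1 : ZMod 2) + 1 = 0 := by decide
  rcases eq_or_ne i (j0 k) with rfl | hi0
  · rcases key z with rfl | rfl <;> simp [hv, h01, h02]
  rcases eq_or_ne i (j1 k) with rfl | hi1
  · rcases key z with rfl | rfl <;> simp [hv, h01.symm, h12, h11]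
  simp [hv, hi0, hi1]

theorem P_H_ne (a b : SI k) (t : Fˣ) {x y : SI k} (hxy : x ≠ y) : R.P (S.toPre.H a b t) x y = 0 := by
  by_cases h : a.1 = b.1
  · rw [S.toPre.H_same h, map_one, Matrix.one_apply_ne hxy]
  obtain ⟨f, hf⟩ := exists_fr h
  rw [S.toPre.H_eq h hf, R.P_cf hf.1, R.hA, ← map_inv, hd_coe, hd_coe]
  split_ifs with h2 h3
  · refine Matrix.diagonal_apply_ne _ fun e => hxy ?_
    rw [← fl_fl f x, ← fl_fl f y, Prod.ext e h2]
  · refine Matrix.diagonal_apply_ne _ fun e => hxy ?_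
    rw [← fl_fl f x, ← fl_fl f y, Prod.ext e.symm h2]
  · rfl

theorem P_tor_ne {x : G} (hx : x ∈ S.tor) {a b : SI k} (hab : a ≠ b) : R.P x a b = 0 := by
  revert a b
  refine Subgroup.closure_induction'' (p := fun x _ => ∀ {a b : SI k}, a ≠ b → R.P x a b = 0) ?_ ?_ ?_ ?_ hx
  · rintro _ ⟨p, q, t, rfl⟩ a b h; exact P_H_ne R p q t h
  · rintro _ ⟨p, q, t, rfl⟩ a b h; rw [← map_inv]; exact P_H_ne R p q _ h
  · intro a b h; rw [map_one, Matrix.one_apply_ne h]
  · intro x y _ _ hx hy a b h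
    rw [map_mul, Matrix.mul_apply, Finset.sum_eq_zero]
    intro z _
    rcases eq_or_ne a z with rfl | hz
    · rw [hy h, mul_zero]
    · rw [hx hz, zero_mul]

theorem tor_inj {x : G} (hx : x ∈ S.tor) (hP : R.P x = 1) : x = 1 := by
  obtain ⟨M, t, hM, rfl⟩ := S.tor_form hx
  have h01 : j0 k ≠ j1 k := by simp [Fin.ext_iff]
  have hval : ∀ i : Ix k, M.1 i i * (if i = j0 k ∨ i = j1 k then (t : F) else 1) = 1 := fun i => by
    have h := congrFun (congrFun hP (i, 0)) (i, 0)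
    rw [map_mul, Matrix.mul_apply, Finset.sum_eq_single ((i, 0) : SI k) (fun z _ hz => by
        rw [P_tor_ne R (S.H_mem _ _ _) hz, mul_zero]) (fun h => absurd (Finset.mem_univ _) h),
      Matrix.one_apply_eq, R.hA, if_pos rfl, if_pos rfl, P_H_base] at h
    simpa using h
  have hd0 : M.1 (j0 k) (j0 k) * (t : F) = 1 := by simpa using hval (j0 k)
  have hd1 : M.1 (j1 k) (j1 k) * (t : F) = 1 := by simpa [h01.symm] using hval (j1 k)
  have hdi : ∀ i, i ≠ j0 k → i ≠ j1 k → M.1 i i = 1 := fun i a b => by simpa [a, b] using hval i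
  have hdiag : M.1 = Matrix.diagonal fun i => M.1 i i := by
    ext i j
    rcases eq_or_ne i j with rfl | h
    · simp
    · simp [Matrix.diagonal_apply_ne _ h, hM i j h]
  have hdet : M.1 (j0 k) (j0 k) * M.1 (j1 k) (j1 k) = 1 := by
    have := M.2
    rw [hdiag, Matrix.det_diagonal, ← Finset.prod_subset (Finset.subset_univ {j0 k, j1 k}) (fun i _ hi => by
      simp only [Finset.mem_insert, Finset.mem_singleton, not_or] at hi
      exact hdi i hi.1 hi.2), Finset.prod_pair h01] at this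
    exact this
  have ht : (t : F) = 1 ∨ (t : F) = -1 := mul_self_eq_one_iff.1 (by
    linear_combination (M.1 (j1 k) (j1 k) * (t : F)) * hd0 + hd1 - (t : F) * (t : F) * hdet)
  have hMe : M = hd h01 t := Subtype.ext (by
    rw [hdiag, hd_coe]
    congr 1
    funext i
    have htt : ((t⁻¹ : Fˣ) : F) = t := by
      rcases ht with e | e <;> rw [Units.val_inv_eq_inv_val, e] <;> simp
    have hsq : (t : F) * t = 1 := by rcases ht with e | e <;> rw [e] <;> simp
    rcases eq_or_ne i (j0 k) with rfl | a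
    · simp only [hv, if_true]
      linear_combination (t : F) * hd0 - M.1 (j0 k) (j0 k) * hsq
    rcases eq_or_ne i (j1 k) with rfl | b
    · simp only [hv, if_neg a, if_true, htt]
      linear_combination (t : F) * hd1 - M.1 (j1 k) (j1 k) * hsq
    · simp [hv, a, b, hdi i a b])
  rcases ht with ht | ht
  · have : t = 1 := Units.ext ht
    subst this
    simp [hMe]
  · have : t = -1 := Units.ext (by rw [ht]; simp)
    subst this
    have h12 : j1 k ≠ j2 k := by simp [Fin.ext_iff]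
    have h02 : j0 k ≠ j2 k := by simp [Fin.ext_iff]
    have hf : Fr (Pi.single (j1 k) 1 + Pi.single (j2 k) 1 : Ix k → ZMod 2) (j0 k, 0) (j1 k, 1) :=
      ⟨even_pair _ _, by simp [h01, h02], by simp [h12]⟩
    rw [S.toPre.H_eq (a := ((j0 k, 0) : SI k)) (b := (j1 k, 1)) h01 hf, Pre.cf_apply, S.toPre.E_pair, hMe,
      ← Wt_sq]
    have hW := S.toPre.W_e (i := j0 k) (j := j1 k) h01 (j1 k) (j2 k)
    have hW' := S.toPre.W_e (i := j0 k) (j := j1 k) h01 (j0 k) (j2 k)
    rw [swap_apply_right, swap_apply_of_ne_of_ne h02.symm h12.symm, ← Pre.Wt_one_eq] at hW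
    rw [swap_apply_left, swap_apply_of_ne_of_ne h02.symm h12.symm, ← Pre.Wt_one_eq] at hW'
    rw [mul_inv_eq_iff_eq_mul] at hW hW'
    have hc : S.A (Wt h01 1 * Wt h01 1) * S.toPre.e (j1 k) (j2 k) =
        S.toPre.e (j1 k) (j2 k) * S.A (Wt h01 1 * Wt h01 1) := by
      rw [map_mul, mul_assoc, hW, ← mul_assoc, hW', mul_assoc]
    have hee := S.toPre.e_sq (j1 k) (j2 k)
    rw [← hc, mul_assoc (S.A _) (S.toPre.e _ _) (S.toPre.e _ _), hee, mul_one, ← map_mul, Wt_sq, ← map_mul]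
    simp

theorem inN_inj {m : G} (hm : S.InN m) (hP : ∀ a b, pos b < pos a → R.P m a b = 0) (hd' : ∀ a, R.P m a a = 1) :
    m = 1 := by
  obtain ⟨x, hx, f, hf, M, hM, rfl⟩ := hm
  have hne : ∀ a, R.P x a a * R.P (S.A M) (fl f a) a = 1 := fun a => by
    have := hd' a
    rwa [map_mul, map_mul, R.P_E hf, mul_assoc, Matrix.mul_apply,
      Finset.sum_eq_single a (fun z _ hz => by rw [P_tor_ne R hx (Ne.symm hz), zero_mul])
        (fun h => absurd (Finset.mem_univ _) h), PM_mul_apply] at this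
  have hf0 : f = 0 := funext fun i => by
    by_contra hfi
    have h := hne (i, 0)
    rw [R.hA, if_neg (by simpa using hfi), mul_zero] at h
    exact zero_ne_one h
  subst hf0
  have hmon : ∀ i j, i ≠ j → M.1 i j = 0 := by
    have hmono : ∀ i : Ix k, ∃ σ, ∀ j, j ≠ σ → M.1 i j = 0 := by
      refine Subgroup.closure_induction'' (p := fun M _ => ∀ i : Ix k, ∃ σ, ∀ j, j ≠ σ → M.1 i j = 0)
        ?_ ?_ ?_ ?_ hM
      · rintro _ ⟨p, q, h, rfl⟩ i
        refine ⟨swap p q i, fun j hj => ?_⟩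
        rw [Wt_coe]
        split_ifs with a b c d e <;> subst_vars <;> simp_all [swap_apply_of_ne_of_ne]
      · rintro _ ⟨p, q, h, rfl⟩ i
        rw [Wt_one_inv]
        refine ⟨swap q p i, fun j hj => ?_⟩
        rw [Wt_coe]
        split_ifs with a b c d e <;> subst_vars <;> simp_all [swap_apply_of_ne_of_ne]
      · exact fun i => ⟨i, fun j hj => Matrix.one_apply_ne (Ne.symm hj)⟩
      · intro A B _ _ hA hB i
        obtain ⟨σ, hσ⟩ := hA i
        obtain ⟨τ, hτ⟩ := hB σ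
        refine ⟨τ, fun j hj => ?_⟩
        rw [Matrix.SpecialLinearGroup.coe_mul, Matrix.mul_apply, Finset.sum_eq_zero]
        intro z _
        rcases eq_or_ne z σ with rfl | hz
        · rw [hτ j hj, mul_zero]
        · rw [hσ z hz, zero_mul]
    intro i j hij
    obtain ⟨σ, hσ⟩ := hmono i
    have h := hne (i, 0)
    rw [R.hA] at h
    have hii : σ = i := by
      by_contra hc
      have h0 := hσ i (Ne.symm hc)
      simp [h0] at h
    exact hσ j (by rw [hii]; exact Ne.symm hij)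
  rw [S.toPre.E_zero, mul_one] at hP hd' ⊢
  refine tor_inj R (mul_mem hx (S.diag_mem M hmon)) ?_
  ext a b
  rcases eq_or_ne a b with rfl | hab
  · rw [hd', Matrix.one_apply_eq]
  · rw [Matrix.one_apply_ne hab, P_tor_ne R (mul_mem hx (S.diag_mem M hmon)) hab]

theorem P_injective
    (htop : Subgroup.closure ((S.U : Set G) ∪ {g | ∃ a b, Simple a b ∧ g = S.toPre.n a b}) = ⊤) :
    Function.Injective R.P := by
  refine (injective_iff_map_eq_one R.P).2 fun g hg => ?_
  obtain ⟨u, hu, m, hm, v, hv, rfl⟩ := S.cell_top htop g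
  have hm' : R.P m = R.P (u⁻¹ * v⁻¹) := by
    calc R.P m = R.P (u⁻¹ * (u * m * v) * v⁻¹) := by simp [mul_assoc]
      _ = _ := by rw [map_mul, map_mul, hg, mul_one, ← map_mul]
  have hU := P_U R (mul_mem (inv_mem hu) (inv_mem hv))
  have h1 := inN_inj R hm (fun a b h => by rw [hm']; exact (hU a b).1 h) (fun a => by rw [hm']; exact (hU a a).2)
  subst h1
  rw [mul_one] at hg ⊢
  exact U_inj R (mul_mem hu hv) hg

theorem htop_of_gen (hgen : Subgroup.closure (Set.range S.A ∪ {S.w}) = ⊤) :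
    Subgroup.closure ((S.U : Set G) ∪ {g | ∃ a b, Simple a b ∧ g = S.toPre.n a b}) = ⊤ := by
  set K := Subgroup.closure ((S.U : Set G) ∪ {g | ∃ a b, Simple a b ∧ g = S.toPre.n a b}) with hK
  let R' : SI k → SI k → Prop := fun a b => ∀ t, S.toPre.X a b t ∈ K
  have hpos : ∀ {a b}, Posv a b → R' a b := fun h t => Subgroup.subset_closure (Or.inl (S.X_mem_U h t))
  have hflip : ∀ {a b}, R' a b → R' (bar b) (bar a) := fun h t => by rw [S.toPre.X_flip]; exact h _
  have hrefl : ∀ {a b c d}, Simple a b → R' (rperm a b c) (rperm a b d) → R' c d := by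
    intro a b c d hs h t
    obtain ⟨u, hu⟩ := S.toPre.n_X hs.posv.1 c d t
    have hn : S.toPre.n a b ∈ K := Subgroup.subset_closure (Or.inr ⟨a, b, hs, rfl⟩)
    have e : S.toPre.X c d t = (S.toPre.n a b)⁻¹ * S.toPre.X (rperm a b c) (rperm a b d) u * S.toPre.n a b := by
      rw [← hu]; simp [mul_assoc]
    rw [e]
    exact mul_mem (mul_mem (inv_mem hn) (h u)) hn
  have hlow : ∀ d (i j : Ix k), i.1 = j.1 + d + 1 → R' (i, 0) (j, 0) := by
    intro d
    induction d with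
    | zero =>
      intro i j h
      have hs : Simple ((j, 0) : SI k) (i, 0) := Or.inl ⟨rfl, rfl, h⟩
      refine hrefl hs ?_
      have e1 : rperm ((j, 0) : SI k) (i, 0) (i, 0) = (j, 0) := by
        have : i ≠ j := fun e => by rw [e] at h; omega
        simp [rperm, this]
      have e2 : rperm ((j, 0) : SI k) (i, 0) (j, 0) = (i, 0) := by simp [rperm]
      rw [e1, e2]
      exact hpos hs.posv
    | succ d ih =>
      intro i j h
      have hi' : i.1 - 1 < 2 + (k + 2) := by omega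
      let i' : Ix k := ⟨i.1 - 1, hi'⟩
      have hs : Simple ((i', 0) : SI k) (i, 0) := Or.inl ⟨rfl, rfl, show i.1 = (i.1 - 1) + 1 by omega⟩
      refine hrefl hs ?_
      have n1 : i ≠ i' := fun e => by
        have := congrArg Fin.val e; simp [i'] at this; omega
      have n2 : j ≠ i' := fun e => by
        have := congrArg Fin.val e; simp [i'] at this; omega
      have n3 : j ≠ i := fun e => by rw [e] at h; omega
      have e1 : rperm ((i', 0) : SI k) (i, 0) (i, 0) = (i', 0) := by simp [rperm, n1]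
      have e2 : rperm ((i', 0) : SI k) (i, 0) (j, 0) = (j, 0) := by simp [rperm, n2, n3]
      rw [e1, e2]
      exact ih i' j (show i.1 - 1 = j.1 + d + 1 by omega)
  have hT : ∀ (i j : Ix k) (h : i ≠ j) (t : F), S.A (T h t) ∈ K := by
    intro i j h t
    rw [← S.toPre.cf_zero, ← S.toPre.X_eq (a := ((i, 0) : SI k)) (b := (j, 0)) (f := 0) h
      ⟨by simp [Even'], rfl, rfl⟩]
    rcases lt_or_gt_of_ne (Fin.val_ne_iff.2 h) with h' | h'
    · exact hpos ⟨h, by simpa [pos] using h'⟩ t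
    · exact hlow (i.1 - j.1 - 1) i j (by omega) t
  have hA : ∀ g, S.A g ∈ K := by
    intro g
    refine (?_ : (⊤ : Subgroup (SpecialLinearGroup (Ix k) F)) ≤ K.comap S.A) (Subgroup.mem_top g)
    rw [← Cfsg.Lib.Linear.closure_transvection_eq_top (ι := Ix k) (F := F), Subgroup.closure_le]
    rintro _ ⟨i, j, h, t, rfl⟩
    exact hT i j h t
  let p : Ix k := ⟨k + 2, by omega⟩
  let q : Ix k := ⟨k + 3, by omega⟩
  have hpq : p ≠ q := by simp [p, q, Fin.ext_iff]
  have hs : Simple ((p, 0) : SI k) (q, 1) := Or.inr ⟨rfl, rfl, show k + 2 + 2 = _ by omega, show k + 3 + 1 = _ by omega⟩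
  have hlast : R' (p, 0) (q, 1) := hpos hs.posv
  have hlast' : R' (q, 1) (p, 0) := by
    refine hrefl hs ?_
    have h11 : (1 : ZMod 2) + 1 = 0 := by decide
    have e1 : rperm ((p, 0) : SI k) (q, 1) (q, 1) = (p, 0) := by simp [rperm, hpq.symm, h11]
    have e2 : rperm ((p, 0) : SI k) (q, 1) (p, 0) = (q, 1) := by simp [rperm]
    rw [e1, e2]
    exact hlast
  have hmove : ∀ {a b : SI k} (π : alternatingGroup (Ix k)), R' a b → R' (π.1 a.1, a.2) (π.1 b.1, b.2) := by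
    intro a b π h t
    rw [← S.toPre.pm_X]
    exact mul_mem (mul_mem (hA _) (h t)) (inv_mem (hA _))
  have h01 : j0 k ≠ j1 k := by simp [Fin.ext_iff]
  have h12 : j1 k ≠ j2 k := by simp [Fin.ext_iff]
  have h02 : j0 k ≠ j2 k := by simp [Fin.ext_iff]
  obtain ⟨π, hp, hq⟩ := exists_two hpq
  have hp' : π⁻¹.1 p = j0 k := by rw [InvMemClass.coe_inv, Perm.inv_eq_iff_eq, hp]
  have hq' : π⁻¹.1 q = j1 k := by rw [InvMemClass.coe_inv, Perm.inv_eq_iff_eq, hq]
  have r1 : R' (j0 k, 0) (j1 k, 1) := by have := hmove π⁻¹ hlast; rwa [hp', hq'] at this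
  have r2 : R' (j1 k, 1) (j0 k, 0) := by have := hmove π⁻¹ hlast'; rwa [hp', hq'] at this
  rw [eq_top_iff, ← hgen, Subgroup.closure_le]
  rintro x (⟨g, rfl⟩ | rfl)
  · exact hA g
  · have hn : S.toPre.n (j0 k, 0) (j1 k, 1) ∈ K := mul_mem (mul_mem (r1 _) (r2 _)) (r1 _)
    have hf : Fr (Pi.single (j1 k) 1 + Pi.single (j2 k) 1 : Ix k → ZMod 2) (j0 k, 0) (j1 k, 1) :=
      ⟨even_pair _ _, by simp [h01, h02], by simp [h12]⟩
    rw [S.toPre.n_eq (a := ((j0 k, 0) : SI k)) (b := (j1 k, 1)) h01 hf, Pre.cf_apply, S.toPre.E_pair] at hn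
    have hW := S.toPre.W_e (i := j0 k) (j := j1 k) h01 (j1 k) (j2 k)
    rw [swap_apply_right, swap_apply_of_ne_of_ne h02.symm h12.symm, ← Pre.Wt_one_eq, mul_inv_eq_iff_eq_mul] at hW
    have htri := S.toPre.e_tri (i := j1 k) (j := j0 k) (m := j2 k) h01.symm h12 h02
    rw [S.toPre.e_symm (j1 k) (j0 k), S.toPre.e_base] at htri
    have e : S.w = S.toPre.e (j1 k) (j2 k) * S.A (Wt h01 1) * S.toPre.e (j1 k) (j2 k) * (S.A (Wt h01 1))⁻¹ := by
      rw [mul_assoc (S.toPre.e _ _) (S.A _) (S.toPre.e _ _), hW, ← mul_assoc, mul_inv_cancel_right, htri]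
    rw [e]
    exact mul_mem hn (inv_mem (hA _))

end Sys

end Cfsg.Lib.Linear.ShortPres.OmegaPlus
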