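import Cfsg.Agent.Lib.Linear.ShortPres.OmegaPlus.Roots

/-!
# Finitely many relations of a sign change
-/

set_option autoImplicit false
set_option linter.unusedSectionVars false

namespace Cfsg.Lib.Linear.ShortPres.OmegaPlus

open Equiv Matrix
open Cfsg.Lib.Linear.ShortPres.SLN
open scoped MatrixGroups

variable {F : Type*} [Field F] {k : ℕ} {G : Type*} [Group G]

/-- The exchange of the first two blocks. -/
def sg (k : ℕ) : alternatingGroup (Ix k) :=
  dt (j0 k) (j2 k) (j1 k) (j3 k) (by simp [Fin.ext_iff]) (by simp [Fin.ext_iff])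

theorem sg_vals (k : ℕ) : (sg k).1 (j0 k) = j2 k ∧ (sg k).1 (j1 k) = j3 k ∧ (sg k).1 (j2 k) = j0 k ∧
    (sg k).1 (j3 k) = j1 k := by
  refine ⟨?_, ?_, ?_, ?_⟩ <;> simp [sg, dt, Perm.mul_apply, swap_apply_def, Fin.ext_iff]

theorem star_T {a b : Fin 2} (h : a ≠ b) (t : F) : Seven.star (T h t) = T h.symm (-t) := Subtype.ext (by
  ext i j
  fin_cases a <;> fin_cases b <;> fin_cases i <;> fin_cases j <;>
    simp [Seven.star_coe, T_coe, Matrix.single] at h ⊢)

theorem sw_T {a b : Fin 2} (h : a ≠ b) (t : F) : Seven.sw (T h t) = T h.symm t := Subtype.ext (by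
  ext i j
  fin_cases a <;> fin_cases b <;> fin_cases i <;> fin_cases j <;>
    simp [Seven.sw_coe, T_coe, Matrix.single] at h ⊢)

theorem hi_T0 {a b : Fin 2} (h : a ≠ b) (t : F) :
    hi F 0 (T h t : SL(2, F)) = T ((Fin.natAdd_injective 2 2).ne h) t := hi_T (k := 0) h t

theorem pm_p2_lo (x : SL(2, F)) :
    (pm (p2 k) : SpecialLinearGroup (Ix k) F) * lo F k x * (pm (p2 k))⁻¹ = lo F k (Seven.sw x) := by
  refine DFunLike.congr_fun (hom_ext (α := Fin 2) (φ := ((MulAut.conj (pm (p2 k) : SpecialLinearGroup (Ix k) F)) :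
    _ ≃* _).toMonoidHom.comp (lo F k)) (ψ := (lo F k).comp (Seven.sw (F := F)).toMonoidHom)
    fun i j h t => ?_) x
  simp only [MonoidHom.comp_apply, MulEquiv.coe_toMonoidHom, MulAut.conj_apply, sw_T, lo_T, pm_conj_T]
  obtain ⟨q0, q1, -, -⟩ := p2_vals k
  have v0 : Fin.castAdd (k + 2) (0 : Fin 2) = j0 k := rfl
  have v1 : Fin.castAdd (k + 2) (1 : Fin 2) = j1 k := rfl
  refine T_congr _ t ?_ ?_ <;> fin_cases i <;> fin_cases j <;>
    first | exact absurd rfl h | (simp only [Fin.zero_eta, Fin.mk_one]; simp only [v0, v1, q0, q1])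

theorem pm_p2_hi (x : SL(2, F)) :
    (pm (p2 0) : SpecialLinearGroup (Ix 0) F) * hi F 0 x * (pm (p2 0))⁻¹ = hi F 0 (Seven.sw x) := by
  refine DFunLike.congr_fun (hom_ext (α := Fin 2) (φ := ((MulAut.conj (pm (p2 0) : SpecialLinearGroup (Ix 0) F)) :
    _ ≃* _).toMonoidHom.comp (hi F 0)) (ψ := (hi F 0).comp (Seven.sw (F := F)).toMonoidHom)
    fun i j h t => ?_) x
  simp only [MonoidHom.comp_apply, MulEquiv.coe_toMonoidHom, MulAut.conj_apply, sw_T, hi_T0, pm_conj_T]
  obtain ⟨-, -, q2, q3⟩ := p2_vals 0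
  have v0 : Fin.natAdd 2 (0 : Fin 2) = j2 0 := rfl
  have v1 : Fin.natAdd 2 (1 : Fin 2) = j3 0 := rfl
  refine T_congr _ t ?_ ?_ <;> fin_cases i <;> fin_cases j <;>
    first | exact absurd rfl h | (simp only [Fin.zero_eta, Fin.mk_one]; simp only [v0, v1, q2, q3])

theorem pm_sg_lo (x : SL(2, F)) :
    (pm (sg 0) : SpecialLinearGroup (Ix 0) F) * lo F 0 x * (pm (sg 0))⁻¹ = hi F 0 x := by
  refine DFunLike.congr_fun (hom_ext (α := Fin 2) (φ := ((MulAut.conj (pm (sg 0) : SpecialLinearGroup (Ix 0) F)) :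
    _ ≃* _).toMonoidHom.comp (lo F 0)) (ψ := hi F 0)
    fun i j h t => ?_) x
  simp only [MonoidHom.comp_apply, MulEquiv.coe_toMonoidHom, MulAut.conj_apply, lo_T, hi_T0, pm_conj_T]
  obtain ⟨q0, q1, -, -⟩ := sg_vals 0
  have u0 : Fin.castAdd 2 (0 : Fin 2) = j0 0 := rfl
  have u1 : Fin.castAdd 2 (1 : Fin 2) = j1 0 := rfl
  have v0 : Fin.natAdd 2 (0 : Fin 2) = j2 0 := rfl
  have v1 : Fin.natAdd 2 (1 : Fin 2) = j3 0 := rfl
  refine T_congr _ t ?_ ?_ <;> fin_cases i <;> fin_cases j <;>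
    first | exact absurd rfl h | (simp only [Fin.zero_eta, Fin.mk_one]; simp only [u0, u1, v0, v1, q0, q1])

theorem pm_sg_hi (x : SL(2, F)) :
    (pm (sg 0) : SpecialLinearGroup (Ix 0) F) * hi F 0 x * (pm (sg 0))⁻¹ = lo F 0 x := by
  refine DFunLike.congr_fun (hom_ext (α := Fin 2) (φ := ((MulAut.conj (pm (sg 0) : SpecialLinearGroup (Ix 0) F)) :
    _ ≃* _).toMonoidHom.comp (hi F 0)) (ψ := lo F 0)
    fun i j h t => ?_) x
  simp only [MonoidHom.comp_apply, MulEquiv.coe_toMonoidHom, MulAut.conj_apply, lo_T, hi_T0, pm_conj_T]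
  obtain ⟨-, -, q2, q3⟩ := sg_vals 0
  have u0 : Fin.castAdd 2 (0 : Fin 2) = j0 0 := rfl
  have u1 : Fin.castAdd 2 (1 : Fin 2) = j1 0 := rfl
  have v0 : Fin.natAdd 2 (0 : Fin 2) = j2 0 := rfl
  have v1 : Fin.natAdd 2 (1 : Fin 2) = j3 0 := rfl
  refine T_congr _ t ?_ ?_ <;> fin_cases i <;> fin_cases j <;>
    first | exact absurd rfl h | (simp only [Fin.zero_eta, Fin.mk_one]; simp only [u0, u1, v0, v1, q2, q3])

/-- Commutation spreads from one element under the symmetries. -/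
theorem spread {H : Type*} [Group H] (φ ψ : SL(2, F) →* H) {u : SL(2, F)}
    (hu : Subgroup.closure ({u, Seven.star u} : Set SL(2, F)) = ⊤) (h0 : Commute (φ u) (ψ u))
    (hstar : ∀ x y, Commute (φ x) (ψ y) → Commute (φ (Seven.star x)) (ψ y))
    (θ : SL(2, F) → SL(2, F)) (hθ : θ u = u ∨ θ u = Seven.star u)
    (hsymm : ∀ x y, Commute (φ x) (ψ y) → Commute (φ (θ y)) (ψ x)) (x y : SL(2, F)) :
    Commute (φ x) (ψ y) := by
  have hcl : ∀ {v : SL(2, F)} {z : H}, Commute (φ v) z → Commute (φ (Seven.star v)) z →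
      Subgroup.closure ({v, Seven.star v} : Set SL(2, F)) = ⊤ → ∀ x, Commute (φ x) z := by
    intro v z h1 h2 hv x
    have hx : x ∈ (Subgroup.centralizer ({z} : Set H)).comap φ := by
      refine (?_ : Subgroup.closure ({v, Seven.star v} : Set SL(2, F)) ≤ _) (hv ▸ Subgroup.mem_top x)
      rw [Subgroup.closure_le]
      rintro w (rfl | rfl)
      · exact Subgroup.mem_centralizer_singleton_iff.2 h1.eq
      · exact Subgroup.mem_centralizer_singleton_iff.2 h2.eq
    exact Subgroup.mem_centralizer_singleton_iff.1 hx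
  have hall : ∀ x, Commute (φ x) (ψ u) := hcl h0 (hstar _ _ h0) hu
  have hu' : ∀ y, Commute (φ (θ u)) (ψ y) := fun y => hsymm y u (hall y)
  rcases hθ with e | e <;> rw [e] at hu'
  · exact hcl (hu' y) (hstar _ _ (hu' y)) hu x
  · refine hcl (v := Seven.star u) (hu' y) (hstar _ _ (hu' y)) ?_ x
    rw [Seven.star_star, Set.pair_comm, hu]

theorem e_s12 (S : Pre k F G) :
    S.e (j1 k) (j2 k) = S.A (pm (s12 k)) * S.w * (S.A (pm (s12 k)))⁻¹ := by
  rw [S.e_symm, S.e_eq (s12_vals k).1 (s12_vals k).2]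

/-- The relations give all relations. -/
theorem exists_sys (A : SpecialLinearGroup (Ix k) F →* G) (w : G) {u : SL(2, F)}
    (h1 : Subgroup.closure ({u, Seven.sw u} : Set SL(2, F)) = ⊤)
    (h2 : Subgroup.closure ({u, Seven.star u} : Set SL(2, F)) = ⊤)
    (g : Fin 2 → SpecialLinearGroup (Fin (k + 2)) F) (hg : Subgroup.closure (Set.range g) = ⊤)
    (r12 : ∀ i, w * A (hi F k (g i)) = A (hi F k (g i)) * w)
    (r3 : w * A (lo F k u) * w⁻¹ = A (lo F k (Seven.star u)))
    (r4 : w * A (pm (p2 k)) = A (pm (p2 k)) * w)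
    (r5 : A (pm (s02 k)) * w * (A (pm (s02 k)))⁻¹ * (A (pm (s12 k)) * w * (A (pm (s12 k)))⁻¹) = w)
    (r6 : Commute (A (lo F k u)) (A (pm (s12 k)) * w * (A (pm (s12 k)))⁻¹ * A (lo F k u) *
      (A (pm (s12 k)) * w * (A (pm (s12 k)))⁻¹)))
    (r7 : k = 0 → Commute (A (lo F k u)) (A (pm (s12 k)) * w * (A (pm (s12 k)))⁻¹ *
      A (pm (sg k) * lo F k u * (pm (sg k))⁻¹) * (A (pm (s12 k)) * w * (A (pm (s12 k)))⁻¹))) :
    ∃ S : Sys k F G, S.A = A ∧ S.w = w := by
  have cblk : ∀ x, w * A (hi F k x) = A (hi F k x) * w := by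
    intro x
    have hx : x ∈ (Subgroup.centralizer ({w} : Set G)).comap (A.comp (hi F k)) := by
      refine (?_ : Subgroup.closure (Set.range g) ≤ _) (hg ▸ Subgroup.mem_top x)
      rw [Subgroup.closure_le]
      rintro _ ⟨i, rfl⟩
      exact Subgroup.mem_centralizer_singleton_iff.2 (r12 i).symm
    exact (Subgroup.mem_centralizer_singleton_iff.1 hx).symm
  have cstar : ∀ x, w * A (lo F k x) * w⁻¹ = A (lo F k (Seven.star x)) := by
    intro x
    have r3' : w * A (lo F k (Seven.sw u)) * w⁻¹ = A (lo F k (Seven.star (Seven.sw u))) := by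
      rw [Seven.star_sw, ← pm_p2_lo, ← pm_p2_lo]
      simp only [map_mul, map_inv]
      rw [← r3]
      have r4' : w * (A (pm (p2 k)))⁻¹ = (A (pm (p2 k)))⁻¹ * w := (Commute.inv_right (show Commute w _ from r4)).eq
      have r4'' : (A (pm (p2 k)))⁻¹ * w⁻¹ = w⁻¹ * (A (pm (p2 k)))⁻¹ :=
        (Commute.inv_inv (show Commute w _ from r4)).eq.symm
      calc w * (A (pm (p2 k)) * A (lo F k u) * (A (pm (p2 k)))⁻¹) * w⁻¹
          = (w * A (pm (p2 k))) * A (lo F k u) * ((A (pm (p2 k)))⁻¹ * w⁻¹) := by simp only [mul_assoc]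
        _ = (A (pm (p2 k)) * w) * A (lo F k u) * (w⁻¹ * (A (pm (p2 k)))⁻¹) := by rw [r4, r4'']
        _ = _ := by simp only [mul_assoc]
    let φ : SL(2, F) →* G := ((MulAut.conj w : G ≃* G).toMonoidHom.comp A).comp (lo F k)
    let ψ : SL(2, F) →* G := (A.comp (lo F k)).comp (Seven.star (F := F)).toMonoidHom
    refine DFunLike.congr_fun (MonoidHom.eq_of_eqOn_dense h1 (f := φ) (g := ψ) ?_) x
    rintro _ (rfl | rfl)
    · exact r3
    · exact r3'
  let P : Pre k F G := ⟨A, w, cblk, cstar, r4, r5⟩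
  have he : P.e (j1 k) (j2 k) = A (pm (s12 k)) * w * (A (pm (s12 k)))⁻¹ := e_s12 P
  rw [← he] at r6 r7
  have h01 : j0 k ≠ j1 k := by simp [Fin.ext_iff]
  have h12 : j1 k ≠ j2 k := by simp [Fin.ext_iff]
  have h02 : j0 k ≠ j2 k := by simp [Fin.ext_iff]
  set c := P.e (j1 k) (j2 k) with hc
  have hcc : c * c = 1 := P.e_sq _ _
  let L : SL(2, F) →* G := A.comp (lo F k)
  let cJ : G →* G := (MulAut.conj c : G ≃* G).toMonoidHom
  have hcJ : ∀ z, cJ z = c * z * c := fun z => by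
    show c * z * c⁻¹ = _
    rw [P.e_inv]
  -- the diagonal symmetry
  set D : G := A (hd h12 (-1)) with hD
  have hDc : Commute D c := by
    have e := P.flip_hd h12 (-1)
    rw [hd_symm h12, inv_neg, inv_one] at e
    show D * c = c * D
    conv_lhs => rw [hD, ← e]
    rw [mul_assoc, hcc, mul_one]
  -- the permutation symmetry
  set Pp : G := A (pm (p2 k)) with hPp
  have hPc : Pp * c * Pp⁻¹ = P.e (j0 k) (j1 k) * c * P.e (j2 k) (j3 k) := by
    obtain ⟨-, q1, q2, -⟩ := p2_vals k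
    rw [hPp, hc, P.e_pm, q1, q2, ← P.E_pair, ← P.E_pair, ← P.E_pair, ← P.E_pair, ← P.E_add, ← P.E_add]
    congr 1
    funext i
    simp only [Pi.add_apply]
    have key : ∀ a b c d : ZMod 2, a + d = a + b + (b + c) + (c + d) := by decide
    exact key _ _ _ _
  have stepD : ∀ z, cJ (D * z * D⁻¹) = D * cJ z * D⁻¹ := fun z => by
    rw [hcJ, hcJ]
    calc c * (D * z * D⁻¹) * c = (c * D) * z * (D⁻¹ * c) := by simp only [mul_assoc]
      _ = (D * c) * z * (c * D⁻¹) := by rw [hDc.eq, (Commute.inv_left hDc).eq]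
      _ = _ := by simp only [mul_assoc]
  have stepP : ∀ z z', P.e (j2 k) (j3 k) * (Pp * z * Pp⁻¹) * P.e (j2 k) (j3 k) = z' →
      Pp * cJ z * Pp⁻¹ = cJ (P.e (j0 k) (j1 k) * z' * P.e (j0 k) (j1 k)) := by
    intro z z' hz
    have hwc : P.e (j0 k) (j1 k) * c = c * P.e (j0 k) (j1 k) := by
      rw [hc, P.e_symm (j0 k) (j1 k)]
      exact (P.e_comm_share _ _ _).eq
    have hcinv : c = c⁻¹ := (P.e_inv _ _).symm
    have e1 : Pp * cJ z * Pp⁻¹ = (Pp * c * Pp⁻¹) * (Pp * z * Pp⁻¹) * (Pp * c * Pp⁻¹)⁻¹ := by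
      rw [hcJ, _root_.mul_inv_rev, _root_.mul_inv_rev, inv_inv, ← hcinv]
      simp [mul_assoc]
    rw [e1, hPc, _root_.mul_inv_rev, _root_.mul_inv_rev, ← hcinv, P.e_inv, P.e_inv, hcJ, ← hz]
    calc P.e (j0 k) (j1 k) * c * P.e (j2 k) (j3 k) * (Pp * z * Pp⁻¹) *
          (P.e (j2 k) (j3 k) * (c * P.e (j0 k) (j1 k)))
        = (P.e (j0 k) (j1 k) * c) * (P.e (j2 k) (j3 k) * (Pp * z * Pp⁻¹) * P.e (j2 k) (j3 k)) *
          (c * P.e (j0 k) (j1 k)) := by simp only [mul_assoc]
      _ = (c * P.e (j0 k) (j1 k)) * (P.e (j2 k) (j3 k) * (Pp * z * Pp⁻¹) * P.e (j2 k) (j3 k)) *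
          (P.e (j0 k) (j1 k) * c) := by rw [← hwc]
      _ = _ := by simp only [mul_assoc]
  have hwlo : ∀ x, P.e (j0 k) (j1 k) * A (lo F k x) * P.e (j0 k) (j1 k) = A (lo F k (Seven.star x)) := fun x => by
    rw [P.e_base]
    have hw2 : P.w⁻¹ = P.w := by rw [← P.e_base, P.e_inv]
    calc w * A (lo F k x) * w = w * A (lo F k x) * w⁻¹ := by rw [show w⁻¹ = w from hw2]
      _ = _ := cstar x
  have Dlo : ∀ x, D * A (lo F k x) * D⁻¹ = A (lo F k (Seven.star (Seven.sw x))) := by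
    intro x
    rw [hD, ← map_inv, ← map_mul, ← map_mul]
    congr 1
    refine DFunLike.congr_fun (hom_ext (α := Fin 2) (φ := ((MulAut.conj (hd h12 (-1 : Fˣ) : SpecialLinearGroup (Ix k) F)) :
      _ ≃* _).toMonoidHom.comp (lo F k))
      (ψ := (lo F k).comp (((Seven.sw (F := F)).trans Seven.star)).toMonoidHom) fun i j h t => ?_) x
    simp only [MonoidHom.comp_apply, MulEquiv.coe_toMonoidHom, MulAut.conj_apply, MulEquiv.trans_apply, sw_T,
      star_T, lo_T, hd_conj_T]
    have v0 : Fin.castAdd (k + 2) (0 : Fin 2) = j0 k := rfl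
    have v1 : Fin.castAdd (k + 2) (1 : Fin 2) = j1 k := rfl
    congr 1
    fin_cases i <;> fin_cases j <;>
      first | exact absurd rfl h | (simp only [Fin.zero_eta, Fin.mk_one, v0, v1]; simp [hv, h01, h02, h12])
  have Plo : ∀ x, Pp * A (lo F k x) * Pp⁻¹ = A (lo F k (Seven.sw x)) := fun x => by
    rw [hPp, ← map_inv, ← map_mul, ← map_mul, pm_p2_lo]
  -- the two symmetries combined
  have combo : ∀ (ν : SL(2, F) →* G), (∀ z, D * ν z * D⁻¹ = ν (Seven.star (Seven.sw z))) →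
      (∀ z, P.e (j0 k) (j1 k) * (P.e (j2 k) (j3 k) * (Pp * ν z * Pp⁻¹) * P.e (j2 k) (j3 k)) *
        P.e (j0 k) (j1 k) = ν (Seven.star (Seven.sw z))) →
      ∀ x y, Commute (L x) (cJ (ν y)) → Commute (L (Seven.star x)) (cJ (ν y)) := by
    intro ν hν hν' x y h
    have h' := h.map (MulAut.conj (Pp * D) : G ≃* G)
    simp only [MulAut.conj_apply, _root_.mul_inv_rev] at h'
    have e : ∀ z, Pp * D * z * (D⁻¹ * Pp⁻¹) = Pp * (D * z * D⁻¹) * Pp⁻¹ := fun z => by simp only [mul_assoc]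
    simp only [e] at h'
    rw [← stepD, hν, stepP _ _ rfl, hν'] at h'
    simp only [L, MonoidHom.comp_apply] at h' ⊢
    rw [Dlo, Plo] at h'
    have es : ∀ z : SL(2, F), Seven.star (Seven.sw (Seven.star (Seven.sw z))) = z := fun z => by
      rw [Seven.star_sw (Seven.star (Seven.sw z)), Seven.star_star, Seven.sw_sw]
    rw [es] at h'
    have es2 : Seven.sw (Seven.star (Seven.sw x)) = Seven.star x := by
      rw [← Seven.star_sw, Seven.sw_sw]
    rwa [es2] at h'
  have same : ∀ x y, Commute (L x) (cJ (L y)) := by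
    refine fun x y => spread L (cJ.comp L) h2 ?_ ?_ id (Or.inl rfl) ?_ x y
    · show Commute (A (lo F k u)) (cJ (A (lo F k u)))
      rw [hcJ]; exact r6
    · intro x y h
      refine combo L Dlo (fun z => ?_) x y h
      show _ = L _
      simp only [L, MonoidHom.comp_apply]
      rw [Plo]
      have hc23 : Commute (P.e (j2 k) (j3 k)) (A (lo F k (Seven.sw z))) := by
        have hmem : Seven.sw z ∈ (Subgroup.centralizer ({P.e (j2 k) (j3 k)} : Set G)).comap (A.comp (lo F k)) := by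
          refine (?_ : (⊤ : Subgroup SL(2, F)) ≤ _) (Subgroup.mem_top _)
          rw [← Cfsg.Lib.Linear.closure_transvection_eq_top (ι := Fin 2) (F := F), Subgroup.closure_le]
          rintro _ ⟨a, b, hab, t, rfl⟩
          refine Subgroup.mem_centralizer_singleton_iff.2 ?_
          show A (lo F k (T hab t)) * _ = _ * A (lo F k (T hab t))
          rw [lo_T]
          refine (P.e_fix _ t ?_ ?_ ?_ ?_).eq.symm <;> intro e <;> have := congrArg Fin.val e <;> simp at this <;> omega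
        exact (Subgroup.mem_centralizer_singleton_iff.1 hmem).symm
      rw [hc23.eq, mul_assoc (A _) (P.e _ _) (P.e _ _), P.e_sq, mul_one, hwlo]
    · intro x y h
      have h' := h.map cJ
      simp only [MonoidHom.comp_apply, hcJ, id] at h' ⊢
      have e : ∀ z, c * (c * z * c) * c = z := fun z => by
        rw [show c * (c * z * c) * c = (c * c) * z * (c * c) by simp only [mul_assoc], hcc, one_mul, mul_one]
      rw [e] at h'
      exact h'.symm
  refine ⟨{ toPre := P, same := fun x y => ?_, disj := ?_ }, rfl, rfl⟩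
  · have := same x y
    rwa [hcJ] at this
  intro hk
  subst hk
  let N : SL(2, F) →* G := A.comp (hi F 0)
  have h23 : j2 0 ≠ j3 0 := by simp [Fin.ext_iff]
  have hwhi : ∀ z, P.e (j0 0) (j1 0) * N z * P.e (j0 0) (j1 0) = N z := fun z => by
    rw [P.e_base]
    show P.w * A (hi F 0 z) * P.w = _
    rw [cblk, mul_assoc]
    have : P.w * P.w = 1 := by rw [← P.e_base, P.e_sq]
    rw [this, mul_one]
    rfl
  have h23e : ∀ z, P.e (j2 0) (j3 0) * N z * P.e (j2 0) (j3 0) = N (Seven.star z) := fun z => by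
    obtain ⟨q0, q1, -, -⟩ := sg_vals 0
    show P.e _ _ * A (hi F 0 z) * P.e _ _ = A (hi F 0 _)
    rw [← q0, ← q1, ← P.e_pm, ← pm_sg_lo, ← pm_sg_lo, map_mul, map_mul, map_mul, map_mul, map_inv, ← hwlo]
    have hPA : ∀ x, P.A x = A x := fun _ => rfl
    simp [hPA, mul_assoc, P.e_inv]
  have disj : ∀ x y, Commute (L x) (cJ (N y)) := by
    refine fun x y => spread L (cJ.comp N) h2 ?_ ?_ Seven.star (Or.inr rfl) ?_ x y
    · have := r7 rfl
      rw [pm_sg_lo] at this
      show Commute (A (lo F 0 u)) (cJ (A (hi F 0 u)))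
      rw [hcJ]
      exact this
    · intro x y h
      refine combo N (fun z => ?_) (fun z => ?_) x y h
      · show D * A (hi F 0 z) * D⁻¹ = A (hi F 0 _)
        rw [hD, ← map_inv, ← map_mul, ← map_mul]
        congr 1
        refine DFunLike.congr_fun (hom_ext (α := Fin 2) (φ := ((MulAut.conj (hd h12 (-1 : Fˣ) : SpecialLinearGroup (Ix 0) F)) :
          _ ≃* _).toMonoidHom.comp (hi F 0))
          (ψ := (hi F 0).comp (((Seven.sw (F := F)).trans Seven.star)).toMonoidHom) fun i j h t => ?_) z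
        simp only [MonoidHom.comp_apply, MulEquiv.coe_toMonoidHom, MulAut.conj_apply, MulEquiv.trans_apply, sw_T,
          star_T, hi_T0, hd_conj_T]
        have v0 : Fin.natAdd 2 (0 : Fin 2) = j2 0 := rfl
        have v1 : Fin.natAdd 2 (1 : Fin 2) = j3 0 := rfl
        have h13 : j1 0 ≠ j3 0 := by simp [Fin.ext_iff]
        congr 1
        fin_cases i <;> fin_cases j <;>
          first | exact absurd rfl h | (simp only [Fin.zero_eta, Fin.mk_one, v0, v1]; simp [hv, h13.symm, h12.symm, h23.symm])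
      · have e : Pp * N z * Pp⁻¹ = N (Seven.sw z) := by
          show Pp * A (hi F 0 z) * Pp⁻¹ = A (hi F 0 _)
          rw [hPp, ← map_inv, ← map_mul, ← map_mul, pm_p2_hi]
        rw [e, h23e, hwhi]
    · intro x y h
      set s : G := A (pm (sg 0)) with hs
      obtain ⟨-, q1, q2, -⟩ := sg_vals 0
      have hsc : s * c * s⁻¹ = P.e (j0 0) (j1 0) * c * P.e (j2 0) (j3 0) := by
        rw [hs, hc, P.e_pm, q1, q2, ← P.E_pair, ← P.E_pair, ← P.E_pair, ← P.E_pair, ← P.E_add, ← P.E_add]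
        congr 1
        funext i
        simp only [Pi.add_apply]
        have key : ∀ a b c d : ZMod 2, d + a = a + b + (b + c) + (c + d) := by decide
        exact key _ _ _ _
      have h' := h.map (MulAut.conj s : G ≃* G)
      simp only [MonoidHom.comp_apply, MulAut.conj_apply, hcJ, L, N] at h' ⊢
      have eA : s * A (lo F 0 x) * s⁻¹ = A (hi F 0 x) := by
        rw [hs, ← map_inv, ← map_mul, ← map_mul, pm_sg_lo]
      have eB : s * A (hi F 0 y) * s⁻¹ = A (lo F 0 y) := by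
        rw [hs, ← map_inv, ← map_mul, ← map_mul, pm_sg_hi]
      have hwc : P.e (j0 0) (j1 0) * c = c * P.e (j0 0) (j1 0) := by
        rw [hc, P.e_symm (j0 0) (j1 0)]
        exact (P.e_comm_share _ _ _).eq
      have h3c : P.e (j2 0) (j3 0) * c = c * P.e (j2 0) (j3 0) := by
        rw [hc, P.e_symm (j1 0) (j2 0)]
        exact (P.e_comm_share _ _ _).eq
      have h3l : ∀ z, P.e (j2 0) (j3 0) * A (lo F 0 z) * P.e (j2 0) (j3 0) = A (lo F 0 z) := by
        intro z
        obtain ⟨q0, q1, -, -⟩ := sg_vals 0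
        rw [← q0, ← q1, ← P.e_pm, P.e_base, ← pm_sg_hi, map_mul, map_mul, map_inv]
        have hsq : w * w = 1 := by
          show P.w * P.w = 1
          rw [← P.e_base, P.e_sq]
        have key : ∀ (z : SL(2, F)) (R : G), w * (A (hi F 0 z) * (w * R)) = A (hi F 0 z) * R := fun z R => by
          rw [← mul_assoc, cblk, mul_assoc, ← mul_assoc w w, hsq, one_mul]
        show A (pm (sg 0)) * w * (A (pm (sg 0)))⁻¹ * _ * (A (pm (sg 0)) * w * (A (pm (sg 0)))⁻¹) = _
        simp [mul_assoc, key]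
      have e2 : s * (c * A (hi F 0 y) * c) * s⁻¹ = c * A (lo F 0 (Seven.star y)) * c := by
        calc s * (c * A (hi F 0 y) * c) * s⁻¹ = (s * c * s⁻¹) * (s * A (hi F 0 y) * s⁻¹) * (s * c * s⁻¹) := by
              simp [mul_assoc]
          _ = (P.e (j0 0) (j1 0) * c * P.e (j2 0) (j3 0)) * A (lo F 0 y) *
              (P.e (j0 0) (j1 0) * c * P.e (j2 0) (j3 0)) := by rw [hsc, eB]
          _ = (c * P.e (j0 0) (j1 0)) * P.e (j2 0) (j3 0) * A (lo F 0 y) *
              (P.e (j2 0) (j3 0) * (P.e (j0 0) (j1 0) * c)) := by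
              have h03 : P.e (j0 0) (j1 0) * P.e (j2 0) (j3 0) = P.e (j2 0) (j3 0) * P.e (j0 0) (j1 0) := by
                rw [← P.E_pair, ← P.E_pair, ← P.E_add, ← P.E_add, add_comm]
              have hy : P.e (j0 0) (j1 0) * c * P.e (j2 0) (j3 0) = P.e (j2 0) (j3 0) * (P.e (j0 0) (j1 0) * c) := by
                rw [mul_assoc, ← h3c, ← mul_assoc, h03, mul_assoc]
              conv_lhs => arg 2; rw [hy]
              rw [hwc]
          _ = c * (P.e (j0 0) (j1 0) * (P.e (j2 0) (j3 0) * A (lo F 0 y) * P.e (j2 0) (j3 0)) *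
              P.e (j0 0) (j1 0)) * c := by simp only [mul_assoc]
          _ = _ := by rw [h3l, hwlo]
      rw [eA, e2] at h'
      have h'' := h'.map cJ
      simp only [hcJ] at h''
      have e : ∀ z, c * (c * z * c) * c = z := fun z => by
        rw [show c * (c * z * c) * c = (c * c) * z * (c * c) by simp only [mul_assoc], hcc, one_mul, mul_one]
      rw [e] at h''
      exact h''.symm
  intro x y
  have := disj x y
  rwa [hcJ] at this

end Cfsg.Lib.Linear.ShortPres.OmegaPlus
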