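import Cfsg.Agent.Lib.Linear.ShortPres.OmegaPlus.Model
import Cfsg.Agent.Lib.Linear.ShortPres.OmegaPlus.Rels
import Cfsg.Agent.Lib.Linear.ShortPres.SLN.Seven.Main
import Cfsg.Agent.S2278
import Cfsg.Agent.S2279

/-!
# Presentations of the plus type orthogonal groups
-/

set_option autoImplicit false
set_option linter.unusedSectionVars false

namespace Cfsg.Lib.Linear.ShortPres.OmegaPlus

open Equiv Matrix
open Cfsg.Lib.Linear.ShortPres.SLN
open scoped MatrixGroups

variable {F : Type*} [Field F] [Fintype F]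

theorem two_gen : ∀ k : ℕ, ∃ g : Fin 2 → SpecialLinearGroup (Fin (k + 2)) F,
    Subgroup.closure (Set.range g) = ⊤ := by
  intro k
  suffices h : ∃ a b : SpecialLinearGroup (Fin (k + 2)) F, Subgroup.closure ({a, b} : Set _) = ⊤ by
    obtain ⟨a, b, hab⟩ := h
    refine ⟨![a, b], ?_⟩
    rw [eq_top_iff, ← hab]
    refine Subgroup.closure_mono ?_
    rintro x (rfl | rfl)
    · exact ⟨0, rfl⟩
    · exact ⟨1, rfl⟩
  rcases k with _ | _ | k
  · obtain ⟨u, hu⟩ := Seven.exists_pair (F := F)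
    exact ⟨u, Seven.sw u, hu⟩
  · obtain ⟨u, g, -, -, h⟩ := Cfsg.Agent.S2278.result (F := F)
    exact ⟨u, g * u * g⁻¹, h⟩
  · obtain ⟨⟨u, v, -, -, h⟩, -⟩ := Cfsg.Agent.S2279.result (F := F) (k + 1 + 1 + 2) (by omega)
    exact ⟨u, v, h⟩

set_option maxHeartbeats 1000000 in
/-- The linking relations give the orthogonal group. -/
theorem bddG_omega (k : ℕ) {r₁ k₁ : ℕ} (h : BddG (SpecialLinearGroup (Ix k) F) k₁ r₁) :
    BddG ↥(Omega F (Qp F k)) (k₁ + 1) (r₁ + if k = 0 then 7 else 6) := by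
  classical
  obtain ⟨u, hu1, hu2⟩ := Seven.exists_pair_star (F := F)
  obtain ⟨g, hg⟩ := two_gen (F := F) k
  let a : SpecialLinearGroup (Ix k) F → FreeGroup (SpecialLinearGroup (Ix k) F ⊕ FreeGroup (Fin 1)) :=
    fun c => FreeGroup.of (Sum.inl c)
  let x : FreeGroup (SpecialLinearGroup (Ix k) F ⊕ FreeGroup (Fin 1)) :=
    FreeGroup.of (Sum.inr (FreeGroup.of 0))
  let y : FreeGroup (SpecialLinearGroup (Ix k) F ⊕ FreeGroup (Fin 1)) :=
    a (pm (s12 k)) * x * (a (pm (s12 k)))⁻¹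
  let z7 : SpecialLinearGroup (Ix k) F := pm (sg k) * lo F k u * (pm (sg k))⁻¹
  let r7 : List (FreeGroup (SpecialLinearGroup (Ix k) F ⊕ FreeGroup (Fin 1)) ×
      FreeGroup (SpecialLinearGroup (Ix k) F ⊕ FreeGroup (Fin 1))) :=
    if k = 0 then [(a (lo F k u) * (y * a z7 * y), y * a z7 * y * a (lo F k u))] else []
  let L : List (FreeGroup (SpecialLinearGroup (Ix k) F ⊕ FreeGroup (Fin 1)) ×
      FreeGroup (SpecialLinearGroup (Ix k) F ⊕ FreeGroup (Fin 1))) :=
    [(x * a (hi F k (g 0)), a (hi F k (g 0)) * x), (x * a (hi F k (g 1)), a (hi F k (g 1)) * x),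
      (x * a (lo F k u) * x⁻¹, a (lo F k (Seven.star u))), (x * a (pm (p2 k)), a (pm (p2 k)) * x),
      (a (pm (s02 k)) * x * (a (pm (s02 k)))⁻¹ * y, x),
      (a (lo F k u) * (y * a (lo F k u) * y), y * a (lo F k u) * y * a (lo F k u))] ++ r7
  have hlen : L.length = if k = 0 then 7 else 6 := by
    by_cases hk : k = 0 <;> simp [L, r7, hk]
  let B₀ : FreeGroup (Fin 1) →* ↥(Omega F (Qp F k)) := FreeGroup.lift fun _ => w1 F k
  have hB₀ : B₀ (FreeGroup.of 0) = w1 F k := FreeGroup.lift_apply_of ..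
  rw [← hlen, ← Nat.add_zero r₁]
  refine h.combine BddG.free (A0 F k) B₀ ?_ L ?_ ?_
  · rw [eq_top_iff, ← gen_omega, Subgroup.closure_le]
    rintro _ (⟨c, rfl⟩ | rfl)
    · exact Subgroup.subset_closure (Or.inl ⟨c, rfl⟩)
    · exact Subgroup.subset_closure (Or.inr ⟨_, hB₀⟩)
  · obtain ⟨S, hA, hw⟩ := exists_model (F := F) (k := k)
    have ha : ∀ c, FreeGroup.lift (Sum.elim (A0 F k) B₀) (a c) = S.A c := fun c => by
      rw [hA]; simp [a]
    have hx : FreeGroup.lift (Sum.elim (A0 F k) B₀) x = S.w := by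
      rw [hw]; simp [x, hB₀]
    have hy : FreeGroup.lift (Sum.elim (A0 F k) B₀) y = S.toPre.e (j1 k) (j2 k) := by
      rw [e_s12, map_mul, map_mul, map_inv, ha, hx]
    intro e he
    simp only [L, List.mem_append, List.mem_cons, List.not_mem_nil, or_false] at he
    rcases he with (rfl | rfl | rfl | rfl | rfl | rfl) | he
    all_goals try simp only [map_mul, map_inv, ha, hx, hy]
    · exact S.cblk _
    · exact S.cblk _
    · exact S.cstar _
    · exact S.cswap
    · rw [e_s12]; exact S.tri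
    · exact (S.same u u).eq
    · by_cases hk : k = 0
      · simp only [r7, if_pos hk, List.mem_cons, List.not_mem_nil, or_false] at he
        subst he
        simp only [map_mul, map_inv, ha, hy]
        subst hk
        rw [show z7 = hi F 0 u from pm_sg_lo u]
        exact (S.disj rfl u u).eq
      · simp [r7, hk] at he
  intro G _ A B hgen hL
  have hA' : ∀ c, FreeGroup.lift (Sum.elim A B) (a c) = A c := fun c => by simp [a]
  have hx' : FreeGroup.lift (Sum.elim A B) x = B (FreeGroup.of 0) := by simp [x]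
  let A' : SpecialLinearGroup (Ix k) F →* G × ↥(Omega F (Qp F k)) := A.prod (A0 F k)
  let w' : G × ↥(Omega F (Qp F k)) := (B (FreeGroup.of 0), w1 F k)
  set H := Subgroup.closure (Set.range A' ∪ {w'}) with hH
  let AH : SpecialLinearGroup (Ix k) F →* ↥H :=
    A'.codRestrict H fun c => Subgroup.subset_closure (Or.inl ⟨c, rfl⟩)
  let wH : ↥H := ⟨w', Subgroup.subset_closure (Or.inr rfl)⟩
  obtain ⟨S₀, hSA, hSw⟩ := exists_model (F := F) (k := k)
  have ext2 : ∀ p q : ↥H, (p.1).1 = (q.1).1 → (p.1).2 = (q.1).2 → p = q := fun p q h1 h2 =>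
    Subtype.ext (Prod.ext h1 h2)
  have hG : ∀ e ∈ L, FreeGroup.lift (Sum.elim A B) e.1 = FreeGroup.lift (Sum.elim A B) e.2 := hL
  simp only [L, List.forall_mem_append, List.forall_mem_cons] at hG
  obtain ⟨⟨e1, e2, e3, e4, e5, e6, -⟩, e7⟩ := hG
  simp only [y, map_mul, map_inv, hA', hx'] at e1 e2 e3 e4 e5 e6
  let fG : ↥H →* G := (MonoidHom.fst _ _).comp H.subtype
  let fM : ↥H →* ↥(Omega F (Qp F k)) := (MonoidHom.snd _ _).comp H.subtype
  have g0 : fG wH = B (FreeGroup.of 0) := rfl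
  have m0 : fM wH = w1 F k := rfl
  have gA : ∀ c, fG (AH c) = A c := fun _ => rfl
  have mA : ∀ c, fM (AH c) = A0 F k c := fun _ => rfl
  have both : ∀ {p q : ↥H}, fG p = fG q → fM p = fM q → p = q := fun h1 h2 => ext2 _ _ h1 h2
  have m12 : S₀.toPre.e (j1 k) (j2 k) = A0 F k (pm (s12 k)) * w1 F k * (A0 F k (pm (s12 k)))⁻¹ := by
    rw [e_s12, hSA, hSw]
  obtain ⟨S, hA, hw⟩ : ∃ S : Sys k F ↥H, S.A = AH ∧ S.w = wH := by
    refine exists_sys AH wH hu1 hu2 g hg (fun i => both ?_ ?_) (both ?_ ?_) (both ?_ ?_) (both ?_ ?_) (both ?_ ?_)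
      (fun hk => both ?_ ?_)
    all_goals simp only [map_mul, map_inv, g0, gA, m0, mA]
    · fin_cases i
      exacts [e1, e2]
    · rw [← hSA, ← hSw]; exact S₀.cblk _
    · exact e3
    · rw [← hSA, ← hSw]; exact S₀.cstar _
    · exact e4
    · rw [← hSA, ← hSw]; exact S₀.cswap
    · exact e5
    · rw [← hSA, ← hSw]; exact S₀.tri
    · exact e6
    · rw [← m12, ← hSA]; exact (S₀.same u u).eq
    · simp only [r7, if_pos hk, List.mem_cons, List.not_mem_nil, or_false, forall_eq] at e7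
      simpa only [y, z7, map_mul, map_inv, hA', hx'] using e7
    · subst hk
      rw [← m12, ← hSA, ← map_inv S₀.A, ← map_mul S₀.A, ← map_mul S₀.A, pm_sg_lo]
      exact (S₀.disj rfl u u).eq
  have hgenH : Subgroup.closure (Set.range S.A ∪ {S.w}) = ⊤ := by
    rw [hA, hw, eq_top_iff, ← Subgroup.closure_closure_coe_preimage]
    refine Subgroup.closure_mono ?_
    rintro ⟨p, hp'⟩ hp
    rcases hp with ⟨c, hc⟩ | hp
    · exact Or.inl ⟨c, Subtype.ext hc⟩
    · exact Or.inr (Subtype.ext hp)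
  let R : Rep S.toPre := ⟨(P0 F k).comp fM, fun c p q => by
      rw [hA, MonoidHom.comp_apply, mA]; exact P0_A c p q,
    fun p q => by rw [hw, MonoidHom.comp_apply, m0]; exact P0_w p q⟩
  have hinj : Function.Injective fM := by
    have h := Sys.P_injective R (S.htop_of_gen hgenH)
    exact fun p q e => h (show P0 F k (fM p) = P0 F k (fM q) by rw [e])
  have hsurj : Function.Surjective fG := by
    rw [← MonoidHom.range_eq_top, eq_top_iff, ← hgen, Subgroup.closure_le]
    rintro _ (⟨c, rfl⟩ | ⟨c, rfl⟩)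
    · exact ⟨AH c, gA c⟩
    · have : B = fG.comp (FreeGroup.lift fun _ => wH) := FreeGroup.ext_hom _ _ fun i => by
        rw [Subsingleton.elim i 0, MonoidHom.comp_apply, FreeGroup.lift_apply_of, g0]
      rw [this]
      exact ⟨_, rfl⟩
  haveI : Finite ↥H := Finite.of_injective fM hinj
  exact ⟨Finite.of_surjective fG hsurj,
    (Nat.card_le_card_of_surjective fG hsurj).trans (Nat.card_le_card_of_injective fM hinj)⟩

/-- The presentations. -/
theorem presentations (k : ℕ) :
    BddG ↥(Omega F (Qp F k)) 8 31 ∧ BddG (POmega F (Qp F k)) 8 32 ∧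
      (k ≤ 1 → BddG ↥(Omega F (Qp F k)) 8 29 ∧ BddG (POmega F (Qp F k)) 8 30) := by
  have e : Pt k ≃ Ix k := Fintype.equivOfCardEq (by simp; omega)
  obtain ⟨z, hz⟩ := center_cyclic (F := F) (k := k)
  have small : k ≤ 1 → BddG ↥(Omega F (Qp F k)) 8 28 := by
    intro hk
    rcases k with _ | _ | k
    · exact ((bddG_omega 0 (Seven.bddG_four.of_equiv (rex e))).pad 1).mono (by simp)
    · exact ((bddG_omega 1 (Seven.bddG_five.of_equiv (rex e))).pad 1).mono (by simp)
    · omega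
  have large : BddG ↥(Omega F (Qp F k)) 8 31 := by
    by_cases hk : k ≤ 1
    · exact (small hk).mono (by omega)
    · exact (bddG_omega k ((Seven.bddG_large k (by omega)).of_equiv (rex e))).mono (by
        rw [if_neg (by omega)])
  refine ⟨large, Seven.bddG_quotient large _ z hz, fun hk => ⟨(small hk).mono (by norm_num), ?_⟩⟩
  exact (Seven.bddG_quotient (small hk) _ z hz).mono (by norm_num)

end Cfsg.Lib.Linear.ShortPres.OmegaPlus
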