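import Cfsg.Agent.Lib.Linear.ShortPres.OmegaPlus.Bruhat
import Cfsg.Agent.Lib.Linear.OrthLevi
import Cfsg.Agent.Lib.Linear.SpTensor.Gen

/-!
# The plus type orthogonal groups as a model of the relations
-/

set_option autoImplicit false
set_option linter.unusedSectionVars false

namespace Cfsg.Lib.Linear.ShortPres.OmegaPlus

open Equiv Matrix
open Cfsg.Lib.Linear.ShortPres.SLN
open scoped MatrixGroups

variable {F : Type*} [Field F] {k : ℕ} {G : Type*} [Group G]

/-! ## Systems from matrices -/

theorem hom_T {G : Type*} [Group G] {A : SpecialLinearGroup (Ix k) F →* G}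
    {P : G →* Matrix (SI k) (SI k) F}
    (hA : ∀ g a b, P (A g) a b = if a.2 = b.2 then (if a.2 = 0 then g.1 a.1 b.1 else (g⁻¹).1 b.1 a.1) else 0)
    {i j : Ix k} (h : i ≠ j) (t : F) :
    P (A (T h t)) = 1 + Matrix.single ((i, 0) : SI k) (j, 0) t - Matrix.single ((j, 1) : SI k) (i, 1) t := by
  ext x y
  rw [hA]
  have hinv : (T h t : SpecialLinearGroup (Ix k) F)⁻¹ = T h (-t) :=
    inv_eq_of_mul_eq_one_right (by rw [T_add, add_neg_cancel]; exact Subtype.ext (by simp [T_coe]))
  rw [hinv, T_coe, T_coe]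
  obtain ⟨x1, x2⟩ := x
  obtain ⟨y1, y2⟩ := y
  simp only [Matrix.add_apply, Matrix.sub_apply, Matrix.one_apply, Matrix.single_apply, Prod.mk.injEq]
  have key : ∀ z : ZMod 2, z = 0 ∨ z = 1 := by decide
  rcases key x2 with rfl | rfl <;> rcases key y2 with rfl | rfl
  all_goals simp [eq_comm, and_comm]
  split_ifs <;> ring

theorem hom_pm {G : Type*} [Group G] {A : SpecialLinearGroup (Ix k) F →* G}
    {P : G →* Matrix (SI k) (SI k) F}
    (hA : ∀ g a b, P (A g) a b = if a.2 = b.2 then (if a.2 = 0 then g.1 a.1 b.1 else (g⁻¹).1 b.1 a.1) else 0)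
    (π : alternatingGroup (Ix k)) : P (A (pm π)) = PM F (fun a : SI k => (π.1⁻¹ a.1, a.2)) := by
  ext a b
  rw [hA, ← map_inv, pm_apply, pm_apply]
  simp only [PM, Matrix.of_apply, Prod.ext_iff]
  by_cases h2 : a.2 = b.2
  · rw [if_pos h2, InvMemClass.coe_inv, inv_inv]
    by_cases h : π.1⁻¹ a.1 = b.1
    · have h' : π.1 b.1 = a.1 := by rw [← h, Perm.coe_inv, Equiv.apply_symm_apply]
      simp [h, h', h2.symm]
    · have h' : ¬ π.1 b.1 = a.1 := fun e => h (by rw [Perm.inv_eq_iff_eq, e])
      have h'' : ¬ (Equiv.symm π.1) a.1 = b.1 := h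
      simp [h, h', h'', Ne.symm h'']
  · simp [h2, Ne.symm h2]

/-- A faithful matrix model satisfies all relations. -/
theorem exists_sys_of_faithful (A : SpecialLinearGroup (Ix k) F →* G) (w : G)
    (P : G →* Matrix (SI k) (SI k) F) (hP : Function.Injective P)
    (hA : ∀ g a b, P (A g) a b = if a.2 = b.2 then (if a.2 = 0 then g.1 a.1 b.1 else (g⁻¹).1 b.1 a.1) else 0)
    (hw : P w = PM F (fl (Pi.single (j0 k) 1 + Pi.single (j1 k) 1))) :
    ∃ S : Sys k F G, S.A = A ∧ S.w = w := by
  have h01 : j0 k ≠ j1 k := by simp [Fin.ext_iff]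
  have h12 : j1 k ≠ j2 k := by simp [Fin.ext_iff]
  have h02 : j0 k ≠ j2 k := by simp [Fin.ext_iff]
  have h03 : j0 k ≠ j3 k := by simp [Fin.ext_iff]
  have h13 : j1 k ≠ j3 k := by simp [Fin.ext_iff]
  have h23 : j2 k ≠ j3 k := by simp [Fin.ext_iff]
  set p01 : Ix k → ZMod 2 := Pi.single (j0 k) 1 + Pi.single (j1 k) 1 with hp01
  have hww : w * w = 1 := hP (by
    rw [map_mul, hw, PM_comp, map_one]
    ext a b
    simp [PM, fl_fl, Matrix.one_apply, eq_comm])
  have hwinv : w⁻¹ = w := inv_eq_of_mul_eq_one_right hww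
  have hconj : ∀ (z : G) (a b : SI k), P (w * z * w) a b = P z (fl p01 a) (fl p01 b) := fun z a b => by
    rw [map_mul, map_mul, hw, mul_PM_apply, PM_mul_apply]
  have fl_big : ∀ a : SI k, 2 ≤ a.1.1 → fl p01 a = a := fun a ha => Prod.ext rfl (by
    have e0 : a.1 ≠ j0 k := fun e => by rw [e, j0_val] at ha; omega
    have e1 : a.1 ≠ j1 k := fun e => by rw [e, j1_val] at ha; omega
    simp [hp01, e0, e1])
  have fl_small : ∀ a : SI k, a.1.1 < 2 → fl p01 a = bar a := fun a ha => Prod.ext rfl (by
    rcases Nat.lt_or_ge a.1.1 1 with h | h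
    · have e0 : a.1 = j0 k := Fin.ext (show a.1.1 = 0 by omega)
      simp [hp01, e0, h01]
    · have e1 : a.1 = j1 k := Fin.ext (show a.1.1 = 1 by omega)
      simp [hp01, e1, h01.symm])
  have cblk : ∀ g, w * A (hi F k g) = A (hi F k g) * w := by
    intro g
    suffices h : w * A (hi F k g) * w = A (hi F k g) by
      calc w * A (hi F k g) = w * A (hi F k g) * (w * w) := by rw [hww, mul_one]
        _ = _ := by rw [← mul_assoc, h]
    refine hP (Matrix.ext fun a b => ?_)
    rw [hconj, hA, hA]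
    by_cases ha : a.1.1 < 2 <;> by_cases hb : b.1.1 < 2
    · rw [fl_small a ha, fl_small b hb, bar_snd, bar_snd, bar_fst, bar_fst]
      have hne : ∀ g : SpecialLinearGroup (Fin (k + 2)) F, (hi F k g).1 a.1 b.1 = if a.1 = b.1 then 1 else 0 :=
        fun g => by rw [hi_apply, if_pos ha]
      have hne' : ∀ g : SpecialLinearGroup (Fin (k + 2)) F, (hi F k g).1 b.1 a.1 = if b.1 = a.1 then 1 else 0 :=
        fun g => by rw [hi_apply, if_pos hb]
      rw [← map_inv, hne, hne']
      simp only [add_left_inj, eq_comm (a := b.1)]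
      split_ifs <;> rfl
    · rw [fl_small a ha, fl_big b (by omega), bar_snd, bar_fst, ← map_inv, hi_apply, hi_apply, if_pos ha,
        if_neg hb, if_pos ha, if_neg (fun e : a.1 = b.1 => hb (e ▸ ha))]
      split_ifs <;> rfl
    · rw [fl_small b hb, fl_big a (by omega), bar_snd, bar_fst, ← map_inv, hi_apply, hi_apply, if_pos hb,
        if_neg ha, if_pos hb, if_neg (fun e : b.1 = a.1 => ha (e ▸ hb))]
      split_ifs <;> rfl
    · rw [fl_big a (by omega), fl_big b (by omega)]
  have cstar : ∀ x, w * A (lo F k x) * w⁻¹ = A (lo F k (Seven.star x)) := by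
    intro x
    rw [hwinv]
    refine hP (Matrix.ext fun a b => ?_)
    rw [hconj, hA, hA]
    have key : ∀ z : ZMod 2, z = 0 ∨ z = 1 := by decide
    have sx : ∀ (y : SL(2, F)) (i j : Fin 2), (Seven.star y).1 i j = (y⁻¹).1 j i := fun y i j => by
      rw [Seven.star_coe, Matrix.SpecialLinearGroup.coe_inv, Matrix.adjugate_fin_two]
      fin_cases i <;> fin_cases j <;> simp
    by_cases ha : a.1.1 < 2 <;> by_cases hb : b.1.1 < 2
    · rw [fl_small a ha, fl_small b hb, bar_snd, bar_snd, bar_fst, bar_fst]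
      simp only [← map_inv, lo_apply, dif_pos ha, dif_pos hb, sx]
      have h11 : (1 : ZMod 2) + 1 = 0 := by decide
      rcases key a.2 with e | e <;> rcases key b.2 with e' | e' <;> simp [e, e', h11]
    · rw [fl_small a ha, fl_big b (by omega), bar_snd, bar_fst]
      simp only [← map_inv, lo_apply, dif_pos ha, dif_neg hb]
      have hne : ¬ b.1 = a.1 := fun e => hb (e ▸ ha)
      simp [hne, Ne.symm hne]
    · rw [fl_small b hb, fl_big a (by omega), bar_snd, bar_fst]
      simp only [← map_inv, lo_apply, dif_pos hb, dif_neg ha]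
      have hne : ¬ a.1 = b.1 := fun e => ha (e ▸ hb)
      simp [hne, Ne.symm hne]
    · rw [fl_big a (by omega), fl_big b (by omega)]
      simp only [← map_inv, lo_apply, dif_neg ha, dif_neg hb]
  obtain ⟨v0, v1, -, -⟩ := p2_vals k
  have cswap : w * A (pm (p2 k)) = A (pm (p2 k)) * w := by
    refine hP ?_
    rw [map_mul, map_mul, hw, hom_pm hA, PM_comp, PM_comp]
    refine congrArg _ (funext fun a => Prod.ext rfl ?_)
    simp only [Function.comp_apply, fl_snd, fl_fst, hp01, Pi.add_apply, Pi.single_apply, Perm.inv_eq_iff_eq,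
      v0, v1]
    ring
  have hpw : ∀ π : alternatingGroup (Ix k), P (A (pm π) * w * (A (pm π))⁻¹) =
      PM F (fl (Pi.single (π.1 (j0 k)) 1 + Pi.single (π.1 (j1 k)) 1)) := by
    intro π
    rw [← map_inv, ← map_inv, map_mul, map_mul, hom_pm hA, hom_pm hA, hw, PM_comp, PM_comp]
    refine congrArg _ (funext fun a => ?_)
    simp only [Function.comp_apply, fl_fst, fl_snd, InvMemClass.coe_inv, inv_inv, hp01]
    refine Prod.ext (by simp) ?_
    show a.2 + _ = a.2 + _
    simp [Pi.single_apply, Equiv.symm_apply_eq]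
  have tri : A (pm (s02 k)) * w * (A (pm (s02 k)))⁻¹ * (A (pm (s12 k)) * w * (A (pm (s12 k)))⁻¹) = w := by
    refine hP ?_
    rw [map_mul, hpw, hpw, hw, PM_comp, (s02_vals k).1, (s02_vals k).2, (s12_vals k).1, (s12_vals k).2]
    refine congrArg _ (funext fun a => Prod.ext rfl ?_)
    simp only [Function.comp_apply, fl_snd, fl_fst, hp01, Pi.add_apply]
    have key : ∀ x p q r : ZMod 2, x + (p + q) + (q + r) = x + (p + r) := by decide
    exact key _ _ _ _
  let S0 : Pre k F G := ⟨A, w, cblk, cstar, cswap, tri⟩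
  have hc : P (S0.e (j1 k) (j2 k)) = PM F (fl (Pi.single (j1 k) 1 + Pi.single (j2 k) 1)) := by
    rw [S0.e_symm, ← S0.e_eq (s12_vals k).1 (s12_vals k).2]
    show P (A (pm (s12 k)) * w * (A (pm (s12 k)))⁻¹) = _
    rw [hpw, (s12_vals k).1, (s12_vals k).2, add_comm]
  have hcform : ∀ {i j : Ix k} (h : i ≠ j) (t : F),
      P (S0.e (j1 k) (j2 k) * A (T h t) * S0.e (j1 k) (j2 k)) =
        1 + Matrix.single (fl (Pi.single (j1 k) 1 + Pi.single (j2 k) 1) ((i, 0) : SI k))
            (fl (Pi.single (j1 k) 1 + Pi.single (j2 k) 1) (j, 0)) t -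
          Matrix.single (fl (Pi.single (j1 k) 1 + Pi.single (j2 k) 1) ((j, 1) : SI k))
            (fl (Pi.single (j1 k) 1 + Pi.single (j2 k) 1) (i, 1)) t := by
    intro i j h t
    ext x y
    rw [map_mul, map_mul, hc, mul_PM_apply, PM_mul_apply, hom_T hA]
    generalize (Pi.single (j1 k) (1 : ZMod 2) + Pi.single (j2 k) 1 : Ix k → ZMod 2) = f
    have hx : ∀ (p z : SI k), (p = fl f z) ↔ (fl f p = z) := fun p z =>
      ⟨fun e => by rw [e, fl_fl], fun e => by rw [← e, fl_fl]⟩
    have h5 : fl f x = fl f y ↔ x = y := ⟨fun e => by rw [← fl_fl f x, e, fl_fl], congrArg _⟩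
    simp only [Matrix.add_apply, Matrix.sub_apply, Matrix.one_apply, Matrix.single_apply, h5, hx, fl_fl]
  have hall : ∀ (ν : SL(2, F) →* G), (∀ (a b c d : Fin 2) (hab : a ≠ b) (hcd : c ≠ d) (t u : F),
      Commute (A (lo F k (T hab t))) (ν (T hcd u))) → ∀ x y, Commute (A (lo F k x)) (ν y) := by
    intro ν h x y
    refine commute_of_sets (A.comp (lo F k)) ν (Cfsg.Lib.Linear.closure_transvection_eq_top (ι := Fin 2) (F := F))
      (Cfsg.Lib.Linear.closure_transvection_eq_top (ι := Fin 2) (F := F)) ?_ x y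
    rintro _ ⟨a, b, hab, t, rfl⟩ _ ⟨c, d, hcd, u, rfl⟩
    exact h a b c d hab hcd t u
  let conjc : G →* G := (MulAut.conj (S0.e (j1 k) (j2 k)) : G ≃* G).toMonoidHom
  have hcj : ∀ z, conjc z = S0.e (j1 k) (j2 k) * z * S0.e (j1 k) (j2 k) := fun z => by
    show _ * z * (S0.e (j1 k) (j2 k))⁻¹ = _
    rw [S0.e_inv]
  have u0 : Fin.castAdd (k + 2) (0 : Fin 2) = j0 k := rfl
  have u1 : Fin.castAdd (k + 2) (1 : Fin 2) = j1 k := rfl
  have z10 : (1 : ZMod 2) + 1 = 0 := by decide
  refine ⟨{ toPre := S0, same := fun x y => ?_, disj := ?_ }, rfl, rfl⟩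
  · have := hall (conjc.comp (A.comp (lo F k))) (fun a b c d hab hcd t u => ?_) x y
    · simpa only [MonoidHom.comp_apply, hcj] using this
    show Commute (A (lo F k (T hab t))) (conjc (A (lo F k (T hcd u))))
    rw [hcj, lo_T, lo_T]
    refine hP ?_
    rw [map_mul P (A _) _, map_mul P _ (A _), hom_T hA, hcform]
    fin_cases a <;> fin_cases b <;> fin_cases c <;> fin_cases d
    all_goals first | exact absurd rfl hab | exact absurd rfl hcd | skip
    all_goals
      simp only [Fin.zero_eta, Fin.mk_one, u0, u1]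
      simp [fl, h01, h01.symm, h12, h12.symm, h02, h02.symm, z10, mul_add, add_mul, mul_sub, sub_mul,
        Matrix.single_mul_single_of_ne, mul_comm u t]
      abel
  · intro hk
    subst hk
    intro x y
    have v2 : Fin.natAdd 2 (0 : Fin 2) = j2 0 := rfl
    have v3 : Fin.natAdd 2 (1 : Fin 2) = j3 0 := rfl
    have hiT : ∀ {c d : Fin 2} (h : c ≠ d) (u : F),
        hi F 0 (T h u : SL(2, F)) = T ((Fin.natAdd_injective 2 2).ne h) u := fun h u => hi_T (k := 0) h u
    have := hall (conjc.comp (A.comp (hi F 0))) (fun a b c d hab hcd t u => ?_) x y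
    · simpa only [MonoidHom.comp_apply, hcj] using this
    show Commute (A (lo F 0 (T hab t))) (conjc (A (hi F 0 (T hcd u))))
    rw [hcj, lo_T, hiT]
    refine hP ?_
    rw [map_mul P (A _) _, map_mul P _ (A _), hom_T hA, hcform]
    fin_cases a <;> fin_cases b <;> fin_cases c <;> fin_cases d
    all_goals first | exact absurd rfl hab | exact absurd rfl hcd | skip
    all_goals
      simp only [Fin.zero_eta, Fin.mk_one, u0, u1, v2, v3]
      simp [fl, h01, h01.symm, h12, h12.symm, h02, h02.symm, h03, h03.symm, h13, h13.symm, h23, h23.symm, z10,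
        mul_add, add_mul, mul_sub, sub_mul, Matrix.single_mul_single_of_ne]
      abel

/-! ## The orthogonal group -/

variable (k) in
/-- Signed indices as coordinates. -/
def eta : SI k ≃ Ix k ⊕ Ix k where
  toFun a := if a.2 = 0 then Sum.inl a.1 else Sum.inr a.1
  invFun := Sum.elim (fun i => (i, 0)) (fun i => (i, 1))
  left_inv a := by
    have key : ∀ z : ZMod 2, z = 0 ∨ z = 1 := by decide
    rcases key a.2 with h | h
    · simp [h, Prod.ext_iff]
    · simp [h, Prod.ext_iff]
  right_inv z := by rcases z with i | i <;> simp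

theorem eta_zero (i : Ix k) : eta k (i, 0) = Sum.inl i := by simp [eta]
theorem eta_one (i : Ix k) : eta k (i, 1) = Sum.inr i := by simp [eta]

variable (F k) in
/-- The form. -/
abbrev Qp : (Ix k ⊕ Ix k → F) → F := Cfsg.quadFormPlus (2 + (k + 2)) F

variable (F k) in
/-- Matrices in signed coordinates. -/
def pv : ↥(isometryGroup F (Qp F k)) →* Matrix (SI k) (SI k) F where
  toFun g := (g : GL (Ix k ⊕ Ix k) F).val.submatrix (eta k) (eta k)
  map_one' := by simp
  map_mul' g h := by simp [Matrix.submatrix_mul_equiv]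

theorem pv_injective : Function.Injective (pv F k) := fun g h e => by
  refine Subtype.ext (Units.ext (Matrix.ext fun a b => ?_))
  have := congrFun (congrFun e ((eta k).symm a)) ((eta k).symm b)
  simpa [pv] using this

variable (F k) in
/-- The Levi embedding. -/
def levS : SpecialLinearGroup (Ix k) F →* ↥(isometryGroup F (Qp F k)) :=
  (Orth.lev (2 + (k + 2))).comp Matrix.SpecialLinearGroup.toGL

theorem pv_levS (g : SpecialLinearGroup (Ix k) F) (a b : SI k) :
    pv F k (levS F k g) a b = if a.2 = b.2 then (if a.2 = 0 then g.1 a.1 b.1 else (g⁻¹).1 b.1 a.1) else 0 := by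
  show ((Orth.lev _ (Matrix.SpecialLinearGroup.toGL g) : ↥(isometryGroup F (Qp F k))) : GL (Ix k ⊕ Ix k) F).val
    (eta k a) (eta k b) = _
  rw [Orth.lev_val, ← map_inv]
  show Matrix.fromBlocks g.1 0 0 ((g⁻¹).1)ᵀ (eta k a) (eta k b) = _
  obtain ⟨i, p⟩ := a
  obtain ⟨j, q⟩ := b
  have key : ∀ z : ZMod 2, z = 0 ∨ z = 1 := by decide
  rcases key p with rfl | rfl <;> rcases key q with rfl | rfl <;> simp [eta_zero, eta_one]

variable (F) in
/-- Sign changes as isometries. -/
def flipI (f : Ix k → ZMod 2) : ↥(isometryGroup F (Qp F k)) :=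
  ⟨⟨(PM F (fl f)).submatrix (eta k).symm (eta k).symm, (PM F (fl f)).submatrix (eta k).symm (eta k).symm,
      by rw [Matrix.submatrix_mul_equiv, PM_comp]; ext a b; simp [PM, fl_fl, Matrix.one_apply, eq_comm],
      by rw [Matrix.submatrix_mul_equiv, PM_comp]; ext a b; simp [PM, fl_fl, Matrix.one_apply, eq_comm]⟩,
    Orth.mem_iso.2 fun v => by
      have hv : ∀ z, ((PM F (fl f)).submatrix (eta k).symm (eta k).symm *ᵥ v) z = v (eta k (fl f ((eta k).symm z))) := by
        intro z
        rw [Matrix.mulVec, dotProduct, Finset.sum_eq_single (eta k (fl f ((eta k).symm z)))]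
        · simp [PM]
        · intro c _ hc
          have : ¬ (eta k).symm c = fl f ((eta k).symm z) := fun e => hc (by rw [← e, Equiv.apply_symm_apply])
          simp [PM, this]
        · exact fun h => absurd (Finset.mem_univ _) h
      simp only [Qp, Cfsg.quadFormPlus]
      refine Finset.sum_congr rfl fun i _ => ?_
      erw [hv, hv]
      have key : ∀ z : ZMod 2, z = 0 ∨ z = 1 := by decide
      have e0 : (eta k).symm (Sum.inl i) = (i, 0) := rfl
      have e1 : (eta k).symm (Sum.inr i) = (i, 1) := rfl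
      have z10 : (1 : ZMod 2) + 1 = 0 := by decide
      rw [e0, e1]
      rcases key (f i) with h | h
      · simp [fl, h, eta_zero, eta_one]
      · simp [fl, h, eta_zero, eta_one, z10, mul_comm]⟩

theorem pv_flipI (f : Ix k → ZMod 2) : pv F k (flipI F f) = PM F (fl f) := by
  ext a b
  simp [pv, flipI]

variable (F k) in
/-- The basic sign change. -/
def w0 : ↥(isometryGroup F (Qp F k)) :=
  flipI F (Pi.single (j0 k) 1) * levS F k (Wt (show j0 k ≠ j1 k by simp [Fin.ext_iff]) 1) *
    (flipI F (Pi.single (j0 k) 1))⁻¹ * (levS F k (Wt (show j0 k ≠ j1 k by simp [Fin.ext_iff]) 1))⁻¹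

theorem pv_w0 : pv F k (w0 F k) = PM F (fl (Pi.single (j0 k) 1 + Pi.single (j1 k) 1)) := by
  have h01 : j0 k ≠ j1 k := by simp [Fin.ext_iff]
  set W := Wt h01 (1 : Fˣ) with hW
  have hinv : (flipI F (Pi.single (j0 k) 1) : ↥(isometryGroup F (Qp F k)))⁻¹ = flipI F (Pi.single (j0 k) 1) := by
    refine inv_eq_of_mul_eq_one_right (pv_injective ?_)
    rw [map_mul, pv_flipI, PM_comp, map_one]
    ext a b
    simp [PM, fl_fl, Matrix.one_apply, eq_comm]
  have key : pv F k (flipI F (Pi.single (j0 k) 1) * levS F k W * (flipI F (Pi.single (j0 k) 1))⁻¹) =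
      PM F (fl (Pi.single (j0 k) 1 + Pi.single (j1 k) 1)) * pv F k (levS F k W) := by
    ext a b
    rw [hinv, map_mul, map_mul, pv_flipI, mul_PM_apply, PM_mul_apply, PM_mul_apply, pv_levS, pv_levS]
    simp only [hW, Wt_inv, Wt_coe h01]
    obtain ⟨i, p⟩ := a
    obtain ⟨j, q⟩ := b
    have hz : ∀ z : ZMod 2, z = 0 ∨ z = 1 := by decide
    have z10 : (1 : ZMod 2) + 1 = 0 := by decide
    rcases eq_or_ne i (j0 k) with rfl | i0
    · rcases eq_or_ne j (j0 k) with rfl | j0'
      · rcases hz p with rfl | rfl <;> rcases hz q with rfl | rfl <;> simp [fl, h01, h01.symm, z10]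
      rcases eq_or_ne j (j1 k) with rfl | j1'
      · rcases hz p with rfl | rfl <;> rcases hz q with rfl | rfl <;> simp [fl, h01, h01.symm, z10]
      rcases hz p with rfl | rfl <;> rcases hz q with rfl | rfl <;>
        simp [fl, h01, h01.symm, z10, j0', j1', Ne.symm j0', Ne.symm j1']
    rcases eq_or_ne i (j1 k) with rfl | i1
    · rcases eq_or_ne j (j0 k) with rfl | j0'
      · rcases hz p with rfl | rfl <;> rcases hz q with rfl | rfl <;> simp [fl, h01, h01.symm, z10]
      rcases eq_or_ne j (j1 k) with rfl | j1'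
      · rcases hz p with rfl | rfl <;> rcases hz q with rfl | rfl <;> simp [fl, h01, h01.symm, z10]
      rcases hz p with rfl | rfl <;> rcases hz q with rfl | rfl <;>
        simp [fl, h01, h01.symm, z10, j0', j1', Ne.symm j0', Ne.symm j1']
    rcases eq_or_ne j (j0 k) with rfl | j0'
    · rcases hz p with rfl | rfl <;> rcases hz q with rfl | rfl <;>
        simp [fl, h01, h01.symm, z10, i0, i1, Ne.symm i0, Ne.symm i1]
    rcases eq_or_ne j (j1 k) with rfl | j1'
    · rcases hz p with rfl | rfl <;> rcases hz q with rfl | rfl <;>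
        simp [fl, h01, h01.symm, z10, i0, i1, Ne.symm i0, Ne.symm i1]
    rcases hz p with rfl | rfl <;> rcases hz q with rfl | rfl <;>
      simp [fl, h01, h01.symm, z10, i0, i1, j0', j1', Ne.symm i0, Ne.symm i1, eq_comm]
  rw [w0, map_mul, key, mul_assoc, ← map_mul, mul_inv_cancel, map_one, mul_one]

variable [Fintype F]

theorem card_ok : Fintype.card F ≠ 2 ∨ 2 + (k + 2) ≠ 2 := Or.inr (by omega)

theorem levS_mem (g : SpecialLinearGroup (Ix k) F) : levS F k g ∈ Omega F (Qp F k) := by
  refine (Orth.lev_mem_omega_iff (by omega) card_ok _).2 ?_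
  rw [show (Matrix.SpecialLinearGroup.toGL g).val = g.1 from rfl, g.2]
  exact IsSquare.one

theorem w0_mem : w0 F k ∈ Omega F (Qp F k) := by
  refine mul_mem ?_ (inv_mem (levS_mem _))
  exact Subgroup.Normal.conj_mem inferInstance _ (levS_mem _) _

variable (F k) in
/-- The Levi embedding into the commutator subgroup. -/
def A0 : SpecialLinearGroup (Ix k) F →* ↥(Omega F (Qp F k)) := (levS F k).codRestrict _ levS_mem

variable (F k) in
/-- The basic sign change in the commutator subgroup. -/
def w1 : ↥(Omega F (Qp F k)) := ⟨w0 F k, w0_mem⟩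

variable (F k) in
/-- Matrices of the commutator subgroup. -/
def P0 : ↥(Omega F (Qp F k)) →* Matrix (SI k) (SI k) F := (pv F k).comp (Subgroup.subtype _)

theorem P0_injective : Function.Injective (P0 F k) := pv_injective.comp Subtype.val_injective

theorem P0_A (g : SpecialLinearGroup (Ix k) F) (a b : SI k) :
    P0 F k (A0 F k g) a b = if a.2 = b.2 then (if a.2 = 0 then g.1 a.1 b.1 else (g⁻¹).1 b.1 a.1) else 0 :=
  pv_levS g a b

theorem P0_w (a b : SI k) :
    P0 F k (w1 F k) a b = if b = fl (Pi.single (j0 k) 1 + Pi.single (j1 k) 1) a then 1 else 0 :=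
  congrFun (congrFun pv_w0 a) b

theorem exists_model : ∃ S : Sys k F ↥(Omega F (Qp F k)), S.A = A0 F k ∧ S.w = w1 F k :=
  exists_sys_of_faithful _ _ (P0 F k) P0_injective P0_A (Matrix.ext P0_w)

/-- The image of a coordinate vector. -/
def ev (F : Type*) [Field F] (p : SI k) : Ix k ⊕ Ix k → F := Pi.single (eta k p) 1

theorem gen_omega : Subgroup.closure (Set.range (A0 F k) ∪ {w1 F k}) = ⊤ := by
  classical
  obtain ⟨S, hSA, hSw⟩ := exists_model (F := F) (k := k)
  set K := Subgroup.closure (Set.range (A0 F k) ∪ {w1 F k}) with hK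
  have hAK : ∀ g, S.A g ∈ K := fun g => by rw [hSA]; exact Subgroup.subset_closure (Or.inl ⟨g, rfl⟩)
  have hwK : S.w ∈ K := by rw [hSw]; exact Subgroup.subset_closure (Or.inr rfl)
  have heK : ∀ i j, S.toPre.e i j ∈ K := fun i j => by
    rcases eq_or_ne i j with rfl | h
    · rw [S.toPre.e_self]; exact one_mem _
    obtain ⟨π, h0, h1⟩ := exists_two h
    rw [← S.toPre.e_eq h0 h1]
    exact mul_mem (mul_mem (hAK _) hwK) (inv_mem (hAK _))
  have hXK : ∀ a b t, S.toPre.X a b t ∈ K := fun a b t => by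
    by_cases h : a.1 = b.1
    · rw [S.toPre.X_same h]; exact one_mem _
    obtain ⟨f, hf⟩ := exists_fr h
    have hEK : S.toPre.E f ∈ K := by
      refine even_induction (P := fun g => S.toPre.E g ∈ K) hf.1 (j0 k) (by rw [S.toPre.E_zero]; exact one_mem _) ?_
      intro g a _ _ hg
      rw [S.toPre.E_add, S.toPre.E_pair]
      exact mul_mem hg (heK _ _)
    rw [S.toPre.X_eq h hf, Pre.cf_apply]
    exact mul_mem (mul_mem hEK (hAK _)) hEK
  obtain ⟨B, C⟩ := Orth.exists_space_plus (F := F) (2 + (k + 2))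
  have hB : ∀ u x, B u x = ∑ l : Ix k, (u (.inl l) * x (.inr l) + u (.inr l) * x (.inl l)) := fun u x => by
    rw [← C.polar, Orth.polar_plus_apply]
  have hQe : ∀ p : SI k, Qp F k (ev F p) = 0 := fun p => by
    obtain ⟨i, z⟩ := p
    have key : ∀ z : ZMod 2, z = 0 ∨ z = 1 := by decide
    rcases key z with rfl | rfl <;> simp [Qp, ev, Cfsg.quadFormPlus, eta_zero, eta_one]
  have hcov : ∀ p : SI k, Orth.cov B (ev F p) = ev F (bar p) := fun p => funext fun z => by
    obtain ⟨i, q⟩ := p
    have key : ∀ z : ZMod 2, z = 0 ∨ z = 1 := by decide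
    have z10 : (1 : ZMod 2) + 1 = 0 := by decide
    rcases key q with rfl | rfl <;> rcases z with l | l <;>
      simp [Orth.cov, hB, ev, bar, eta_zero, eta_one, z10, Pi.single_apply, Finset.sum_add_distrib, eq_comm]
  have hBe : ∀ (p : SI k) (y : Ix k ⊕ Ix k → F), B (ev F p) y = y (eta k (bar p)) := fun p y => by
    rw [← Orth.cov_dot, hcov]
    simp [ev]
  set K' : Subgroup (GL (Ix k ⊕ Ix k) F) :=
    K.map ((isometryGroup F (Qp F k)).subtype.comp (Omega F (Qp F k)).subtype) with hK'
  have hroot : ∀ (p z : SI k) (c : F), p.1 ≠ z.1 → Orth.sGL (Qp F k) B (ev F p) (c • ev F z) ∈ K' := by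
    intro p z c hpz
    have hbz : B (ev F p) (c • ev F z) = 0 := by
      rw [map_smul, hBe, ev, Pi.single_eq_of_ne ((eta k).injective.ne (show bar p ≠ z from fun e => hpz ((bar_fst p).symm.trans (congrArg Prod.fst e)))),
        smul_zero]
    refine ⟨S.toPre.X z (bar p) c, hXK _ _ _, ?_⟩
    refine Units.ext ?_
    let R : Rep S.toPre := ⟨P0 F k, fun g a b => by rw [hSA]; exact P0_A g a b,
      fun a b => by rw [hSw]; exact P0_w a b⟩
    have hX := R.P_X (a := z) (b := bar p) (show z.1 ≠ (bar p).1 from hpz.symm) c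
    rw [bar_bar] at hX
    rw [Orth.sGL_val C (hQe p) hbz]
    ext x y
    have hx := congrFun (congrFun hX ((eta k).symm x)) ((eta k).symm y)
    simp only [R, P0, pv, MonoidHom.comp_apply, MonoidHom.coe_mk, OneHom.coe_mk, Matrix.submatrix_apply,
      Equiv.apply_symm_apply, Subgroup.coe_subtype] at hx
    show _ = _
    simp only [MonoidHom.comp_apply, Subgroup.coe_subtype]
    rw [hx]
    have hcz : Orth.cov B (c • ev F z) = c • ev F (bar z) := by
      rw [← hcov]
      funext i
      simp [Orth.cov]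
    have hQz : Qp F k (c • ev F z) = 0 := (C.smul c _).trans (by rw [show Cfsg.quadFormPlus (2 + (k + 2)) F (ev F z) = 0 from hQe z, mul_zero])
    simp only [Orth.sMat, hcov, hcz, hQz, zero_smul, add_zero]
    simp only [Matrix.add_apply, Matrix.sub_apply, Matrix.vecMulVec_apply, Matrix.one_apply, Matrix.single_apply,
      Pi.smul_apply, smul_eq_mul, ev, Pi.single_apply, Equiv.eq_symm_apply, Equiv.apply_symm_apply]
    congr 1
    · congr 1
      by_cases h1 : eta k z = x <;> by_cases h2 : eta k (bar p) = y <;>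
        simp only [h1, h2, Ne.symm, eq_self_iff_true, and_self, and_true, true_and, if_true, if_false] <;>
        simp [h1, h2, eq_comm (a := x), eq_comm (a := y)]
    · by_cases h1 : eta k p = x <;> by_cases h2 : eta k (bar z) = y <;>
        simp only [h1, h2, eq_self_iff_true, and_self, and_true, true_and, if_true, if_false] <;>
        simp [h1, h2, eq_comm (a := x), eq_comm (a := y)]
  have hfull : ∀ (p : SI k) (y : Ix k ⊕ Ix k → F), B (ev F p) y = 0 → Orth.sGL (Qp F k) B (ev F p) y ∈ K' := by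
    intro p y hy
    have hy0 : y (eta k (bar p)) = 0 := by rwa [hBe] at hy
    have key : ∀ s : Finset (SI k), bar p ∉ s →
        Orth.sGL (Qp F k) B (ev F p) (∑ z ∈ s, y (eta k z) • ev F z) ∈ K' := by
      intro s
      induction s using Finset.induction with
      | empty => intro _; rw [Finset.sum_empty, SpTensor.sGL_zero_right C (hQe p)]; exact one_mem _
      | insert a s ha ih =>
        intro hs
        rw [Finset.mem_insert, not_or] at hs
        have h0 : ∀ z, bar p ≠ z → B (ev F p) (y (eta k z) • ev F z) = 0 := fun z hz => by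
          rw [map_smul, hBe, ev, Pi.single_eq_of_ne ((eta k).injective.ne hz), smul_zero]
        have hsum : B (ev F p) (∑ z ∈ s, y (eta k z) • ev F z) = 0 := by
          rw [map_sum]
          exact Finset.sum_eq_zero fun z hz => h0 z fun e => hs.2 (e ▸ hz)
        rw [Finset.sum_insert ha, ← Orth.sGL_mul C (hQe p) (h0 a hs.1) hsum]
        refine mul_mem ?_ (ih hs.2)
        by_cases hpa : p.1 = a.1
        · rcases sib_cases hpa.symm with rfl | rfl
          · have := Orth.sGL_add_self C (hQe a) (a := 0) (map_zero _) (y (eta k a))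
            rw [zero_add, SpTensor.sGL_zero_right C (hQe a)] at this
            rw [this]
            exact one_mem _
          · exact absurd rfl hs.1
        · exact hroot p a _ hpa
    have hdec : y = ∑ z ∈ Finset.univ.erase (bar p), y (eta k z) • ev F z := by
      funext x
      have hx : ∑ z : SI k, y (eta k z) • ev F z = y := by
        funext x
        rw [Finset.sum_apply, Finset.sum_eq_single ((eta k).symm x)]
        · simp [ev]
        · intro z _ hz
          have : x ≠ eta k z := fun e => hz (by rw [e, Equiv.symm_apply_apply])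
          simp [ev, this]
        · exact fun h => absurd (Finset.mem_univ _) h
      conv_lhs => rw [← hx, ← Finset.add_sum_erase Finset.univ _ (Finset.mem_univ (bar p)), hy0, zero_smul, zero_add]
    rw [hdec]
    exact key _ (Finset.notMem_erase _ _)
  have hKle : K' ≤ isometryGroup F (Qp F k) := by
    rintro _ ⟨x, -, rfl⟩
    exact (x.1).2
  have hroot_le : Orth.Root (Qp F k) B ⊤ ≤ K' := by
    refine SpTensor.root_le_of_two C hKle (x := ev F ((j0 k, 0) : SI k)) (f := ev F ((j0 k, 1) : SI k))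
      (hQe _) (hQe _) ?_ (hfull _) (hfull _)
    rw [hBe, show bar ((j0 k, 0) : SI k) = (j0 k, 1) from Prod.ext rfl (zero_add 1)]
    simp [ev]
  have h5 : 5 ≤ Fintype.card (Ix k ⊕ Ix k) := by simp; omega
  rw [eq_top_iff]
  intro x _
  have hx : ((x : ↥(isometryGroup F (Qp F k))) : GL (Ix k ⊕ Ix k) F) ∈ Cfsg.Geo.omegaGL (Qp F k) := ⟨x.1, x.2, rfl⟩
  rw [Orth.omegaGL_eq C h5] at hx
  obtain ⟨y, hy, hyx⟩ := hroot_le hx
  have : y = x := Subtype.ext (Subtype.ext hyx)
  exact this ▸ hy

theorem center_cyclic : ∃ z : ↥(Omega F (Qp F k)),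
    Subgroup.closure ({z} : Set ↥(Omega F (Qp F k))) = Subgroup.center _ := by
  classical
  obtain ⟨S, hSA, hSw⟩ := exists_model (F := F) (k := k)
  let R : Rep S.toPre := ⟨P0 F k, fun g a b => by rw [hSA]; exact P0_A g a b,
    fun a b => by rw [hSw]; exact P0_w a b⟩
  have hscal : ∀ g ∈ Subgroup.center ↥(Omega F (Qp F k)), ∃ c : F,
      c * c = 1 ∧ P0 F k g = Matrix.diagonal fun _ => c := by
    intro g hg
    set N := P0 F k g with hN
    have hc : ∀ a b : SI k, a.1 ≠ b.1 →
        N * (Matrix.single a b 1 - Matrix.single (bar b) (bar a) 1) =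
          (Matrix.single a b 1 - Matrix.single (bar b) (bar a) 1) * N := by
      intro a b h
      have := congrArg (P0 F k) (Subgroup.mem_center_iff.1 hg (S.toPre.X a b 1))
      rw [map_mul, map_mul, show P0 F k (S.toPre.X a b 1) = R.P (S.toPre.X a b 1) from rfl, R.P_X h] at this
      rw [add_sub_assoc, mul_add, add_mul, one_mul, mul_one] at this
      exact (add_left_cancel this).symm
    have hent : ∀ a b : SI k, a.1 ≠ b.1 → ∀ x, x ≠ bar b → N x a = if x = a then N b b else 0 := by
      intro a b h x hx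
      have := congrFun (congrFun (hc a b h) x) b
      have hab' : b ≠ bar a := fun e => h ((bar_fst a).symm.trans (congrArg Prod.fst e.symm))
      rw [mul_sub, sub_mul, Matrix.sub_apply, Matrix.sub_apply, Matrix.mul_single_apply_same,
        Matrix.mul_single_apply_of_ne _ _ _ _ _ hab', Matrix.single_mul_apply_of_ne _ (bar b) _ _ _ hx,
        sub_zero, sub_zero, mul_one] at this
      rw [this]
      split_ifs with hxa
      · subst hxa; rw [Matrix.single_mul_apply_same, one_mul]
      · rw [Matrix.single_mul_apply_of_ne _ _ _ _ _ hxa]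
    have hoff : ∀ a x : SI k, x ≠ a → N x a = 0 := fun a x hxa => by
      obtain ⟨m, ma, mx⟩ := exists_off a.1 x.1
      rw [hent a (m, 0) ma.symm x (fun e => mx (congrArg Prod.fst e).symm), if_neg hxa]
    have hdiag : ∀ a b : SI k, a.1 ≠ b.1 → N a a = N b b := fun a b h => by
      rw [hent a b h a (fun e => h ((congrArg Prod.fst e).trans (bar_fst b))), if_pos rfl]
    set c := N (j0 k, 0) (j0 k, 0) with hc0
    have hall : ∀ a : SI k, N a a = c := fun a => by
      obtain ⟨m, ma, m0⟩ := exists_off a.1 (j0 k)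
      rw [hdiag a (m, 0) ma.symm, hc0, hdiag ((j0 k, 0) : SI k) (m, 0) m0.symm]
    have hNd : N = Matrix.diagonal fun _ => c := Matrix.ext fun a b => by
      rcases eq_or_ne a b with rfl | hab
      · rw [hall, Matrix.diagonal_apply_eq]
      · rw [hoff b a hab, Matrix.diagonal_apply_ne _ hab]
    refine ⟨c, ?_, hNd⟩
    have hQ := (Orth.mem_iso.1 (g.1).2) (ev F ((j0 k, 0) : SI k) + ev F (j0 k, 1))
    have hact : ((g.1 : GL (Ix k ⊕ Ix k) F)).val *ᵥ (ev F ((j0 k, 0) : SI k) + ev F (j0 k, 1)) =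
        c • (ev F ((j0 k, 0) : SI k) + ev F (j0 k, 1)) := by
      funext x
      have e : ∀ y, (g.1 : GL (Ix k ⊕ Ix k) F).val x y = if x = y then c else 0 := fun y => by
        have := congrFun (congrFun hNd ((eta k).symm x)) ((eta k).symm y)
        simpa [hN, P0, pv, Matrix.diagonal_apply] using this
      simp [Matrix.mulVec, dotProduct, e]
    rw [hact] at hQ
    simpa [Qp, Cfsg.quadFormPlus, ev, eta_zero, eta_one, add_mul, mul_add, Finset.sum_add_distrib, Pi.single_apply]
      using hQ
  by_cases hz : ∃ z ∈ Subgroup.center ↥(Omega F (Qp F k)), P0 F k z = Matrix.diagonal fun _ => (-1 : F)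
  · obtain ⟨z, hzc, hzP⟩ := hz
    refine ⟨z, le_antisymm ((Subgroup.closure_le _).2 (Set.singleton_subset_iff.2 hzc)) fun g hg => ?_⟩
    obtain ⟨c, hc, hcP⟩ := hscal g hg
    rcases mul_self_eq_one_iff.1 hc with rfl | rfl
    · have : g = 1 := P0_injective (by rw [hcP, map_one, Matrix.diagonal_one])
      rw [this]; exact one_mem _
    · rw [P0_injective (hcP.trans hzP.symm)]
      exact Subgroup.subset_closure rfl
  · refine ⟨1, le_antisymm ((Subgroup.closure_le _).2 (Set.singleton_subset_iff.2 (one_mem _))) fun g hg => ?_⟩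
    obtain ⟨c, hc, hcP⟩ := hscal g hg
    rcases mul_self_eq_one_iff.1 hc with rfl | rfl
    · have : g = 1 := P0_injective (by rw [hcP, map_one, Matrix.diagonal_one])
      rw [this]; exact one_mem _
    · exact absurd ⟨g, hg, hcP⟩ hz

end Cfsg.Lib.Linear.ShortPres.OmegaPlus
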