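import Cfsg.Agent.Lib.Linear.ShortPres.SLN.Mat

/-!
# Diagonal and monomial elements of the special linear group on two coordinates
-/

set_option autoImplicit false

namespace Cfsg.Lib.Linear.ShortPres.OmegaPlus

open Equiv Matrix
open Cfsg.Lib.Linear.ShortPres.SLN

variable {α : Type*} [Fintype α] [DecidableEq α] {F : Type*} [Field F]

/-- The diagonal values. -/
def hv (i j : α) (t : Fˣ) (x : α) : F := if x = i then (t : F) else if x = j then ((t⁻¹ : Fˣ) : F) else 1

/-- The diagonal element of two coordinates. -/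
def hd {i j : α} (h : i ≠ j) : Fˣ →* SpecialLinearGroup α F :=
  MonoidHom.mk' (fun t => ⟨diagonal (hv i j t), by
      rw [det_diagonal, ← Finset.prod_subset (Finset.subset_univ {i, j}) (fun x _ hx => by
        simp only [Finset.mem_insert, Finset.mem_singleton, not_or] at hx
        simp [hv, hx.1, hx.2]), Finset.prod_pair h]
      simp [hv, h.symm]⟩)
    fun t u => Subtype.ext (by
      show diagonal _ = diagonal _ * diagonal _
      rw [diagonal_mul_diagonal]
      congr 1
      funext x
      simp only [hv]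
      split_ifs <;> simp [mul_comm])

theorem hd_coe {i j : α} (h : i ≠ j) (t : Fˣ) :
    (hd h t : Matrix α α F) = diagonal (hv i j t) := rfl

theorem hd_symm {i j : α} (h : i ≠ j) (t : Fˣ) : hd h.symm t = hd h t⁻¹ := by
  refine Subtype.ext ?_
  rw [hd_coe, hd_coe]
  congr 1
  funext x
  simp only [hv]
  by_cases hi : x = i
  · subst hi; simp [h]
  · by_cases hj : x = j
    · subst hj; simp [hi]
    · simp [hi, hj]

theorem hd_comm {i j p q : α} (h : i ≠ j) (h' : p ≠ q) (t u : Fˣ) : Commute (hd h t) (hd h' u) := by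
  refine Subtype.ext ?_
  show diagonal _ * diagonal _ = diagonal _ * diagonal _
  rw [diagonal_mul_diagonal, diagonal_mul_diagonal]
  congr 1
  funext x
  exact mul_comm _ _

theorem hd_cocycle {i j l : α} (hij : i ≠ j) (hjl : j ≠ l) (hil : i ≠ l) (t : Fˣ) :
    hd hij t * hd hjl t = hd hil t := by
  refine Subtype.ext ?_
  show diagonal _ * diagonal _ = diagonal _
  rw [diagonal_mul_diagonal]
  congr 1
  funext x
  simp only [hv]
  split_ifs <;> simp_all

theorem hd_conj_T {i j p q : α} (h : i ≠ j) (h' : p ≠ q) (t : Fˣ) (u : F) :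
    hd h t * T h' u * (hd h t)⁻¹ = T h' (hv i j t p * hv i j t⁻¹ q * u) := by
  rw [mul_inv_eq_iff_eq_mul]
  refine Subtype.ext ?_
  show diagonal _ * transvection p q u = transvection p q _ * diagonal _
  have hinv : hv i j t⁻¹ q * hv i j t q = 1 := by
    simp only [hv]; split_ifs <;> simp
  simp only [transvection, mul_add, add_mul, one_mul, mul_one, add_right_inj]
  ext a b
  rw [diagonal_mul, mul_diagonal]
  simp only [single_apply]
  split_ifs with hab
  · obtain ⟨rfl, rfl⟩ := hab
    linear_combination (-(hv i j t p * u)) * hinv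
  · simp

/-- The monomial element with parameter. -/
def Wt {i j : α} (h : i ≠ j) (t : Fˣ) : SpecialLinearGroup α F :=
  T h (t : F) * T h.symm (-((t⁻¹ : Fˣ) : F)) * T h (t : F)

/-- The signs of the monomial element. -/
def wv (j : α) (x : α) : F := if x = j then -1 else 1

theorem wv_mul_self (j x : α) : (wv j x : F) * wv j x = 1 := by
  simp only [wv]; split_ifs <;> simp

theorem Wt_coe {i j : α} (h : i ≠ j) (t : Fˣ) (a b : α) : (Wt h t : Matrix α α F) a b =
    if a = i then (if b = j then (t : F) else 0) else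
    if a = j then (if b = i then -((t⁻¹ : Fˣ) : F) else 0) else if a = b then 1 else 0 := by
  simp only [Wt, Matrix.SpecialLinearGroup.coe_mul, T_coe]
  simp only [mul_add, add_mul, one_mul, mul_one, Matrix.single_mul_single_same, Matrix.add_apply,
    Matrix.single_mul_single_of_ne _ _ _ _ h, Matrix.single_mul_single_of_ne _ _ _ _ h.symm,
    Matrix.zero_mul, Matrix.zero_apply, Matrix.one_apply, Matrix.single_apply]
  by_cases hai : a = i
  · subst hai
    by_cases hb : b = j
    · subst hb; simp [h, h.symm]
    · by_cases hb' : b = a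
      · subst hb'; simp [hb, h, h.symm]
      · simp [hb, Ne.symm hb, Ne.symm hb', h, h.symm]
  · by_cases haj : a = j
    · subst haj
      by_cases hb : b = i
      · subst hb; simp [h, h.symm, hai]
      · by_cases hb' : b = a
        · subst hb'; simp [h, h.symm, hai]
        · simp [hb, Ne.symm hb, Ne.symm hb', h, h.symm, hai]
    · simp [hai, haj, Ne.symm hai, Ne.symm haj]

theorem Wt_mul {i j : α} (h : i ≠ j) (t u : Fˣ) : Wt h t * Wt h u = hd h (-(t * u⁻¹)) := by
  refine Subtype.ext ?_
  ext a b
  rw [hd_coe, Matrix.SpecialLinearGroup.coe_mul, Matrix.mul_apply]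
  simp only [Wt_coe h]
  by_cases hai : a = i
  · subst hai
    rw [Finset.sum_eq_single j (fun c _ hc => by simp [hc]) (fun hc => absurd (Finset.mem_univ _) hc)]
    by_cases hb : b = a
    · subst hb; simp [hv, h.symm]
    · simp [hb, Ne.symm hb, h.symm]
  · by_cases haj : a = j
    · subst haj
      rw [Finset.sum_eq_single i (fun c _ hc => by simp [hc, hai]) (fun hc => absurd (Finset.mem_univ _) hc)]
      by_cases hb : b = a
      · subst hb; simp [hv, hai]; field_simp
      · simp [hb, Ne.symm hb, hai]
    · rw [Finset.sum_eq_single a (fun c _ hc => by simp [hai, haj, Ne.symm hc]) (fun hc => absurd (Finset.mem_univ _) hc)]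
      by_cases hb : b = a
      · subst hb; simp [hv, hai, haj]
      · simp [Ne.symm hb, hai, haj]

theorem Wt_inv {i j : α} (h : i ≠ j) (t : Fˣ) : (Wt h t)⁻¹ = Wt h (-t) := by
  refine inv_eq_of_mul_eq_one_right ?_
  rw [Wt_mul, show -(t * (-t)⁻¹) = 1 from Units.ext (by simp [t.ne_zero]), map_one]

theorem hd_eq {i j : α} (h : i ≠ j) (t : Fˣ) : hd h t = Wt h t * Wt h (-1) := by
  rw [Wt_mul, show -(t * (-1 : Fˣ)⁻¹) = t from Units.ext (by simp)]

theorem hd_eq' {i j : α} (h : i ≠ j) (t : Fˣ) : hd h t = Wt h (-t) * Wt h 1 := by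
  rw [Wt_mul, show -(-t * (1 : Fˣ)⁻¹) = t from Units.ext (by simp)]

theorem Wt_sq {i j : α} (h : i ≠ j) : Wt h (1 : Fˣ) * Wt h 1 = hd h (-1) := by
  rw [Wt_mul]; simp

theorem Wt_conj_T {i j p q : α} (h : i ≠ j) (h' : p ≠ q) (u : F) :
    Wt h (1 : Fˣ) * T h' u * (Wt h (1 : Fˣ))⁻¹ =
      T ((swap i j).injective.ne h') (wv j (swap i j p) * wv j (swap i j q) * u) := by
  rw [mul_inv_eq_iff_eq_mul]
  refine Subtype.ext ?_
  have hW : ∀ a b, (Wt h (1 : Fˣ) : Matrix α α F) a b = if b = swap i j a then wv j a else 0 := fun a b => by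
    rw [Wt_coe h]
    simp only [swap_apply_def, wv, Units.val_one, inv_one]
    by_cases hai : a = i
    · subst hai; simp [h]
    · by_cases haj : a = j
      · subst haj; simp [hai]
      · simp [hai, haj, eq_comm]
  simp only [Matrix.SpecialLinearGroup.coe_mul, T_coe, mul_add, add_mul, one_mul, mul_one, add_right_inj]
  ext a b
  rw [Matrix.mul_apply, Matrix.mul_apply, Finset.sum_eq_single (swap i j a) (fun c _ hc => by rw [hW, if_neg hc, zero_mul])
    (fun hc => absurd (Finset.mem_univ _) hc), hW, if_pos rfl,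
    Finset.sum_eq_single (swap i j q) (fun c _ hc => by simp [Matrix.single_apply, Ne.symm hc])
    (fun hc => absurd (Finset.mem_univ _) hc), hW, swap_apply_self]
  simp only [Matrix.single_apply]
  by_cases hb : b = q
  · subst hb
    by_cases ha : a = swap i j p
    · subst ha
      simp only [swap_apply_self, and_self, if_true]
      linear_combination (-(wv j (swap i j p) * u)) * wv_mul_self (F := F) j (swap i j b)
    · have : ¬ p = swap i j a := fun e => ha (by rw [e, swap_apply_self])
      simp [this, Ne.symm ha]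
  · simp [hb, Ne.symm hb]

theorem Wt_conj_hd {i j p q : α} (h : i ≠ j) (h' : p ≠ q) (t : Fˣ) :
    Wt h (1 : Fˣ) * hd h' t * (Wt h (1 : Fˣ))⁻¹ = hd ((swap i j).injective.ne h') t := by
  rw [mul_inv_eq_iff_eq_mul]
  refine Subtype.ext ?_
  ext a b
  simp only [Matrix.SpecialLinearGroup.coe_mul, hd_coe, Matrix.mul_diagonal, Matrix.diagonal_mul, Wt_coe h]
  have e : ∀ x, hv (swap i j p) (swap i j q) t x = (hv p q t (swap i j x) : F) := fun x => by
    simp only [hv, swap_apply_eq_iff]
  rw [e]
  by_cases hai : a = i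
  · subst hai
    by_cases hb : b = j
    · subst hb; simp [mul_comm]
    · simp [hb]
  · by_cases haj : a = j
    · subst haj
      by_cases hb : b = i
      · subst hb; simp [mul_comm, h.symm]
      · simp [hb, h.symm]
    · by_cases hb : a = b
      · subst hb; simp [hai, haj, swap_apply_of_ne_of_ne hai haj]
      · simp [hb, hai, haj]

end Cfsg.Lib.Linear.ShortPres.OmegaPlus
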