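import Cfsg.Agent.Lib.Linear.ShortPres.OmegaPlus.Roots

/-!
# Root products, torus and monomial elements
-/

set_option autoImplicit false
set_option linter.unusedSectionVars false

namespace Cfsg.Lib.Linear.ShortPres.OmegaPlus

open Equiv Matrix
open Cfsg.Lib.Linear.ShortPres.SLN
open scoped MatrixGroups

variable {F : Type*} [Field F] {k : ℕ} {G : Type*} [Group G]

/-- The permutation of a root. -/
def rperm (a b : SI k) (x : SI k) : SI k :=
  if x.1 = a.1 then (b.1, x.2 + a.2 + b.2) else if x.1 = b.1 then (a.1, x.2 + a.2 + b.2) else x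

theorem rperm_cases {a b : SI k} (h : a.1 ≠ b.1) (x : SI k) :
    (x = a ∧ rperm a b x = b) ∨ (x = bar a ∧ rperm a b x = bar b) ∨ (x = b ∧ rperm a b x = a) ∨
      (x = bar b ∧ rperm a b x = bar a) ∨ (x.1 ≠ a.1 ∧ x.1 ≠ b.1 ∧ rperm a b x = x) := by
  have k1 : ∀ u v : ZMod 2, u + u + v = v ∧ u + 1 + u + v = v + 1 ∧ v + u + v = u ∧ v + 1 + u + v = u + 1 := by decide
  by_cases ha : x.1 = a.1
  · rcases sib_cases ha with rfl | rfl
    · exact Or.inl ⟨rfl, by simp [rperm, (k1 x.2 b.2).1]⟩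
    · exact Or.inr (Or.inl ⟨rfl, by simp [rperm, bar, (k1 a.2 b.2).2.1]⟩)
  · by_cases hb : x.1 = b.1
    · rcases sib_cases hb with rfl | rfl
      · exact Or.inr (Or.inr (Or.inl ⟨rfl, by simp [rperm, ha, (k1 a.2 x.2).2.2.1]⟩))
      · exact Or.inr (Or.inr (Or.inr (Or.inl ⟨rfl, by simp [rperm, bar, h.symm, (k1 a.2 b.2).2.2.2]⟩)))
    · exact Or.inr (Or.inr (Or.inr (Or.inr ⟨ha, hb, by simp [rperm, ha, hb]⟩)))

namespace Pre

variable (S : Pre k F G)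

theorem prod_X {a b c : SI k} (hab : a.1 ≠ b.1) (hbc : b.1 ≠ c.1) (hac : a.1 ≠ c.1) (t u : F) :
    S.X a b t * S.X b c u = S.X a c (t * u) * S.X b c u * S.X a b t := by
  obtain ⟨f, hf, x, y, z⟩ := exists_even_three hab hac hbc a.2 b.2 c.2
  rw [S.X_eq hab ⟨hf, x, y⟩, S.X_eq hbc ⟨hf, y, z⟩, S.X_eq hac ⟨hf, x, z⟩, ← map_mul, ← map_mul, ← map_mul,
    T_prod hab hbc hac]

theorem H_cocycle {a b c : SI k} (hab : a.1 ≠ b.1) (hbc : b.1 ≠ c.1) (hac : a.1 ≠ c.1) (t : Fˣ) :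
    S.H a b t * S.H b c t = S.H a c t := by
  obtain ⟨f, hf, x, y, z⟩ := exists_even_three hab hac hbc a.2 b.2 c.2
  rw [S.H_eq hab ⟨hf, x, y⟩, S.H_eq hbc ⟨hf, y, z⟩, S.H_eq hac ⟨hf, x, z⟩, ← map_mul, hd_cocycle hab hbc hac]

theorem H_symm (a b : SI k) (t : Fˣ) : S.H b a t = S.H a b t⁻¹ := by
  by_cases h : a.1 ≠ b.1
  · obtain ⟨f, hf⟩ := exists_fr h
    rw [S.H_eq h hf, S.H_eq h.symm ⟨hf.1, hf.2.2, hf.2.1⟩, hd_symm h]
  · rw [not_not] at h
    rw [S.H_same h, S.H_same h.symm]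

theorem H_words (a b : SI k) (t : Fˣ) : S.H a b t =
    S.X a b (t : F) * S.X b a (-((t⁻¹ : Fˣ) : F)) * S.X a b (t : F) *
      (S.X a b (-1) * S.X b a 1 * S.X a b (-1)) := by
  by_cases h : a.1 ≠ b.1
  · obtain ⟨f, hf⟩ := exists_fr h
    have hf' : Fr f b a := ⟨hf.1, hf.2.2, hf.2.1⟩
    rw [S.H_eq h hf, hd_eq, S.X_eq h hf, S.X_eq h.symm hf', S.X_eq h hf, S.X_eq h.symm hf']
    simp [Wt]
  · rw [not_not] at h
    simp [S.H_same h, S.X_same h, S.X_same h.symm]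

theorem n_pow_four {a b : SI k} (h : a.1 ≠ b.1) : S.n a b * (S.n a b * (S.n a b * S.n a b)) = 1 := by
  obtain ⟨f, hf⟩ := exists_fr h
  rw [S.n_eq h hf, ← map_mul, ← map_mul, ← map_mul, ← mul_assoc, Wt_sq, ← map_mul]
  simp

theorem n_X {a b : SI k} (h : a.1 ≠ b.1) (c d : SI k) (t : F) :
    ∃ u, S.n a b * S.X c d t * (S.n a b)⁻¹ = S.X (rperm a b c) (rperm a b d) u := by
  obtain ⟨f, hf⟩ := exists_fr h
  have hfi : ∀ x : SI k, fl f (Equiv.swap a.1 b.1 (fl f x).1, (fl f x).2) = rperm a b x := by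
    intro x
    simp only [rperm, fl_fst, fl_snd, fl, Prod.mk.injEq]
    by_cases ha : x.1 = a.1
    · simp [ha, hf.2.1, hf.2.2, h, add_assoc]
    · by_cases hb : x.1 = b.1
      · simp [hb, hf.2.1, hf.2.2, h.symm]
        ring
      · simp [ha, hb, swap_apply_of_ne_of_ne ha hb, add_assoc, z2_self]
  refine ⟨wv b.1 (Equiv.swap a.1 b.1 (fl f c).1) * wv b.1 (Equiv.swap a.1 b.1 (fl f d).1) * t, ?_⟩
  rw [S.n_eq h hf, cf_apply, ← hfi, ← hfi, ← S.E_X hf.1, ← S.W_X h, ← S.E_X hf.1]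
  simp [mul_assoc, S.E_inv]

theorem n_mem_nf {a b : SI k} (h : a.1 ≠ b.1) :
    ∃ g, Even' g ∧ S.n a b = S.E g * S.A (Wt h (1 : Fˣ)) := by
  obtain ⟨f, hf⟩ := exists_fr h
  refine ⟨f + f ∘ (Equiv.swap a.1 b.1).symm, hf.1.add (even_comp hf.1 _), ?_⟩
  rw [S.n_eq h hf, cf_apply, S.E_add, ← S.conj_E (S.A (Wt h (1 : Fˣ))) _ (fun p q => by rw [Wt_one_eq]; exact S.W_e h p q) hf.1]
  simp [mul_assoc]

end Pre

namespace Sys

variable (S : Sys k F G)

theorem comm_same' {a b : SI k} (h : a.1 ≠ b.1) : S.toPre.C4 a b (bar a) b := by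
  have h' := (S.comm_same h).flip
  rw [bar_bar] at h'
  exact h'.swap

theorem H_X (a b c d : SI k) (s : Fˣ) (t : F) :
    ∃ u, S.toPre.H a b s * S.toPre.X c d t * (S.toPre.H a b s)⁻¹ = S.toPre.X c d u := by
  by_cases hab : a.1 = b.1
  · exact ⟨t, by rw [S.toPre.H_same hab, one_mul, inv_one, mul_one]⟩
  by_cases hcd : c.1 = d.1
  · exact ⟨t, by rw [S.toPre.X_same hcd, mul_one, mul_inv_cancel]⟩
  rcases S.two_cases hab hcd with ⟨f, hab', p, q, hpq, ε, -, hε, -, -, -, h1, x2, -, -⟩ | h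
  · refine ⟨ε * (hv a.1 b.1 s p * hv a.1 b.1 s⁻¹ q * (ε * t)), ?_⟩
    rw [h1, x2, x2, ← map_inv, ← map_mul, ← map_mul, hd_conj_T, ← mul_assoc ε ε, hε, one_mul]
  · refine ⟨t, ?_⟩
    rw [mul_inv_eq_iff_eq_mul]
    rw [S.toPre.H_words]
    have h1 := fun x => (h x t).1
    have h2 := fun x => (h x t).2.2.1
    exact (((h1 _).mul_left (h2 _)).mul_left (h1 _)).mul_left (((h1 _).mul_left (h2 _)).mul_left (h1 _))

theorem H_comm (a b c d : SI k) (s t : Fˣ) : Commute (S.toPre.H a b s) (S.toPre.H c d t) := by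
  by_cases hab : a.1 = b.1
  · rw [S.toPre.H_same hab]; exact Commute.one_left _
  by_cases hcd : c.1 = d.1
  · rw [S.toPre.H_same hcd]; exact Commute.one_right _
  rcases S.two_cases hab hcd with ⟨f, hab', p, q, hpq, ε, -, hε, -, -, -, h1, -, -, h2⟩ | h
  · rw [h1, h2]
    exact (hd_comm hab' hpq s t).map _
  · rw [S.toPre.H_words a b, S.toPre.H_words c d]
    have h1 := fun x y => (h x y).1
    have h2 := fun x y => (h x y).2.1
    have h3 := fun x y => (h x y).2.2.1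
    have h4 := fun x y => (h x y).2.2.2
    have r1 : ∀ x, Commute (S.toPre.X a b x) (S.toPre.X c d (t : F) * S.toPre.X d c (-((t⁻¹ : Fˣ) : F)) *
        S.toPre.X c d (t : F) * (S.toPre.X c d (-1) * S.toPre.X d c 1 * S.toPre.X c d (-1))) := fun x =>
      (((h1 _ _).mul_right (h2 _ _)).mul_right (h1 _ _)).mul_right (((h1 _ _).mul_right (h2 _ _)).mul_right (h1 _ _))
    have r2 : ∀ x, Commute (S.toPre.X b a x) (S.toPre.X c d (t : F) * S.toPre.X d c (-((t⁻¹ : Fˣ) : F)) *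
        S.toPre.X c d (t : F) * (S.toPre.X c d (-1) * S.toPre.X d c 1 * S.toPre.X c d (-1))) := fun x =>
      (((h3 _ _).mul_right (h4 _ _)).mul_right (h3 _ _)).mul_right (((h3 _ _).mul_right (h4 _ _)).mul_right (h3 _ _))
    exact (((r1 _).mul_left (r2 _)).mul_left (r1 _)).mul_left (((r1 _).mul_left (r2 _)).mul_left (r1 _))

/-- The torus. -/
def tor : Subgroup G := Subgroup.closure {g | ∃ a b s, g = S.toPre.H a b s}

theorem H_mem (a b : SI k) (s : Fˣ) : S.toPre.H a b s ∈ S.tor := Subgroup.subset_closure ⟨a, b, s, rfl⟩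

theorem tor_comm {x y : G} (hx : x ∈ S.tor) (hy : y ∈ S.tor) : x * y = y * x := by
  have h1 : S.tor ≤ Subgroup.centralizer {g | ∃ a b s, g = S.toPre.H a b s} := by
    refine (Subgroup.closure_le _).2 ?_
    rintro _ ⟨a, b, s, rfl⟩ _ ⟨c, d, t, rfl⟩
    exact (S.H_comm c d a b t s).eq
  have h2 : S.tor ≤ Subgroup.centralizer (S.tor : Set G) := by
    refine (Subgroup.closure_le _).2 ?_
    rintro _ ⟨a, b, s, rfl⟩ z hz
    exact (h1 hz _ ⟨a, b, s, rfl⟩).symm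
  exact (h2 hy x hx)

theorem E_tor {g : Ix k → ZMod 2} (hg : Even' g) {x : G} (hx : x ∈ S.tor) :
    S.toPre.E g * x * S.toPre.E g ∈ S.tor := by
  have h : S.tor ≤ S.tor.comap (MulAut.conj (S.toPre.E g) : G ≃* G).toMonoidHom := by
    refine (Subgroup.closure_le _).2 ?_
    rintro _ ⟨a, b, s, rfl⟩
    show S.toPre.E g * _ * (S.toPre.E g)⁻¹ ∈ S.tor
    rw [S.toPre.E_inv, S.toPre.E_H hg]
    exact S.H_mem _ _ _
  have := h hx
  rwa [Subgroup.mem_comap, MulEquiv.coe_toMonoidHom, MulAut.conj_apply, S.toPre.E_inv] at this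

/-- The monomial subgroup. -/
def mw (k : ℕ) (F : Type*) [Field F] : Subgroup (SpecialLinearGroup (Ix k) F) :=
  Subgroup.closure {M | ∃ (i j : Ix k) (h : i ≠ j), M = Wt h (1 : Fˣ)}

theorem Wt_one_inv {i j : Ix k} (h : i ≠ j) : (Wt h (1 : Fˣ))⁻¹ = Wt h.symm (1 : Fˣ) := by
  rw [Pre.Wt_one_eq, Pre.Wt_one_eq, Wm_inv]

theorem mw_conj {M : SpecialLinearGroup (Ix k) F} (hM : M ∈ mw k F) :
    (∃ σ : Perm (Ix k), (∀ a b, S.A M * S.toPre.e a b * (S.A M)⁻¹ = S.toPre.e (σ a) (σ b))) ∧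
      ∀ x ∈ S.tor, S.A M * x * (S.A M)⁻¹ ∈ S.tor := by
  refine Subgroup.closure_induction'' ?_ ?_ ?_ ?_ hM
  · rintro _ ⟨i, j, h, rfl⟩
    refine ⟨⟨swap i j, fun a b => by rw [Pre.Wt_one_eq]; exact S.toPre.W_e h a b⟩, fun x hx => ?_⟩
    have h' : S.tor ≤ S.tor.comap (MulAut.conj (S.A (Wt h 1)) : G ≃* G).toMonoidHom := by
      refine (Subgroup.closure_le _).2 ?_
      rintro _ ⟨a, b, s, rfl⟩
      show S.A (Wt h 1) * _ * (S.A (Wt h 1))⁻¹ ∈ S.tor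
      rw [S.toPre.W_H h]
      exact S.H_mem _ _ _
    exact h' hx
  · rintro _ ⟨i, j, h, rfl⟩
    rw [Wt_one_inv]
    refine ⟨⟨swap j i, fun a b => by rw [Pre.Wt_one_eq]; exact S.toPre.W_e h.symm a b⟩, fun x hx => ?_⟩
    have h' : S.tor ≤ S.tor.comap (MulAut.conj (S.A (Wt h.symm 1)) : G ≃* G).toMonoidHom := by
      refine (Subgroup.closure_le _).2 ?_
      rintro _ ⟨a, b, s, rfl⟩
      show S.A (Wt h.symm 1) * _ * (S.A (Wt h.symm 1))⁻¹ ∈ S.tor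
      rw [S.toPre.W_H h.symm]
      exact S.H_mem _ _ _
    exact h' hx
  · exact ⟨⟨1, fun a b => by simp⟩, fun x hx => by simpa using hx⟩
  · rintro x y - - ⟨⟨σ, hσ⟩, hx⟩ ⟨⟨τ, hτ⟩, hy⟩
    refine ⟨⟨σ * τ, fun a b => ?_⟩, fun z hz => ?_⟩
    · rw [Perm.mul_apply, Perm.mul_apply, ← hσ, ← hτ, map_mul]
      simp [mul_assoc]
    · have := hx _ (hy z hz)
      rw [map_mul]
      simpa [mul_assoc] using this

/-- The monomial elements. -/
def InN (g : G) : Prop :=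
  ∃ x ∈ S.tor, ∃ f, Even' f ∧ ∃ M ∈ mw k F, g = x * S.toPre.E f * S.A M

theorem inN_mul {g g' : G} (hg : S.InN g) (hg' : S.InN g') : S.InN (g * g') := by
  obtain ⟨x, hx, f, hf, M, hM, rfl⟩ := hg
  obtain ⟨x', hx', f', hf', M', hM', rfl⟩ := hg'
  obtain ⟨⟨σ, hσ⟩, ht⟩ := S.mw_conj hM
  refine ⟨x * (S.toPre.E f * (S.A M * x' * (S.A M)⁻¹) * S.toPre.E f), mul_mem hx (S.E_tor hf (ht _ hx')),
    f + f' ∘ σ.symm, hf.add (Pre.even_comp hf' _), M * M', mul_mem hM hM', ?_⟩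
  rw [S.toPre.E_add, ← S.toPre.conj_E _ σ hσ hf', map_mul]
  have h2 := S.toPre.E_sq f
  calc x * S.toPre.E f * S.A M * (x' * S.toPre.E f' * S.A M')
      = x * S.toPre.E f * (S.A M * x' * (S.A M)⁻¹) * (S.toPre.E f * S.toPre.E f) *
        (S.A M * S.toPre.E f' * (S.A M)⁻¹) * (S.A M * S.A M') := by rw [h2]; simp [mul_assoc]
    _ = _ := by simp only [mul_assoc]

theorem inN_tor {x : G} (hx : x ∈ S.tor) : S.InN x :=
  ⟨x, hx, 0, by simp [Even'], 1, one_mem _, by rw [S.toPre.E_zero, map_one, mul_one, mul_one]⟩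

theorem inN_one : S.InN 1 := S.inN_tor (one_mem _)

theorem inN_n {a b : SI k} (h : a.1 ≠ b.1) : S.InN (S.toPre.n a b) := by
  obtain ⟨g, hg, e⟩ := S.toPre.n_mem_nf h
  exact ⟨1, one_mem _, g, hg, _, Subgroup.subset_closure ⟨_, _, h, rfl⟩, by rw [one_mul, e]⟩

/-- Elements permuting the root groups. -/
def Nice (m : G) : Prop :=
  ∃ σ : SI k → SI k, Function.Injective σ ∧ (∀ a, σ (bar a) = bar (σ a)) ∧
    ∀ a b t, ∃ u, m * S.toPre.X a b t * m⁻¹ = S.toPre.X (σ a) (σ b) u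

theorem Nice.mul {m m' : G} (h : S.Nice m) (h' : S.Nice m') : S.Nice (m * m') := by
  obtain ⟨σ, hi, hb, hσ⟩ := h
  obtain ⟨τ, hi', hb', hτ⟩ := h'
  refine ⟨σ ∘ τ, hi.comp hi', fun a => by simp [hb', hb], fun a b t => ?_⟩
  obtain ⟨u, hu⟩ := hτ a b t
  obtain ⟨v, hv⟩ := hσ (τ a) (τ b) u
  exact ⟨v, by rw [← hu] at hv; simpa [mul_assoc] using hv⟩

theorem nice_one : S.Nice 1 := ⟨id, Function.injective_id, fun _ => rfl, fun a b t => ⟨t, by simp⟩⟩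

theorem nice_tor {x : G} (hx : x ∈ S.tor) : S.Nice x := by
  refine Subgroup.closure_induction'' (p := fun x _ => S.Nice x) ?_ ?_ S.nice_one (fun _ _ _ _ => Nice.mul S) hx
  · rintro _ ⟨a, b, s, rfl⟩
    exact ⟨id, Function.injective_id, fun _ => rfl, fun c d t => S.H_X a b c d s t⟩
  · rintro _ ⟨a, b, s, rfl⟩
    rw [← map_inv]
    exact ⟨id, Function.injective_id, fun _ => rfl, fun c d t => S.H_X a b c d s⁻¹ t⟩

theorem nice_E {f : Ix k → ZMod 2} (hf : Even' f) : S.Nice (S.toPre.E f) :=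
  ⟨fl f, fun a b h => by
    have h1 := congrArg Prod.fst h
    have h2 := congrArg Prod.snd h
    simp only [fl_fst, fl_snd] at h1 h2
    exact Prod.ext h1 (by rw [h1] at h2; exact add_right_cancel h2),
    fun a => Prod.ext rfl (by simp [add_right_comm]),
    fun a b t => ⟨t, by rw [S.toPre.E_inv, S.toPre.E_X hf]⟩⟩

theorem nice_Wt {i j : Ix k} (h : i ≠ j) : S.Nice (S.A (Wt h 1)) :=
  ⟨fun a => (swap i j a.1, a.2), fun a b hab => by
    simp only [Prod.mk.injEq] at hab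
    exact Prod.ext ((swap i j).injective hab.1) hab.2,
    fun a => rfl, fun a b t => ⟨_, S.toPre.W_X h a b t⟩⟩

theorem nice_mw {M : SpecialLinearGroup (Ix k) F} (hM : M ∈ mw k F) : S.Nice (S.A M) := by
  refine Subgroup.closure_induction'' (p := fun M _ => S.Nice (S.A M)) ?_ ?_ ?_ ?_ hM
  · rintro _ ⟨i, j, h, rfl⟩; exact S.nice_Wt h
  · rintro _ ⟨i, j, h, rfl⟩; rw [Wt_one_inv]; exact S.nice_Wt h.symm
  · rw [map_one]; exact S.nice_one
  · intro x y _ _ hx hy; rw [map_mul]; exact hx.mul S hy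

theorem inN_nice {g : G} (hg : S.InN g) : S.Nice g⁻¹ := by
  obtain ⟨x, hx, f, hf, M, hM, rfl⟩ := hg
  rw [_root_.mul_inv_rev, _root_.mul_inv_rev, S.toPre.E_inv, ← map_inv]
  exact (S.nice_mw (inv_mem hM)).mul S ((S.nice_E hf).mul S (S.nice_tor (inv_mem hx)))

end Sys

end Cfsg.Lib.Linear.ShortPres.OmegaPlus
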