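import Cfsg.Agent.Lib.Linear.ShortPres.OmegaPlus.Sign
import Cfsg.Agent.Lib.Linear.ShortPres.OmegaPlus.Mono

/-!
# Root elements of a sign change over the special linear group
-/

set_option autoImplicit false
set_option linter.unusedSectionVars false

namespace Cfsg.Lib.Linear.ShortPres.OmegaPlus

open Equiv Matrix
open Cfsg.Lib.Linear.ShortPres.SLN
open scoped MatrixGroups

variable {F : Type*} [Field F] {k : ℕ} {G : Type*} [Group G]

/-- The signed indices. -/
abbrev SI (k : ℕ) : Type := Ix k × ZMod 2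

/-- The opposite signed index. -/
def bar (a : SI k) : SI k := (a.1, a.2 + 1)

/-- Sign changes on signed indices. -/
def fl (f : Ix k → ZMod 2) (a : SI k) : SI k := (a.1, a.2 + f a.1)

@[simp] theorem bar_fst (a : SI k) : (bar a).1 = a.1 := rfl
@[simp] theorem bar_snd (a : SI k) : (bar a).2 = a.2 + 1 := rfl
@[simp] theorem fl_fst (f : Ix k → ZMod 2) (a : SI k) : (fl f a).1 = a.1 := rfl
@[simp] theorem fl_snd (f : Ix k → ZMod 2) (a : SI k) : (fl f a).2 = a.2 + f a.1 := rfl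

theorem bar_bar (a : SI k) : bar (bar a) = a := Prod.ext rfl (by
  show a.2 + 1 + 1 = a.2
  rw [add_assoc, CharTwo.add_self_eq_zero, add_zero])

theorem sib_cases {a c : SI k} (h : c.1 = a.1) : c = a ∨ c = bar a := by
  have key : ∀ x y : ZMod 2, y = x ∨ y = x + 1 := by decide
  exact (key a.2 c.2).imp (Prod.ext h) (Prod.ext h)

theorem z2_self (x : ZMod 2) : x + x = 0 := CharTwo.add_self_eq_zero x

theorem exists_even_four {i j l m : Ix k} (hij : i ≠ j) (hil : i ≠ l) (him : i ≠ m) (hjl : j ≠ l) (hjm : j ≠ m)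
    (hlm : l ≠ m) (x y z u : ZMod 2) (hs : x + y + z + u = 0) :
    ∃ f : Ix k → ZMod 2, Even' f ∧ f i = x ∧ f j = y ∧ f l = z ∧ f m = u := by
  refine ⟨Pi.single i x + Pi.single j y + Pi.single l z + Pi.single m u, ?_, ?_, ?_, ?_, ?_⟩
  · simp only [Even', Pi.add_apply, Finset.sum_add_distrib, Finset.sum_pi_single', Finset.mem_univ, if_true]
    exact hs
  all_goals simp [hij, hil, him, hjl, hjm, hlm, hij.symm, hil.symm, him.symm, hjl.symm, hjm.symm, hlm.symm]

theorem exists_off3 (i j l : Ix k) : ∃ m : Ix k, m ≠ i ∧ m ≠ j ∧ m ≠ l := by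
  have h : ({i, j, l} : Finset (Ix k)).card < (Finset.univ : Finset (Ix k)).card := by
    refine lt_of_le_of_lt Finset.card_le_three ?_
    simp only [Finset.card_univ, Fintype.card_fin]
    omega
  obtain ⟨m, -, hm⟩ := Finset.exists_mem_notMem_of_card_lt_card h
  simp only [Finset.mem_insert, Finset.mem_singleton, not_or] at hm
  exact ⟨m, hm⟩

theorem exists_even_three {i j l : Ix k} (hij : i ≠ j) (hil : i ≠ l) (hjl : j ≠ l) (x y z : ZMod 2) :
    ∃ f : Ix k → ZMod 2, Even' f ∧ f i = x ∧ f j = y ∧ f l = z := by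
  obtain ⟨m, mi, mj, ml⟩ := exists_off3 i j l
  obtain ⟨f, hf, a, b, c, -⟩ := exists_even_four hij hil mi.symm hjl mj.symm ml.symm x y z (x + y + z)
    (z2_self _)
  exact ⟨f, hf, a, b, c⟩

/-- A frame of a pair of signed indices. -/
def Fr (f : Ix k → ZMod 2) (a b : SI k) : Prop := Even' f ∧ f a.1 = a.2 ∧ f b.1 = b.2

theorem exists_fr {a b : SI k} (h : a.1 ≠ b.1) : ∃ f, Fr f a b := by
  obtain ⟨m, ma, mb⟩ := exists_off a.1 b.1
  obtain ⟨f, hf, x, y, -⟩ := exists_even_three h ma.symm mb.symm a.2 b.2 0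
  exact ⟨f, hf, x, y⟩

theorem exists_even_five {i j l m : Ix k} (hij : i ≠ j) (hil : i ≠ l) (him : i ≠ m) (hjl : j ≠ l) (hjm : j ≠ m)
    (hlm : l ≠ m) (x y z u : ZMod 2) (hs : x + y + z + u = 0 ∨ 1 ≤ k) :
    ∃ f : Ix k → ZMod 2, Even' f ∧ f i = x ∧ f j = y ∧ f l = z ∧ f m = u := by
  rcases hs with hs | hk
  · exact exists_even_four hij hil him hjl hjm hlm x y z u hs
  have h : ({i, j, l, m} : Finset (Ix k)).card < (Finset.univ : Finset (Ix k)).card := by
    refine lt_of_le_of_lt Finset.card_le_four ?_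
    simp only [Finset.card_univ, Fintype.card_fin]
    omega
  obtain ⟨q, -, hq⟩ := Finset.exists_mem_notMem_of_card_lt_card h
  simp only [Finset.mem_insert, Finset.mem_singleton, not_or] at hq
  obtain ⟨qi, qj, ql, qm⟩ := hq
  refine ⟨Pi.single i x + Pi.single j y + Pi.single l z + Pi.single m u + Pi.single q (x + y + z + u),
    ?_, ?_, ?_, ?_, ?_⟩
  · simp only [Even', Pi.add_apply, Finset.sum_add_distrib, Finset.sum_pi_single', Finset.mem_univ, if_true]
    exact z2_self _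
  all_goals simp [hij, hil, him, hjl, hjm, hlm, hij.symm, hil.symm, him.symm, hjl.symm, hjm.symm, hlm.symm, qi, qj,
    ql, qm, Ne.symm qi, Ne.symm qj, Ne.symm ql, Ne.symm qm]

/-- The relations of a sign change. -/
structure Sys (k : ℕ) (F : Type*) [Field F] (G : Type*) [Group G] extends Pre k F G where
  same : ∀ x y, Commute (A (lo F k x)) (toPre.e (j1 k) (j2 k) * A (lo F k y) * toPre.e (j1 k) (j2 k))
  disj : k = 0 → ∀ x y, Commute (A (lo F k x)) (toPre.e (j1 k) (j2 k) * A (hi F k y) * toPre.e (j1 k) (j2 k))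

/-- A conjugation bookkeeping. -/
theorem flip_aux {M : Type*} [Group M] {f e x y : M} (hee : e * e = 1) (hfe : f * e = e * f)
    (h : e * x * e = y) : f * e * y * (f * e) = f * x * f := by
  rw [← h]
  conv_lhs => arg 2; rw [hfe]
  calc f * e * (e * x * e) * (e * f) = f * (e * e) * x * (e * e) * f := by simp [mul_assoc]
    _ = _ := by simp [hee]

namespace Pre

variable (S : Pre k F G)

/-- The special linear group in the frame of a sign change. -/
noncomputable def cf (f : Ix k → ZMod 2) : SpecialLinearGroup (Ix k) F →* G :=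
  (MulAut.conj (S.E f)).toMonoidHom.comp S.A

theorem cf_apply (f : Ix k → ZMod 2) (g : SpecialLinearGroup (Ix k) F) :
    S.cf f g = S.E f * S.A g * S.E f := by
  simp [cf, MulAut.conj_apply, S.E_inv]

theorem cf_zero : S.cf 0 = S.A := MonoidHom.ext fun g => by rw [cf_apply, S.E_zero, one_mul, mul_one]

theorem E_comm' (g f : Ix k → ZMod 2) : S.E g * S.E f = S.E f * S.E g := by
  rw [← S.E_add, ← S.E_add, add_comm]

theorem E_cf (g f : Ix k → ZMod 2) (M : SpecialLinearGroup (Ix k) F) :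
    S.E g * S.cf f M * S.E g = S.cf (g + f) M := by
  rw [cf_apply, cf_apply]
  calc S.E g * (S.E f * S.A M * S.E f) * S.E g = S.E g * S.E f * S.A M * (S.E f * S.E g) := by simp [mul_assoc]
    _ = _ := by rw [S.E_comm' f g, S.E_add]

theorem cf_T_congr {i j : Ix k} (h : i ≠ j) (t : F) {f g : Ix k → ZMod 2} (hf : Even' f) (hg : Even' g)
    (hi' : f i = g i) (hj' : f j = g j) : S.cf f (T h t) = S.cf g (T h t) := by
  have hc := S.E_fix h t (f := g + f) (hg.add hf) (by rw [Pi.add_apply, hi', z2_self])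
    (by rw [Pi.add_apply, hj', z2_self])
  have e : S.E (g + f) * S.A (T h t) * S.E (g + f) = S.A (T h t) := by
    rw [hc.eq, mul_assoc, S.E_sq, mul_one]
  have hgf : g + f + g = f := by funext x; simp only [Pi.add_apply]; rw [add_comm (g x), add_assoc, z2_self, add_zero]
  calc S.cf f (T h t) = S.cf (g + f + g) (T h t) := by rw [hgf]
    _ = S.E g * (S.E (g + f) * S.A (T h t) * S.E (g + f)) * S.E g := by
        rw [cf_apply, S.E_add]
        conv_lhs => arg 1; arg 1; rw [S.E_comm']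
        simp [mul_assoc]
    _ = _ := by rw [e, cf_apply]

theorem flip_Wt {i j : Ix k} (h : i ≠ j) (t : Fˣ) :
    S.e i j * S.A (Wt h t) * S.e i j = S.A (Wt h.symm (-t)) := by
  have e1 := S.flip h (t : F)
  have e2 := S.flip h.symm (-((t⁻¹ : Fˣ) : F))
  rw [S.e_symm j i] at e2
  calc S.e i j * S.A (Wt h t) * S.e i j = (S.e i j * S.A (T h (t : F)) * S.e i j) *
        (S.e i j * S.A (T h.symm (-((t⁻¹ : Fˣ) : F))) * S.e i j) * (S.e i j * S.A (T h (t : F)) * S.e i j) := by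
        rw [Wt, map_mul, map_mul]
        simp only [← mul_assoc]
        rw [mul_assoc (_ * _) (S.e i j) (S.e i j), S.e_sq, mul_one, mul_assoc (_ * _) (S.e i j) (S.e i j), S.e_sq,
          mul_one]
    _ = _ := by
        rw [e1, e2, Wt, map_mul, map_mul]
        simp

theorem flip_hd {i j : Ix k} (h : i ≠ j) (t : Fˣ) :
    S.e i j * S.A (hd h t) * S.e i j = S.A (hd h.symm t) := by
  calc S.e i j * S.A (hd h t) * S.e i j =
        (S.e i j * S.A (Wt h t) * S.e i j) * (S.e i j * S.A (Wt h (-1)) * S.e i j) := by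
        rw [hd_eq, map_mul]
        simp only [← mul_assoc]
        rw [mul_assoc (_ * _) (S.e i j) (S.e i j), S.e_sq, mul_one]
    _ = _ := by rw [S.flip_Wt, S.flip_Wt, neg_neg, ← map_mul, ← hd_eq']

open Classical in
/-- The root element. -/
noncomputable def X (a b : SI k) (t : F) : G :=
  if h : a.1 ≠ b.1 then S.cf (exists_fr h).choose (T h t) else 1

theorem X_eq {a b : SI k} (h : a.1 ≠ b.1) {f : Ix k → ZMod 2} (hf : Fr f a b) (t : F) :
    S.X a b t = S.cf f (T h t) := by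
  obtain ⟨g1, g2, g3⟩ := (exists_fr h).choose_spec
  simp only [X, dif_pos h]
  exact S.cf_T_congr h t g1 hf.1 (g2.trans hf.2.1.symm) (g3.trans hf.2.2.symm)

theorem X_same {a b : SI k} (h : a.1 = b.1) (t : F) : S.X a b t = 1 := by simp [X, h]

theorem X_add (a b : SI k) (t u : F) : S.X a b t * S.X a b u = S.X a b (t + u) := by
  by_cases h : a.1 ≠ b.1
  · simp only [X, dif_pos h, ← map_mul, T_add]
  · simp [X, dif_neg h]

theorem X_zero (a b : SI k) : S.X a b 0 = 1 := by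
  have h := S.X_add a b 0 0
  rw [add_zero] at h
  exact mul_eq_left.1 h

theorem X_inv (a b : SI k) (t : F) : (S.X a b t)⁻¹ = S.X a b (-t) :=
  inv_eq_of_mul_eq_one_right (by rw [S.X_add, add_neg_cancel, S.X_zero])

theorem fr_bar {f : Ix k → ZMod 2} {a b : SI k} (h : a.1 ≠ b.1) (hf : Fr f a b) :
    Fr (f + (Pi.single a.1 1 + Pi.single b.1 1)) (bar b) (bar a) := by
  refine ⟨hf.1.add (even_pair _ _), ?_, ?_⟩
  · simp [hf.2.2, h, h.symm]
  · simp [hf.2.1, h, h.symm]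

theorem X_flip (a b : SI k) (t : F) : S.X (bar b) (bar a) t = S.X a b (-t) := by
  by_cases h : a.1 ≠ b.1
  · obtain ⟨f, hf⟩ := exists_fr h
    rw [S.X_eq (a := bar b) (b := bar a) h.symm (fr_bar h hf) t, S.X_eq h hf, cf_apply, cf_apply, S.E_add,
      S.E_pair]
    have e : S.E f * S.e a.1 b.1 = S.e a.1 b.1 * S.E f := by
      rw [← S.E_pair, ← S.E_add, ← S.E_add, add_comm]
    exact flip_aux (S.e_sq _ _) e (by have hfl := S.flip h (-t); rwa [neg_neg] at hfl)
  · rw [not_not] at h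
    rw [S.X_same h, S.X_same (a := bar b) (b := bar a) h.symm]

open Classical in
/-- The torus element. -/
noncomputable def H (a b : SI k) : Fˣ →* G :=
  if h : a.1 ≠ b.1 then (S.cf (exists_fr h).choose).comp (hd h) else 1

theorem cf_mono_congr {i j : Ix k} (h : i ≠ j) {f g : Ix k → ZMod 2} (hf : Even' f) (hg : Even' g)
    (hi' : f i = g i) (hj' : f j = g j) :
    (∀ t, S.cf f (Wt h t) = S.cf g (Wt h t)) ∧ ∀ t, S.cf f (hd h t) = S.cf g (hd h t) := by
  have h1 : ∀ t, S.cf f (Wt h t) = S.cf g (Wt h t) := fun t => by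
    simp only [Wt, map_mul]
    rw [S.cf_T_congr h _ hf hg hi' hj', S.cf_T_congr h.symm _ hf hg hj' hi']
  refine ⟨h1, fun t => ?_⟩
  rw [hd_eq, map_mul, map_mul, h1, h1]

theorem H_eq {a b : SI k} (h : a.1 ≠ b.1) {f : Ix k → ZMod 2} (hf : Fr f a b) (t : Fˣ) :
    S.H a b t = S.cf f (hd h t) := by
  obtain ⟨g1, g2, g3⟩ := (exists_fr h).choose_spec
  simp only [H, dif_pos h, MonoidHom.comp_apply]
  exact (S.cf_mono_congr h g1 hf.1 (g2.trans hf.2.1.symm) (g3.trans hf.2.2.symm)).2 t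

theorem H_same {a b : SI k} (h : a.1 = b.1) (t : Fˣ) : S.H a b t = 1 := by simp [H, h]

theorem H_flip (a b : SI k) (t : Fˣ) : S.H (bar b) (bar a) t = S.H a b t := by
  by_cases h : a.1 ≠ b.1
  · obtain ⟨f, hf⟩ := exists_fr h
    rw [S.H_eq (a := bar b) (b := bar a) h.symm (fr_bar h hf) t, S.H_eq h hf, cf_apply, cf_apply, S.E_add,
      S.E_pair]
    have e : S.E f * S.e a.1 b.1 = S.e a.1 b.1 * S.E f := by
      rw [← S.E_pair, ← S.E_add, ← S.E_add, add_comm]
    exact flip_aux (S.e_sq _ _) e (S.flip_hd h t)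
  · rw [not_not] at h
    rw [S.H_same h, S.H_same (a := bar b) (b := bar a) h.symm]

theorem E_X {g : Ix k → ZMod 2} (hg : Even' g) (a b : SI k) (t : F) :
    S.E g * S.X a b t * S.E g = S.X (fl g a) (fl g b) t := by
  by_cases h : a.1 ≠ b.1
  · obtain ⟨f, hf⟩ := exists_fr h
    rw [S.X_eq h hf, E_cf, S.X_eq (a := fl g a) (b := fl g b) h
      ⟨hg.add hf.1, by simp [hf.2.1, add_comm], by simp [hf.2.2, add_comm]⟩]
    rfl
  · rw [not_not] at h
    rw [S.X_same h, S.X_same (a := fl g a) (b := fl g b) h, mul_one, S.E_sq]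

theorem E_H {g : Ix k → ZMod 2} (hg : Even' g) (a b : SI k) (t : Fˣ) :
    S.E g * S.H a b t * S.E g = S.H (fl g a) (fl g b) t := by
  by_cases h : a.1 ≠ b.1
  · obtain ⟨f, hf⟩ := exists_fr h
    rw [S.H_eq h hf, E_cf, S.H_eq (a := fl g a) (b := fl g b) h
      ⟨hg.add hf.1, by simp [hf.2.1, add_comm], by simp [hf.2.2, add_comm]⟩]
    rfl
  · rw [not_not] at h
    rw [S.H_same h, S.H_same (a := fl g a) (b := fl g b) h, mul_one, S.E_sq]

theorem conj_E (c : G) (σ : Perm (Ix k)) (hc : ∀ a b, c * S.e a b * c⁻¹ = S.e (σ a) (σ b))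
    {f : Ix k → ZMod 2} (hf : Even' f) : c * S.E f * c⁻¹ = S.E (f ∘ σ.symm) := by
  refine even_induction (P := fun g => c * S.E g * c⁻¹ = S.E (g ∘ σ.symm)) hf (j0 k) ?_ ?_
  · rw [show (0 : Ix k → ZMod 2) ∘ σ.symm = 0 from rfl, S.E_zero]; simp
  intro g a _ _ hg
  have hp : ∀ b : Ix k, (Pi.single b (1 : ZMod 2)) ∘ σ.symm = Pi.single (σ b) 1 := fun b => by
    funext x
    simp [Pi.single_apply, Equiv.symm_apply_eq]
  rw [show (g + (Pi.single a 1 + Pi.single (j0 k) 1)) ∘ σ.symm =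
      g ∘ σ.symm + ((Pi.single a (1 : ZMod 2)) ∘ σ.symm + (Pi.single (j0 k) (1 : ZMod 2)) ∘ σ.symm) from rfl,
    hp, hp, S.E_add, S.E_add (g ∘ σ.symm), ← hg, S.E_pair, S.E_pair, ← hc]
  simp [mul_assoc]

theorem even_comp {f : Ix k → ZMod 2} (hf : Even' f) (σ : Perm (Ix k)) : Even' (f ∘ σ) :=
  (Equiv.sum_comp σ f).trans hf

theorem conj_cf (M : SpecialLinearGroup (Ix k) F) (σ : Perm (Ix k))
    (hc : ∀ a b, S.A M * S.e a b * (S.A M)⁻¹ = S.e (σ a) (σ b)) {f : Ix k → ZMod 2} (hf : Even' f)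
    (N : SpecialLinearGroup (Ix k) F) :
    S.A M * S.cf f N * (S.A M)⁻¹ = S.cf (f ∘ σ.symm) (M * N * M⁻¹) := by
  rw [cf_apply, cf_apply, ← S.conj_E (S.A M) σ hc hf, map_mul, map_mul, map_inv]
  simp [mul_assoc]

theorem pm_X (π : alternatingGroup (Ix k)) (a b : SI k) (t : F) :
    S.A (pm π) * S.X a b t * (S.A (pm π))⁻¹ = S.X (π.1 a.1, a.2) (π.1 b.1, b.2) t := by
  by_cases h : a.1 ≠ b.1
  · obtain ⟨f, hf⟩ := exists_fr h
    rw [S.X_eq h hf, S.conj_cf _ π.1 (S.e_pm π) hf.1, pm_conj_T,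
      S.X_eq (a := (π.1 a.1, a.2)) (b := (π.1 b.1, b.2)) (π.1.injective.ne h)
        ⟨even_comp hf.1 π.1.symm, by simpa using hf.2.1, by simpa using hf.2.2⟩]
  · rw [not_not] at h
    rw [S.X_same h, S.X_same (a := (π.1 a.1, a.2)) (b := (π.1 b.1, b.2)) (by simp [h]), mul_one,
      mul_inv_cancel]

theorem Wt_one_eq {i j : Ix k} (h : i ≠ j) : Wt h (1 : Fˣ) = Wm F h := by
  simp [Wt, Wm]

theorem W_X {i j : Ix k} (h : i ≠ j) (a b : SI k) (t : F) :
    S.A (Wt h 1) * S.X a b t * (S.A (Wt h 1))⁻¹ = S.X (swap i j a.1, a.2) (swap i j b.1, b.2)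
      (wv j (swap i j a.1) * wv j (swap i j b.1) * t) := by
  by_cases h' : a.1 ≠ b.1
  · obtain ⟨f, hf⟩ := exists_fr h'
    rw [S.X_eq h' hf, S.conj_cf _ (swap i j) (fun p q => by rw [Wt_one_eq]; exact S.W_e h p q) hf.1,
      Wt_conj_T, S.X_eq (a := (swap i j a.1, a.2)) (b := (swap i j b.1, b.2)) ((swap i j).injective.ne h')
        ⟨even_comp hf.1 (swap i j).symm, by simpa using hf.2.1, by simpa using hf.2.2⟩]
  · rw [not_not] at h'
    rw [S.X_same h', S.X_same (a := (swap i j a.1, a.2)) (b := (swap i j b.1, b.2)) (by simp [h']), mul_one,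
      mul_inv_cancel]

theorem W_H {i j : Ix k} (h : i ≠ j) (a b : SI k) (t : Fˣ) :
    S.A (Wt h 1) * S.H a b t * (S.A (Wt h 1))⁻¹ = S.H (swap i j a.1, a.2) (swap i j b.1, b.2) t := by
  by_cases h' : a.1 ≠ b.1
  · obtain ⟨f, hf⟩ := exists_fr h'
    rw [S.H_eq h' hf, S.conj_cf _ (swap i j) (fun p q => by rw [Wt_one_eq]; exact S.W_e h p q) hf.1,
      Wt_conj_hd, S.H_eq (a := (swap i j a.1, a.2)) (b := (swap i j b.1, b.2)) ((swap i j).injective.ne h')
        ⟨even_comp hf.1 (swap i j).symm, by simpa using hf.2.1, by simpa using hf.2.2⟩]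
  · rw [not_not] at h'
    rw [S.H_same h', S.H_same (a := (swap i j a.1, a.2)) (b := (swap i j b.1, b.2)) (by simp [h']), mul_one,
      mul_inv_cancel]

/-- The monomial element of a root. -/
noncomputable def n (a b : SI k) : G := S.X a b 1 * S.X b a (-1) * S.X a b 1

theorem n_eq {a b : SI k} (h : a.1 ≠ b.1) {f : Ix k → ZMod 2} (hf : Fr f a b) :
    S.n a b = S.cf f (Wt h 1) := by
  rw [n, S.X_eq h hf, S.X_eq h.symm ⟨hf.1, hf.2.2, hf.2.1⟩]
  simp [Wt]

/-- All four root groups of two pairs commute. -/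
def C4 (a b c d : SI k) : Prop :=
  ∀ t u, Commute (S.X a b t) (S.X c d u) ∧ Commute (S.X a b t) (S.X d c u) ∧
    Commute (S.X b a t) (S.X c d u) ∧ Commute (S.X b a t) (S.X d c u)

theorem C4.swap {a b c d : SI k} (h : S.C4 a b c d) : S.C4 a b d c := fun t u =>
  ⟨(h t u).2.1, (h t u).1, (h t u).2.2.2, (h t u).2.2.1⟩

theorem C4.flip {a b c d : SI k} (h : S.C4 a b c d) : S.C4 a b (bar d) (bar c) := fun t u => by
  rw [S.X_flip, S.X_flip]
  exact h t (-u)

/-- A pair of roots seen in a common frame. -/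
def Share (a b c d : SI k) : Prop :=
  ∃ (f : Ix k → ZMod 2) (hab : a.1 ≠ b.1) (p q : Ix k) (hpq : p ≠ q) (ε : F), Fr f a b ∧ ε * ε = 1 ∧
    ((p = c.1 ∧ q = d.1 ∧ Fr f c d) ∨ (p = d.1 ∧ q = c.1 ∧ Fr f (bar d) (bar c))) ∧
    (∀ t, S.X a b t = S.cf f (T hab t)) ∧ (∀ t, S.X b a t = S.cf f (T hab.symm t)) ∧
    (∀ t, S.H a b t = S.cf f (hd hab t)) ∧
    (∀ u, S.X c d u = S.cf f (T hpq (ε * u))) ∧ (∀ u, S.X d c u = S.cf f (T hpq.symm (ε * u))) ∧
    (∀ u, S.H c d u = S.cf f (hd hpq u))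

theorem share_of_fr {a b c d : SI k} (hab : a.1 ≠ b.1) (hcd : c.1 ≠ d.1) {f : Ix k → ZMod 2}
    (hf : Fr f a b) (hg : Fr f c d ∨ Fr f (bar d) (bar c)) : S.Share a b c d := by
  have hba : Fr f b a := ⟨hf.1, hf.2.2, hf.2.1⟩
  rcases hg with hg | hg
  · exact ⟨f, hab, c.1, d.1, hcd, 1, hf, one_mul 1, Or.inl ⟨rfl, rfl, hg⟩, S.X_eq hab hf, S.X_eq hab.symm hba,
      S.H_eq hab hf, fun u => by rw [one_mul]; exact S.X_eq hcd hg u,
      fun u => by rw [one_mul]; exact S.X_eq hcd.symm ⟨hg.1, hg.2.2, hg.2.1⟩ u, S.H_eq hcd hg⟩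
  · refine ⟨f, hab, d.1, c.1, hcd.symm, -1, hf, by simp, Or.inr ⟨rfl, rfl, hg⟩, S.X_eq hab hf, S.X_eq hab.symm hba,
      S.H_eq hab hf, fun u => ?_, fun u => ?_, fun u => ?_⟩
    · rw [neg_one_mul]
      refine Eq.trans ?_ (S.X_eq (a := bar d) (b := bar c) hcd.symm hg (-u))
      rw [S.X_flip, neg_neg]
    · rw [neg_one_mul]
      refine Eq.trans ?_ (S.X_eq (a := bar c) (b := bar d) hcd ⟨hg.1, hg.2.2, hg.2.1⟩ (-u))
      rw [S.X_flip, neg_neg]
    · exact (S.H_flip c d u).symm.trans (S.H_eq (a := bar d) (b := bar c) hcd.symm hg u)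

end Pre

namespace Sys

variable (S : Sys k F G)

theorem base_same : S.toPre.C4 (j0 k, 0) (j1 k, 0) (j0 k, 0) (j1 k, 1) := by
  have h01 : j0 k ≠ j1 k := by simp [Fin.ext_iff]
  have h12 : j1 k ≠ j2 k := by simp [Fin.ext_iff]
  have h02 : j0 k ≠ j2 k := by simp [Fin.ext_iff]
  have key : ∀ (x y : SL(2, F)), Commute (S.A (lo F k x))
      (S.toPre.cf (Pi.single (j1 k) 1 + Pi.single (j2 k) 1) (lo F k y)) := fun x y => by
    rw [Pre.cf_apply, S.toPre.E_pair]
    exact S.same x y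
  have h0 : Even' (0 : Ix k → ZMod 2) := by simp [Even']
  have f0 : Fr (0 : Ix k → ZMod 2) (j0 k, 0) (j1 k, 0) := ⟨h0, rfl, rfl⟩
  have f1 : Fr (Pi.single (j1 k) 1 + Pi.single (j2 k) 1 : Ix k → ZMod 2) (j0 k, 0) (j1 k, 1) :=
    ⟨even_pair _ _, by simp [h01, h02], by simp [h12]⟩
  have a01 : (0 : Fin 2) ≠ 1 := by decide
  have l01 : ∀ t : F, lo F k (T a01 t) = T h01 t := fun t => by rw [lo_T]; rfl
  have l10 : ∀ t : F, lo F k (T a01.symm t) = T h01.symm t := fun t => by rw [lo_T]; rfl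
  intro t u
  rw [S.toPre.X_eq h01 f0, S.toPre.X_eq (a := (j0 k, (0 : ZMod 2))) (b := (j1 k, 1)) h01 f1,
    S.toPre.X_eq h01.symm ⟨f0.1, f0.2.2, f0.2.1⟩,
    S.toPre.X_eq (a := (j1 k, (1 : ZMod 2))) (b := (j0 k, 0)) h01.symm ⟨f1.1, f1.2.2, f1.2.1⟩,
    S.toPre.cf_zero, ← l01, ← l01, ← l10, ← l10]
  exact ⟨key _ _, key _ _, key _ _, key _ _⟩

theorem base_disj (hk : k = 0) : S.toPre.C4 (j0 k, 0) (j1 k, 0) (j2 k, 1) (j3 k, 0) := by
  have h01 : j0 k ≠ j1 k := by simp [Fin.ext_iff]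
  have h12 : j1 k ≠ j2 k := by simp [Fin.ext_iff]
  have h23 : j2 k ≠ j3 k := by simp [Fin.ext_iff]
  have h13 : j1 k ≠ j3 k := by simp [Fin.ext_iff]
  have key : ∀ (x : SL(2, F)) (y : SpecialLinearGroup (Fin (k + 2)) F), Commute (S.A (lo F k x))
      (S.toPre.cf (Pi.single (j1 k) 1 + Pi.single (j2 k) 1) (hi F k y)) := fun x y => by
    rw [Pre.cf_apply, S.toPre.E_pair]
    exact S.disj hk x y
  have h0 : Even' (0 : Ix k → ZMod 2) := by simp [Even']
  have f0 : Fr (0 : Ix k → ZMod 2) (j0 k, 0) (j1 k, 0) := ⟨h0, rfl, rfl⟩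
  have f1 : Fr (Pi.single (j1 k) 1 + Pi.single (j2 k) 1 : Ix k → ZMod 2) (j2 k, 1) (j3 k, 0) :=
    ⟨even_pair _ _, by simp [h12.symm], by simp [h13.symm, h23.symm]⟩
  have a01 : (0 : Fin 2) ≠ 1 := by decide
  have b01 : (⟨0, by omega⟩ : Fin (k + 2)) ≠ ⟨1, by omega⟩ := by simp [Fin.ext_iff]
  have l01 : ∀ t : F, lo F k (T a01 t) = T h01 t := fun t => by rw [lo_T]; rfl
  have l10 : ∀ t : F, lo F k (T a01.symm t) = T h01.symm t := fun t => by rw [lo_T]; rfl
  have g01 : ∀ t : F, hi F k (T b01 t) = T h23 t := fun t => by rw [hi_T]; rfl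
  have g10 : ∀ t : F, hi F k (T b01.symm t) = T h23.symm t := fun t => by rw [hi_T]; rfl
  intro t u
  rw [S.toPre.X_eq h01 f0, S.toPre.X_eq (a := (j2 k, (1 : ZMod 2))) (b := (j3 k, 0)) h23 f1,
    S.toPre.X_eq h01.symm ⟨f0.1, f0.2.2, f0.2.1⟩,
    S.toPre.X_eq (a := (j3 k, (0 : ZMod 2))) (b := (j2 k, 1)) h23.symm ⟨f1.1, f1.2.2, f1.2.1⟩,
    S.toPre.cf_zero, ← l01, ← l10, ← g01, ← g10]
  exact ⟨key _ _, key _ _, key _ _, key _ _⟩

theorem C4_move {a b c d : SI k} (h : S.toPre.C4 a b c d) {g : Ix k → ZMod 2} (hg : Even' g)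
    (π : alternatingGroup (Ix k)) :
    S.toPre.C4 (fl g (π.1 a.1, a.2)) (fl g (π.1 b.1, b.2)) (fl g (π.1 c.1, c.2)) (fl g (π.1 d.1, d.2)) := by
  intro t u
  simp only [← S.toPre.E_X hg, ← S.toPre.pm_X π]
  obtain ⟨h1, h2, h3, h4⟩ := h t u
  have key : ∀ x y : G, Commute x y → Commute (S.toPre.E g * (S.A (pm π) * x * (S.A (pm π))⁻¹) * S.toPre.E g)
      (S.toPre.E g * (S.A (pm π) * y * (S.A (pm π))⁻¹) * S.toPre.E g) := by
    intro x y hxy
    have e : ∀ z : G, S.toPre.E g * (S.A (pm π) * z * (S.A (pm π))⁻¹) * S.toPre.E g =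
        MulAut.conj (S.toPre.E g * S.A (pm π)) z := fun z => by
      simp [MulAut.conj_apply, S.toPre.E_inv, mul_assoc]
    rw [e, e]
    exact hxy.map _
  exact ⟨key _ _ h1, key _ _ h2, key _ _ h3, key _ _ h4⟩

theorem comm_same {a b : SI k} (h : a.1 ≠ b.1) : S.toPre.C4 a b a (bar b) := by
  obtain ⟨g, hg⟩ := exists_fr h
  obtain ⟨π, h0, h1⟩ := exists_two h
  have hm := S.C4_move S.base_same hg.1 π
  simp only [h0, h1, fl, hg.2.1, hg.2.2, zero_add, add_comm (1 : ZMod 2)] at hm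
  exact hm

theorem comm_disj (hk : k = 0) {a b c d : SI k} (hab : a.1 ≠ b.1) (hcd : c.1 ≠ d.1) (hac : a.1 ≠ c.1)
    (had : a.1 ≠ d.1) (hbc : b.1 ≠ c.1) (hbd : b.1 ≠ d.1) (hs : a.2 + b.2 + c.2 + d.2 = 1) :
    S.toPre.C4 a b c d := by
  obtain ⟨π, h0, h1⟩ := exists_two hab
  obtain ⟨x, y, hx, hy, hxy⟩ : ∃ x y : SI k, π.1 (j2 k) = x.1 ∧ π.1 (j3 k) = y.1 ∧
      ((x = c ∧ y = d) ∨ (x = d ∧ y = c)) := by
    have hall : ∀ i : Ix k, i = j0 k ∨ i = j1 k ∨ i = j2 k ∨ i = j3 k := by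
      intro i
      have := i.2
      simp only [Fin.ext_iff, j0_val, j1_val, j2_val, j3_val]
      omega
    obtain ⟨c', hc'⟩ := π.1.surjective c.1
    obtain ⟨d', hd'⟩ := π.1.surjective d.1
    rcases hall c' with rfl | rfl | rfl | rfl <;> rcases hall d' with rfl | rfl | rfl | rfl
    all_goals try exact absurd (h0.symm.trans hc') hac
    all_goals try exact absurd (h0.symm.trans hd') had
    all_goals try exact absurd (h1.symm.trans hc') hbc
    all_goals try exact absurd (h1.symm.trans hd') hbd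
    all_goals try exact absurd (hc'.symm.trans hd') hcd
    · exact ⟨c, d, hc', hd', Or.inl ⟨rfl, rfl⟩⟩
    · exact ⟨d, c, hd', hc', Or.inr ⟨rfl, rfl⟩⟩
  have hne : a.1 ≠ x.1 ∧ a.1 ≠ y.1 ∧ b.1 ≠ x.1 ∧ b.1 ≠ y.1 ∧ x.1 ≠ y.1 ∧ a.2 + b.2 + x.2 + y.2 = 1 := by
    rcases hxy with ⟨rfl, rfl⟩ | ⟨rfl, rfl⟩
    · exact ⟨hac, had, hbc, hbd, hcd, hs⟩
    · exact ⟨had, hac, hbd, hbc, hcd.symm, by rw [← hs]; ring⟩
  obtain ⟨n1, n2, n3, n4, n5, n6⟩ := hne
  obtain ⟨g, hg, g1, g2, g3, g4⟩ := exists_even_four hab n1 n2 n3 n4 n5 a.2 b.2 (x.2 + 1) y.2 (by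
    rw [show a.2 + b.2 + (x.2 + 1) + y.2 = a.2 + b.2 + x.2 + y.2 + 1 by ring, n6, z2_self])
  have hm := S.C4_move (S.base_disj hk) hg π
  simp only [h0, h1, hx, hy, fl, g1, g2, g3, g4, zero_add] at hm
  rw [add_comm (1 : ZMod 2), add_assoc, z2_self, add_zero] at hm
  rcases hxy with ⟨rfl, rfl⟩ | ⟨rfl, rfl⟩
  · exact hm
  · exact hm.swap

/-- Two pairs are seen in a common frame or commute. -/
theorem two_cases {a b c d : SI k} (hab : a.1 ≠ b.1) (hcd : c.1 ≠ d.1) :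
    S.toPre.Share a b c d ∨ S.toPre.C4 a b c d := by
  have sh := fun f hf hg => Or.inl (b := S.toPre.C4 a b c d) (S.toPre.share_of_fr hab hcd (f := f) hf hg)
  have key : ∀ x y : ZMod 2, y = x ∨ y + 1 = x := by decide
  by_cases hac : c.1 = a.1
  · by_cases hbd : d.1 = b.1
    · rcases sib_cases hac with rfl | rfl <;> rcases sib_cases hbd with rfl | rfl
      · obtain ⟨f, hf⟩ := exists_fr hab
        exact sh f hf (Or.inl hf)
      · exact Or.inr (S.comm_same hab)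
      · refine Or.inr ?_
        have h := (S.comm_same hab).flip
        rw [bar_bar] at h
        exact h.swap
      · obtain ⟨f, hf⟩ := exists_fr hab
        exact sh f hf (Or.inr ⟨hf.1, by simp [hf.2.2, add_assoc, z2_self], by simp [hf.2.1, add_assoc, z2_self]⟩)
    · obtain ⟨f, hf, x, y, z⟩ := exists_even_three hab (Ne.symm (show d.1 ≠ a.1 from fun e => hcd (hac.trans e.symm)))
        (Ne.symm hbd) a.2 b.2 (if c.2 = a.2 then d.2 else d.2 + 1)
      refine sh f ⟨hf, x, y⟩ ?_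
      rcases key a.2 c.2 with e | e
      · exact Or.inl ⟨hf, by rw [hac, x, e], by rw [z, if_pos e]⟩
      · have : c.2 ≠ a.2 := fun e' => by rw [e'] at e; simp at e
        exact Or.inr ⟨hf, by rw [bar_fst, bar_snd, z, if_neg this], by rw [bar_fst, bar_snd, hac, x, e]⟩
  · by_cases had : d.1 = a.1
    · by_cases hbc : c.1 = b.1
      · rcases sib_cases hbc with rfl | rfl <;> rcases sib_cases had with rfl | rfl
        · obtain ⟨f, hf⟩ := exists_fr hab
          exact sh f hf (Or.inl ⟨hf.1, hf.2.2, hf.2.1⟩)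
        · refine Or.inr ?_
          have h := (S.comm_same hab).flip
          rw [bar_bar] at h
          exact h
        · exact Or.inr (S.comm_same hab).swap
        · obtain ⟨f, hf⟩ := exists_fr hab
          exact sh f hf (Or.inr ⟨hf.1, by simp [hf.2.1, add_assoc, z2_self], by simp [hf.2.2, add_assoc, z2_self]⟩)
      · obtain ⟨f, hf, x, y, z⟩ := exists_even_three hab (Ne.symm hac) (Ne.symm hbc) a.2 b.2
          (if d.2 = a.2 then c.2 else c.2 + 1)
        refine sh f ⟨hf, x, y⟩ ?_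
        rcases key a.2 d.2 with e | e
        · exact Or.inl ⟨hf, by rw [z, if_pos e], by rw [had, x, e]⟩
        · have : d.2 ≠ a.2 := fun e' => by rw [e'] at e; simp at e
          exact Or.inr ⟨hf, by rw [bar_fst, bar_snd, had, x, e], by rw [bar_fst, bar_snd, z, if_neg this]⟩
    · by_cases hbc : c.1 = b.1
      · obtain ⟨f, hf, x, y, z⟩ := exists_even_three hab (Ne.symm had) (show b.1 ≠ d.1 from fun e => hcd (hbc.trans e))
          a.2 b.2 (if c.2 = b.2 then d.2 else d.2 + 1)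
        refine sh f ⟨hf, x, y⟩ ?_
        rcases key b.2 c.2 with e | e
        · exact Or.inl ⟨hf, by rw [hbc, y, e], by rw [z, if_pos e]⟩
        · have : c.2 ≠ b.2 := fun e' => by rw [e'] at e; simp at e
          exact Or.inr ⟨hf, by rw [bar_fst, bar_snd, z, if_neg this], by rw [bar_fst, bar_snd, hbc, y, e]⟩
      · by_cases hbd : d.1 = b.1
        · obtain ⟨f, hf, x, y, z⟩ := exists_even_three hab (Ne.symm hac) (Ne.symm hbc) a.2 b.2
            (if d.2 = b.2 then c.2 else c.2 + 1)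
          refine sh f ⟨hf, x, y⟩ ?_
          rcases key b.2 d.2 with e | e
          · exact Or.inl ⟨hf, by rw [z, if_pos e], by rw [hbd, y, e]⟩
          · have : d.2 ≠ b.2 := fun e' => by rw [e'] at e; simp at e
            exact Or.inr ⟨hf, by rw [bar_fst, bar_snd, hbd, y, e], by rw [bar_fst, bar_snd, z, if_neg this]⟩
        · by_cases hs : a.2 + b.2 + c.2 + d.2 = 0 ∨ 1 ≤ k
          · obtain ⟨f, hf, x, y, z, u⟩ := exists_even_five hab (Ne.symm hac) (Ne.symm had) (Ne.symm hbc)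
              (Ne.symm hbd) hcd a.2 b.2 c.2 d.2 hs
            exact sh f ⟨hf, x, y⟩ (Or.inl ⟨hf, z, u⟩)
          · rw [not_or] at hs
            have key2 : ∀ x : ZMod 2, x ≠ 0 → x = 1 := by decide
            exact Or.inr (S.comm_disj (by omega) hab hcd (Ne.symm hac) (Ne.symm had) (Ne.symm hbc) (Ne.symm hbd)
              (key2 _ hs.1))

/-- Root elements whose roots do not add up commute. -/
theorem comm_X {a b c d : SI k} (hbc : b ≠ c) (had : a ≠ d) (hbd : bar b ≠ d) (hac : bar a ≠ c) (t u : F) :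
    Commute (S.toPre.X a b t) (S.toPre.X c d u) := by
  by_cases hab : a.1 = b.1
  · rw [S.toPre.X_same hab]; exact Commute.one_left _
  by_cases hcd : c.1 = d.1
  · rw [S.toPre.X_same hcd]; exact Commute.one_right _
  rcases S.two_cases hab hcd with ⟨f, hab', p, q, hpq, ε, hf, -, hpq', x1, -, -, x2, -, -⟩ | h
  · rw [x1, x2]
    have key : ∀ x y : ZMod 2, y + 1 = x → y = x + 1 := by decide
    refine Commute.map (T_comm hab' hpq ?_ ?_ _ _) _
    · intro e
      rcases hpq' with ⟨-, rfl, hg⟩ | ⟨-, rfl, hg⟩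
      · exact had (Prod.ext e (by rw [← hf.2.1, e, hg.2.2]))
      · exact hac (Prod.ext e (by
          have h2 : c.2 + 1 = a.2 := by rw [← hf.2.1, e]; exact hg.2.2.symm
          rw [bar_snd, key _ _ h2]))
    · intro e
      rcases hpq' with ⟨rfl, -, hg⟩ | ⟨rfl, -, hg⟩
      · exact hbc (Prod.ext e (by rw [← hf.2.2, e, hg.2.1]))
      · exact hbd (Prod.ext e (by
          have h2 : d.2 + 1 = b.2 := by rw [← hf.2.2, e]; exact hg.2.1.symm
          rw [bar_snd, key _ _ h2]))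
  · exact (h t u).1

end Sys

end Cfsg.Lib.Linear.ShortPres.OmegaPlus
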