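import Cfsg.Agent.Lib.Linear.ShortPres.SLN.Seven.Pair

/-!
# A sign change over the special linear group
-/

set_option autoImplicit false
set_option linter.unusedSectionVars false

namespace Cfsg.Lib.Linear.ShortPres.OmegaPlus

open Equiv Matrix
open Cfsg.Lib.Linear.ShortPres.SLN
open scoped MatrixGroups

variable {F : Type*} [Field F] {k : ℕ}

/-- The index set. -/
abbrev Ix (k : ℕ) : Type := Fin (2 + (k + 2))

/-- Marked indices. -/
def j0 (k : ℕ) : Ix k := ⟨0, by omega⟩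
/-- Marked indices. -/
def j1 (k : ℕ) : Ix k := ⟨1, by omega⟩
/-- Marked indices. -/
def j2 (k : ℕ) : Ix k := ⟨2, by omega⟩
/-- Marked indices. -/
def j3 (k : ℕ) : Ix k := ⟨3, by omega⟩

@[simp] theorem j0_val : (j0 k).1 = 0 := rfl
@[simp] theorem j1_val : (j1 k).1 = 1 := rfl
@[simp] theorem j2_val : (j2 k).1 = 2 := rfl
@[simp] theorem j3_val : (j3 k).1 = 3 := rfl

variable (F k) in
/-- The first block. -/
def lo : SL(2, F) →* SpecialLinearGroup (Ix k) F :=
  (rex (finSumFinEquiv : Fin 2 ⊕ Fin (k + 2) ≃ Ix k)).toMonoidHom.comp (blk (Fin (k + 2)))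

variable (F k) in
/-- The second block. -/
def hi : SpecialLinearGroup (Fin (k + 2)) F →* SpecialLinearGroup (Ix k) F :=
  (rex (((Equiv.sumComm (Fin (k + 2)) (Fin 2)).trans finSumFinEquiv : Fin (k + 2) ⊕ Fin 2 ≃ Ix k))).toMonoidHom.comp
    (blk (Fin 2))

theorem lo_T {a b : Fin 2} (h : a ≠ b) (t : F) :
    lo F k (T h t) = T ((Fin.castAdd_injective 2 (k + 2)).ne h) t := by
  show rex _ (blk (Fin (k + 2)) (T h t)) = _
  rw [blk_T, rex_T]
  rfl

theorem hi_T {a b : Fin (k + 2)} (h : a ≠ b) (t : F) :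
    hi F k (T h t) = T ((Fin.natAdd_injective (k + 2) 2).ne h) t := by
  show rex _ (blk (Fin 2) (T h t)) = _
  rw [blk_T, rex_T]
  rfl

theorem lo_apply (x : SL(2, F)) (a b : Ix k) : (lo F k x).1 a b =
    if ha : a.1 < 2 then (if hb : b.1 < 2 then x.1 ⟨a.1, ha⟩ ⟨b.1, hb⟩ else 0) else if a = b then 1 else 0 := by
  show (rex (finSumFinEquiv : Fin 2 ⊕ Fin (k + 2) ≃ Ix k) (blk (Fin (k + 2)) x)).1 a b = _
  rw [rex_coe, Matrix.submatrix_apply, blk_coe]
  obtain ⟨a, rfl⟩ := (finSumFinEquiv : Fin 2 ⊕ Fin (k + 2) ≃ Ix k).surjective a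
  obtain ⟨b, rfl⟩ := (finSumFinEquiv : Fin 2 ⊕ Fin (k + 2) ≃ Ix k).surjective b
  have l1 : ∀ x : Fin 2, x.1 ≤ 1 := fun x => Nat.lt_succ_iff.1 x.2
  have l2 : ∀ x : Fin 2, x.1 < 2 := fun x => x.2
  have g1 : ∀ y : ℕ, ¬ 2 + y ≤ 1 := fun y => by omega
  have g2 : ∀ y : ℕ, ¬ 2 + y < 2 := fun y => by omega
  have d1 : ∀ (x : Fin 2) (y : ℕ), x.1 ≠ 2 + y := fun x y => by omega
  rcases a with a | a <;> rcases b with b | b <;>
    simp [Matrix.one_apply, Fin.ext_iff, l1, l2, g1, g2, d1, fun x y => Ne.symm (d1 x y)]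

theorem hi_apply (x : SpecialLinearGroup (Fin (k + 2)) F) (a b : Ix k) : (hi F k x).1 a b =
    if a.1 < 2 then (if a = b then 1 else 0)
    else if b.1 < 2 then 0 else x.1 ⟨a.1 - 2, by omega⟩ ⟨b.1 - 2, by omega⟩ := by
  show (rex (((Equiv.sumComm (Fin (k + 2)) (Fin 2)).trans finSumFinEquiv : Fin (k + 2) ⊕ Fin 2 ≃ Ix k))
    (blk (Fin 2) x)).1 a b = _
  rw [rex_coe, Matrix.submatrix_apply, blk_coe]
  obtain ⟨a, rfl⟩ := (finSumFinEquiv : Fin 2 ⊕ Fin (k + 2) ≃ Ix k).surjective a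
  obtain ⟨b, rfl⟩ := (finSumFinEquiv : Fin 2 ⊕ Fin (k + 2) ≃ Ix k).surjective b
  simp only [Equiv.symm_trans_apply, Equiv.symm_apply_apply, Equiv.sumComm_symm, Equiv.sumComm_apply]
  have l1 : ∀ x : Fin 2, x.1 ≤ 1 := fun x => Nat.lt_succ_iff.1 x.2
  have l2 : ∀ x : Fin 2, x.1 < 2 := fun x => x.2
  have g1 : ∀ y : ℕ, ¬ 2 + y ≤ 1 := fun y => by omega
  have g2 : ∀ y : ℕ, ¬ 2 + y < 2 := fun y => by omega
  have d1 : ∀ (x : Fin 2) (y : ℕ), x.1 ≠ 2 + y := fun x y => by omega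
  rcases a with a | a <;> rcases b with b | b <;>
    simp [Matrix.one_apply, Fin.ext_iff, l1, l2, g1, g2, d1, fun x y => Ne.symm (d1 x y)]

theorem mul_pm_apply (M : SpecialLinearGroup (Ix k) F) (π : alternatingGroup (Ix k)) (a b : Ix k) :
    (M * pm π).1 a b = M.1 a (π.1 b) := by
  rw [Matrix.SpecialLinearGroup.coe_mul, Matrix.mul_apply, Finset.sum_eq_single (π.1 b)]
  · rw [pm_apply]; simp
  · intro c _ hc
    rw [pm_apply, if_neg (fun e => hc (Perm.inv_eq_iff_eq.1 e)), mul_zero]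
  · exact fun h => absurd (Finset.mem_univ _) h

theorem pm_mul_apply (M : SpecialLinearGroup (Ix k) F) (π : alternatingGroup (Ix k)) (a b : Ix k) :
    (pm π * M).1 a b = M.1 (π.1⁻¹ a) b := one_submatrix_mul _ _ a b

theorem pm_of_fix {π : alternatingGroup (Ix k)} (h0 : π.1 (j0 k) = j0 k) (h1 : π.1 (j1 k) = j1 k) :
    ∃ g, (pm π : SpecialLinearGroup (Ix k) F) = hi F k g := by
  let e : Fin (k + 2) ↪ Ix k := ⟨Fin.natAdd 2, Fin.natAdd_injective (k + 2) 2⟩
  have hsmall : ∀ x : Ix k, x.1 < 2 → x = j0 k ∨ x = j1 k := fun x hx => by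
    rcases Nat.lt_or_ge x.1 1 with h | h
    · exact Or.inl (Fin.ext (show x.1 = 0 by omega))
    · exact Or.inr (Fin.ext (show x.1 = 1 by omega))
  obtain ⟨v, rfl⟩ := exists_extA e π (fun x hx => by
    have : x.1 < 2 := by
      by_contra hc
      exact hx ⟨⟨x.1 - 2, by omega⟩, Fin.ext (show 2 + (x.1 - 2) = x.1 by omega)⟩
    rcases hsmall x this with rfl | rfl
    exacts [h0, h1])
  refine ⟨pm v, Subtype.ext ?_⟩
  ext a b
  rw [hi_apply, pm_apply]
  by_cases ha : a.1 < 2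
  · rw [if_pos ha]
    have : (Alt.extA e v).1 a = a := by
      rcases hsmall a ha with rfl | rfl
      exacts [h0, h1]
    rw [Perm.inv_eq_iff_eq.2 this.symm]
  · rw [if_neg ha]
    have hae : a = e ⟨a.1 - 2, by omega⟩ := Fin.ext (show a.1 = 2 + (a.1 - 2) by omega)
    have hinv : (Alt.extA e v).1⁻¹ a = e (v.1⁻¹ ⟨a.1 - 2, by omega⟩) := by
      rw [Perm.inv_eq_iff_eq, Alt.extA_apply, Perm.coe_inv, Equiv.apply_symm_apply]
      exact hae
    rw [hinv]
    by_cases hb : b.1 < 2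
    · rw [if_pos hb, if_neg]
      intro h
      have h' : 2 + (v.1⁻¹ ⟨a.1 - 2, by omega⟩).1 = b.1 := congrArg Fin.val h
      omega
    · rw [if_neg hb, pm_apply]
      refine if_congr ?_ rfl rfl
      conv_lhs => rw [show b = e ⟨b.1 - 2, by omega⟩ from Fin.ext (show b.1 = 2 + (b.1 - 2) by omega)]
      exact e.injective.eq_iff

/-- A product of two transpositions. -/
def dt (a b c d : Ix k) (hab : a ≠ b) (hcd : c ≠ d) : alternatingGroup (Ix k) :=
  ⟨swap a b * swap c d, Perm.mem_alternatingGroup.2 (by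
    rw [Perm.sign_mul, Perm.sign_swap hab, Perm.sign_swap hcd]; rfl)⟩

/-- The double transposition. -/
def p2 (k : ℕ) : alternatingGroup (Ix k) :=
  dt (j0 k) (j1 k) (j2 k) (j3 k) (by simp [Fin.ext_iff]) (by simp [Fin.ext_iff])
/-- The three-cycle fixing the first index. -/
def s02 (k : ℕ) : alternatingGroup (Ix k) :=
  dt (j1 k) (j2 k) (j2 k) (j3 k) (by simp [Fin.ext_iff]) (by simp [Fin.ext_iff])
/-- The three-cycle fixing the second index. -/
def s12 (k : ℕ) : alternatingGroup (Ix k) :=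
  dt (j0 k) (j2 k) (j2 k) (j3 k) (by simp [Fin.ext_iff]) (by simp [Fin.ext_iff])

theorem p2_vals (k : ℕ) : (p2 k).1 (j0 k) = j1 k ∧ (p2 k).1 (j1 k) = j0 k ∧ (p2 k).1 (j2 k) = j3 k ∧
    (p2 k).1 (j3 k) = j2 k := by
  refine ⟨?_, ?_, ?_, ?_⟩ <;> simp [p2, dt, Perm.mul_apply, swap_apply_def, Fin.ext_iff]

theorem s02_vals (k : ℕ) : (s02 k).1 (j0 k) = j0 k ∧ (s02 k).1 (j1 k) = j2 k := by
  refine ⟨?_, ?_⟩ <;> simp [s02, dt, Perm.mul_apply, swap_apply_def, Fin.ext_iff]

theorem s12_vals (k : ℕ) : (s12 k).1 (j0 k) = j2 k ∧ (s12 k).1 (j1 k) = j1 k := by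
  refine ⟨?_, ?_⟩ <;> simp [s12, dt, Perm.mul_apply, swap_apply_def, Fin.ext_iff]

theorem exists_two {i j : Ix k} (h : i ≠ j) :
    ∃ π : alternatingGroup (Ix k), π.1 (j0 k) = i ∧ π.1 (j1 k) = j := by
  have hne : swap (j0 k) i (j1 k) ≠ i := by
    intro e
    have := (swap (j0 k) i).injective (e.trans (swap_apply_left (j0 k) i).symm)
    simp [Fin.ext_iff] at this
  let π₁ : Perm (Ix k) := swap (swap (j0 k) i (j1 k)) j * swap (j0 k) i
  have e0 : π₁ (j0 k) = i := by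
    simp only [π₁, Perm.mul_apply, swap_apply_left]
    exact swap_apply_of_ne_of_ne hne.symm h
  have e1 : π₁ (j1 k) = j := by simp only [π₁, Perm.mul_apply, swap_apply_left]
  obtain ⟨π, hπ⟩ := exists_even π₁ (show j2 k ≠ j3 k by simp [Fin.ext_iff])
  refine ⟨π, ?_⟩
  rcases hπ with h | h <;> rw [h]
  · exact ⟨e0, e1⟩
  · constructor
    · rw [Perm.mul_apply,
        swap_apply_of_ne_of_ne (show j0 k ≠ j2 k by simp [Fin.ext_iff]) (show j0 k ≠ j3 k by simp [Fin.ext_iff])]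
      exact e0
    · rw [Perm.mul_apply,
        swap_apply_of_ne_of_ne (show j1 k ≠ j2 k by simp [Fin.ext_iff]) (show j1 k ≠ j3 k by simp [Fin.ext_iff])]
      exact e1

theorem exists_three {i j m : Ix k} (hij : i ≠ j) (him : i ≠ m) (hjm : j ≠ m) :
    ∃ π : alternatingGroup (Ix k), π.1 (j2 k) = m ∧
      ((π.1 (j0 k) = i ∧ π.1 (j1 k) = j) ∨ (π.1 (j0 k) = j ∧ π.1 (j1 k) = i)) := by
  obtain ⟨π, h0, h1⟩ := exists_two hij
  have n01 : j0 k ≠ j1 k := by simp [Fin.ext_iff]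
  have n02 : j0 k ≠ j2 k := by simp [Fin.ext_iff]
  have n12 : j1 k ≠ j2 k := by simp [Fin.ext_iff]
  let π₁ : Perm (Ix k) := swap (π.1 (j2 k)) m * π.1
  have f0 : π₁ (j0 k) = i := by
    show swap (π.1 (j2 k)) m (π.1 (j0 k)) = i
    rw [h0]
    exact swap_apply_of_ne_of_ne (by rw [← h0]; exact π.1.injective.ne n02) him
  have f1 : π₁ (j1 k) = j := by
    show swap (π.1 (j2 k)) m (π.1 (j1 k)) = j
    rw [h1]
    exact swap_apply_of_ne_of_ne (by rw [← h1]; exact π.1.injective.ne n12) hjm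
  have f2 : π₁ (j2 k) = m := swap_apply_left _ _
  obtain ⟨π', hπ⟩ := exists_even π₁ n01
  refine ⟨π', ?_⟩
  rcases hπ with h | h <;> rw [h]
  · exact ⟨f2, Or.inl ⟨f0, f1⟩⟩
  · refine ⟨?_, Or.inr ⟨?_, ?_⟩⟩ <;> rw [Perm.mul_apply]
    · rw [swap_apply_of_ne_of_ne n02.symm n12.symm]; exact f2
    · rw [swap_apply_left]; exact f1
    · rw [swap_apply_right]; exact f0

variable (F) in
/-- The monomial element of two indices. -/
def Wm {i j : Ix k} (h : i ≠ j) : SpecialLinearGroup (Ix k) F := T h 1 * T h.symm (-1) * T h 1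

theorem pm_conj_Wm (π : alternatingGroup (Ix k)) {i j : Ix k} (h : i ≠ j) :
    pm π * Wm F h * (pm π)⁻¹ = Wm F (π.1.injective.ne h) := by
  rw [Wm, Wm, ← pm_conj_T π h 1, ← pm_conj_T π h.symm (-1)]
  group

theorem lo_ts : lo F k ts = Wm F (show j0 k ≠ j1 k by simp [Fin.ext_iff]) := by
  have h : (ts : SL(2, F)) = T (show (0 : Fin 2) ≠ 1 by decide) 1 * T (show (1 : Fin 2) ≠ 0 by decide) (-1) *
      T (show (0 : Fin 2) ≠ 1 by decide) 1 := by
    refine Subtype.ext ?_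
    ext i j; fin_cases i <;> fin_cases j <;>
      simp [ts_coe, T_coe, Matrix.mul_apply, Fin.sum_univ_two, Matrix.single]
  rw [h, map_mul, map_mul, lo_T, lo_T]
  rfl

theorem Wm_inv {i j : Ix k} (h : i ≠ j) : (Wm F h)⁻¹ = Wm F h.symm := by
  obtain ⟨π, h0, h1⟩ := exists_two h
  have hb : (lo F k ts)⁻¹ = Wm F (show j1 k ≠ j0 k by simp [Fin.ext_iff]) := by
    rw [← map_inv]
    have h : (ts : SL(2, F))⁻¹ = T (show (1 : Fin 2) ≠ 0 by decide) 1 * T (show (0 : Fin 2) ≠ 1 by decide) (-1) *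
        T (show (1 : Fin 2) ≠ 0 by decide) 1 := by
      refine inv_eq_of_mul_eq_one_right (Subtype.ext ?_)
      ext i j; fin_cases i <;> fin_cases j <;>
        simp [ts_coe, T_coe, Matrix.mul_apply, Fin.sum_univ_two, Matrix.single]
    rw [h, map_mul, map_mul, lo_T, lo_T]
    rfl
  subst h0 h1
  rw [← pm_conj_Wm π (show j0 k ≠ j1 k by simp [Fin.ext_iff]), ← pm_conj_Wm π (show j1 k ≠ j0 k by simp [Fin.ext_iff]),
    ← hb, ← lo_ts]
  group

theorem ts_s02 : lo F k ts * pm (s02 k) = pm (s12 k) * lo F k ts := by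
  refine Subtype.ext ?_
  ext a b
  rw [mul_pm_apply, pm_mul_apply, lo_apply, lo_apply]
  have e : ((s12 k).1)⁻¹ = swap (j2 k) (j3 k) * swap (j0 k) (j2 k) := by simp [s12, dt]
  rw [e]
  obtain ⟨a, ha⟩ := a
  obtain ⟨b, hb⟩ := b
  simp only [s02, dt, Perm.mul_apply, swap_apply_def, Fin.ext_iff]
  rcases a with _ | _ | _ | _ | a <;> rcases b with _ | _ | _ | _ | b <;> simp [ts_coe, Nat.mod_eq_of_lt (show 1 < 2 + (k + 2) by omega)]

/-- The monomial element of the second block. -/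
def tsTop (F : Type*) [Field F] (k : ℕ) : SpecialLinearGroup (Fin (k + 2)) F :=
  T (show (0 : Fin (k + 2)) ≠ 1 by simp [Fin.ext_iff]) (-1) *
    T (show (1 : Fin (k + 2)) ≠ 0 by simp [Fin.ext_iff]) 1 *
    T (show (0 : Fin (k + 2)) ≠ 1 by simp [Fin.ext_iff]) (-1)

theorem neg_one_s02 : lo F k ts * lo F k ts * pm (s02 k) =
    pm (s02 k) * (pm (p2 k) * (lo F k ts * hi F k (tsTop F k))) := by
  have e : ((s02 k).1)⁻¹ = swap (j2 k) (j3 k) * swap (j1 k) (j2 k) := by simp [s02, dt]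
  have e2 : ((p2 k).1)⁻¹ = swap (j2 k) (j3 k) * swap (j0 k) (j1 k) := by simp [p2, dt]
  have hts : (ts : SL(2, F)) * ts = ds (-1 : Fˣ) := ts_sq
  have htop : ∀ a b : Fin (k + 2), (tsTop F k).1 a b = if a.1 = 0 then (if b.1 = 1 then -1 else 0)
      else if a.1 = 1 then (if b.1 = 0 then 1 else 0) else if a = b then 1 else 0 := by
    intro a b
    simp only [tsTop, Matrix.SpecialLinearGroup.coe_mul, T_coe]
    simp only [mul_add, add_mul, one_mul, mul_one, Matrix.single_mul_single_same, Matrix.add_apply,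
      Matrix.single_mul_single_of_ne _ _ _ _ (show (0 : Fin (k + 2)) ≠ 1 by simp [Fin.ext_iff]),
      Matrix.single_mul_single_of_ne _ _ _ _ (show (1 : Fin (k + 2)) ≠ 0 by simp [Fin.ext_iff]),
      Matrix.zero_mul, Matrix.zero_apply, Matrix.one_apply, Matrix.single_apply]
    obtain ⟨a, ha⟩ := a
    obtain ⟨b, hb⟩ := b
    simp only [Fin.ext_iff, Fin.val_zero, Fin.val_one]
    rcases a with _ | _ | a <;> rcases b with _ | _ | b <;> simp
  have hprod : ∀ a b : Ix k, (lo F k ts * hi F k (tsTop F k)).1 a b =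
      if a.1 < 2 then (lo F k ts).1 a b else (hi F k (tsTop F k)).1 a b := by
    intro a b
    rw [Matrix.SpecialLinearGroup.coe_mul, Matrix.mul_apply]
    by_cases ha : a.1 < 2
    · rw [if_pos ha, Finset.sum_eq_single b]
      · by_cases hb : b.1 < 2
        · rw [hi_apply (tsTop F k) b b, if_pos hb, if_pos rfl, mul_one]
        · rw [lo_apply, dif_pos ha, dif_neg hb, zero_mul]
      · intro c _ hc
        by_cases hc2 : c.1 < 2
        · rw [hi_apply, if_pos hc2, if_neg hc, mul_zero]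
        · rw [lo_apply, dif_pos ha, dif_neg hc2, zero_mul]
      · exact fun h => absurd (Finset.mem_univ _) h
    · rw [if_neg ha, Finset.sum_eq_single a]
      · rw [lo_apply, dif_neg ha, if_pos rfl, one_mul]
      · intro c _ hc
        rw [lo_apply, dif_neg ha, if_neg (Ne.symm hc), zero_mul]
      · exact fun h => absurd (Finset.mem_univ _) h
  rw [← map_mul, hts]
  refine Subtype.ext ?_
  ext a b
  rw [mul_pm_apply, pm_mul_apply, pm_mul_apply, hprod, lo_apply, lo_apply, hi_apply, htop]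
  rw [e, e2]
  obtain ⟨a, ha⟩ := a
  obtain ⟨b, hb⟩ := b
  simp only [s02, dt, Perm.mul_apply, swap_apply_def, Fin.ext_iff]
  rcases a with _ | _ | _ | _ | a <;> rcases b with _ | _ | _ | _ | b <;> simp [ts_coe, ds_coe, Nat.mod_eq_of_lt (show 1 < 2 + (k + 2) by omega)]

variable {G : Type*} [Group G]

/-- The relations of a sign change, except the commutation of the orthogonal root groups. -/
structure Pre (k : ℕ) (F : Type*) [Field F] (G : Type*) [Group G] where
  A : SpecialLinearGroup (Ix k) F →* G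
  w : G
  cblk : ∀ g, w * A (hi F k g) = A (hi F k g) * w
  cstar : ∀ x, w * A (lo F k x) * w⁻¹ = A (lo F k (Seven.star x))
  cswap : w * A (pm (p2 k)) = A (pm (p2 k)) * w
  tri : A (pm (s02 k)) * w * (A (pm (s02 k)))⁻¹ * (A (pm (s12 k)) * w * (A (pm (s12 k)))⁻¹) = w

namespace Pre

variable (S : Pre k F G)

open Classical in
/-- The sign change of a pair. -/
noncomputable def e (i j : Ix k) : G :=
  if h : i ≠ j then S.A (pm (exists_two h).choose) * S.w * (S.A (pm (exists_two h).choose))⁻¹ else 1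

theorem fix_comm {π : alternatingGroup (Ix k)} (h0 : π.1 (j0 k) = j0 k) (h1 : π.1 (j1 k) = j1 k) :
    S.w * S.A (pm π) = S.A (pm π) * S.w := by
  obtain ⟨g, hg⟩ := pm_of_fix (F := F) h0 h1
  rw [hg]
  exact S.cblk g

theorem e_eq {π : alternatingGroup (Ix k)} {i j : Ix k} (h0 : π.1 (j0 k) = i) (h1 : π.1 (j1 k) = j) :
    S.A (pm π) * S.w * (S.A (pm π))⁻¹ = S.e i j := by
  have h : i ≠ j := by rw [← h0, ← h1]; exact π.1.injective.ne (by simp [Fin.ext_iff])
  simp only [e, dif_pos h]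
  set τ := (exists_two h).choose with hτ
  obtain ⟨t0, t1⟩ := (exists_two h).choose_spec
  have hc := S.fix_comm (π := τ⁻¹ * π) (by rw [Subgroup.coe_mul, Subgroup.coe_inv, Perm.mul_apply, h0,
    Perm.inv_eq_iff_eq, t0]) (by rw [Subgroup.coe_mul, Subgroup.coe_inv, Perm.mul_apply, h1, Perm.inv_eq_iff_eq, t1])
  calc S.A (pm π) * S.w * (S.A (pm π))⁻¹
      = S.A (pm τ) * (S.A (pm (τ⁻¹ * π)) * S.w * (S.A (pm (τ⁻¹ * π)))⁻¹) * (S.A (pm τ))⁻¹ := by
        simp [mul_assoc]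
    _ = _ := by rw [← hc, mul_inv_cancel_right]

theorem e_base : S.e (j0 k) (j1 k) = S.w := by
  rw [← S.e_eq (π := 1) (i := j0 k) (j := j1 k) rfl rfl, map_one, map_one, one_mul, inv_one, mul_one]

theorem e_self (i : Ix k) : S.e i i = 1 := by simp [e]

theorem e_pm (π : alternatingGroup (Ix k)) (i j : Ix k) :
    S.A (pm π) * S.e i j * (S.A (pm π))⁻¹ = S.e (π.1 i) (π.1 j) := by
  rcases eq_or_ne i j with rfl | h
  · simp [e_self]
  obtain ⟨τ, t0, t1⟩ := exists_two h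
  rw [← S.e_eq t0 t1, ← S.e_eq (π := π * τ) (i := π.1 i) (j := π.1 j)
    (by rw [Subgroup.coe_mul, Perm.mul_apply, t0]) (by rw [Subgroup.coe_mul, Perm.mul_apply, t1])]
  simp [mul_assoc]

theorem e_symm (i j : Ix k) : S.e i j = S.e j i := by
  rcases eq_or_ne i j with rfl | h
  · rfl
  obtain ⟨τ, t0, t1⟩ := exists_two h
  obtain ⟨q0, q1, -, -⟩ := p2_vals k
  rw [← S.e_eq t0 t1, ← S.e_eq (π := τ * p2 k) (i := j) (j := i)
    (by rw [Subgroup.coe_mul, Perm.mul_apply, q0, t1]) (by rw [Subgroup.coe_mul, Perm.mul_apply, q1, t0])]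
  simp only [map_mul, _root_.mul_inv_rev, ← mul_assoc]
  rw [mul_assoc (S.A (pm τ)) _ S.w, ← S.cswap, ← mul_assoc, mul_inv_cancel_right]

theorem tri_base : S.e (j0 k) (j2 k) * S.e (j1 k) (j2 k) = S.w := by
  have h := S.tri
  rw [S.e_eq (s02_vals k).1 (s02_vals k).2, S.e_eq (s12_vals k).1 (s12_vals k).2] at h
  rwa [S.e_symm (j1 k)]

theorem ts_comm : S.A (lo F k ts) * S.w = S.w * S.A (lo F k ts) := by
  have h := S.cstar ts
  have hs : Seven.star (ts : SL(2, F)) = ts := by simp [Seven.star]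
  rw [hs] at h
  exact (mul_inv_eq_iff_eq_mul.1 h).symm

theorem ts_conj_e02 : S.A (lo F k ts) * S.e (j0 k) (j2 k) * (S.A (lo F k ts))⁻¹ = S.e (j1 k) (j2 k) := by
  have h := congrArg S.A (ts_s02 (F := F) (k := k))
  rw [map_mul, map_mul] at h
  rw [← S.e_eq (s02_vals k).1 (s02_vals k).2, S.e_symm (j1 k), ← S.e_eq (s12_vals k).1 (s12_vals k).2]
  have hts := S.ts_comm
  calc S.A (lo F k ts) * (S.A (pm (s02 k)) * S.w * (S.A (pm (s02 k)))⁻¹) * (S.A (lo F k ts))⁻¹
      = (S.A (lo F k ts) * S.A (pm (s02 k))) * S.w * (S.A (lo F k ts) * S.A (pm (s02 k)))⁻¹ := by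
        simp [mul_assoc]
    _ = S.A (pm (s12 k)) * (S.A (lo F k ts) * S.w * (S.A (lo F k ts))⁻¹) * (S.A (pm (s12 k)))⁻¹ := by
        rw [h]; simp [mul_assoc]
    _ = _ := by rw [hts, mul_inv_cancel_right]

theorem ts_sq_comm : Commute (S.A (lo F k ts) * S.A (lo F k ts)) (S.e (j0 k) (j2 k)) := by
  have h := congrArg S.A (neg_one_s02 (F := F) (k := k))
  simp only [map_mul] at h
  have hq : Commute (S.A (pm (p2 k)) * (S.A (lo F k ts) * S.A (hi F k (tsTop F k)))) S.w :=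
    Commute.mul_left S.cswap.symm (Commute.mul_left S.ts_comm (S.cblk _).symm)
  rw [← S.e_eq (s02_vals k).1 (s02_vals k).2]
  have hr : S.A (lo F k ts) * S.A (lo F k ts) = MulAut.conj (S.A (pm (s02 k)))
      (S.A (pm (p2 k)) * (S.A (lo F k ts) * S.A (hi F k (tsTop F k)))) := by
    rw [MulAut.conj_apply, eq_mul_inv_iff_mul_eq]
    exact h
  rw [hr]
  exact hq.map (MulAut.conj (S.A (pm (s02 k))) : G ≃* G)

theorem ts_conj_e12 : S.A (lo F k ts) * S.e (j1 k) (j2 k) * (S.A (lo F k ts))⁻¹ = S.e (j0 k) (j2 k) := by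
  rw [← S.ts_conj_e02]
  have h := mul_inv_eq_iff_eq_mul.2 S.ts_sq_comm.eq
  simpa [mul_assoc] using h

theorem tri_base' : S.e (j1 k) (j2 k) * S.e (j0 k) (j2 k) = S.w := by
  have h : MulAut.conj (S.A (lo F k ts)) (S.e (j0 k) (j2 k) * S.e (j1 k) (j2 k)) =
      MulAut.conj (S.A (lo F k ts)) S.w := congrArg _ S.tri_base
  rw [map_mul, MulAut.conj_apply, MulAut.conj_apply, MulAut.conj_apply, S.ts_conj_e02, S.ts_conj_e12,
    mul_inv_eq_iff_eq_mul.2 S.ts_comm] at h
  exact h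

theorem e_tri {i j m : Ix k} (hij : i ≠ j) (him : i ≠ m) (hjm : j ≠ m) : S.e i m * S.e j m = S.e i j := by
  obtain ⟨π, h2, ⟨h0, h1⟩ | ⟨h0, h1⟩⟩ := exists_three hij him hjm
  · have h := congrArg (MulAut.conj (S.A (pm π))) S.tri_base
    rw [← S.e_base, map_mul, MulAut.conj_apply, MulAut.conj_apply, MulAut.conj_apply, S.e_pm, S.e_pm, S.e_pm,
      h0, h1, h2] at h
    exact h
  · have h := congrArg (MulAut.conj (S.A (pm π))) S.tri_base'
    rw [← S.e_base, map_mul, MulAut.conj_apply, MulAut.conj_apply, MulAut.conj_apply, S.e_pm, S.e_pm, S.e_pm,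
      h0, h1, h2] at h
    rw [h, S.e_symm]

theorem e_sq (i j : Ix k) : S.e i j * S.e i j = 1 := by
  rcases eq_or_ne i j with rfl | h
  · simp [e_self]
  obtain ⟨π, h0, h1⟩ := exists_two h
  have hw : S.w * S.w = 1 := by
    have a := S.e_tri (i := j0 k) (j := j1 k) (m := j2 k) (by simp [Fin.ext_iff]) (by simp [Fin.ext_iff])
      (by simp [Fin.ext_iff])
    have b := S.e_tri (i := j0 k) (j := j2 k) (m := j1 k) (by simp [Fin.ext_iff]) (by simp [Fin.ext_iff])
      (by simp [Fin.ext_iff])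
    rw [S.e_base] at a b
    rw [S.e_symm (j2 k) (j1 k)] at b
    rw [← b, mul_assoc] at a
    -- `w (e₁₂ e₁₂) = w`
    have c : S.e (j1 k) (j2 k) * S.e (j1 k) (j2 k) = 1 := mul_eq_left.1 a
    have p := congrArg (MulAut.conj (S.A (pm (s12 k)))) c
    have c2 : S.e (j1 k) (j2 k) = MulAut.conj (S.A (pm (s12 k))) S.w := by
      rw [MulAut.conj_apply, S.e_eq (s12_vals k).1 (s12_vals k).2, S.e_symm]
    rw [c2, ← map_mul, ← map_one (MulAut.conj (S.A (pm (s12 k))) : G ≃* G)] at c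
    exact MulEquiv.injective _ c
  rw [← S.e_eq h0 h1]
  simp only [← mul_assoc, inv_mul_cancel_right]
  rw [mul_assoc _ S.w S.w, hw, mul_one, mul_inv_cancel]

theorem e_inv (i j : Ix k) : (S.e i j)⁻¹ = S.e i j := inv_eq_of_mul_eq_one_right (S.e_sq i j)

theorem e_comm_share (a b c : Ix k) : Commute (S.e a b) (S.e a c) := by
  rcases eq_or_ne a b with rfl | hab
  · simp [e_self]
  rcases eq_or_ne a c with rfl | hac
  · simp [e_self]
  rcases eq_or_ne b c with rfl | hbc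
  · rfl
  have h1 := S.e_tri hbc hab.symm hac.symm
  have h2 := S.e_tri hbc.symm hac.symm hab.symm
  rw [S.e_symm b a, S.e_symm c a] at h1
  rw [S.e_symm c a, S.e_symm b a, S.e_symm c b] at h2
  exact h1.trans h2.symm

theorem e_zero (i j : Ix k) : S.e (j0 k) i * S.e (j0 k) j = S.e i j := by
  rcases eq_or_ne i j with rfl | hij
  · rw [e_sq, e_self]
  rcases eq_or_ne i (j0 k) with rfl | hi
  · rw [e_self, one_mul]
  rcases eq_or_ne j (j0 k) with rfl | hj
  · rw [e_self, mul_one, e_symm]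
  rw [S.e_symm (j0 k) i, S.e_symm (j0 k) j]
  exact S.e_tri hij hi hj

theorem e_pow_comm (f g : Ix k → ZMod 2) (i j : Ix k) :
    Commute (S.e (j0 k) i ^ (f i).val) (S.e (j0 k) j ^ (g j).val) :=
  (S.e_comm_share _ i j).pow_pow _ _

theorem E_comm (f : Ix k → ZMod 2) : ((Finset.univ : Finset (Ix k)) : Set (Ix k)).Pairwise
    (Function.onFun Commute fun i => S.e (j0 k) i ^ (f i).val) := fun i _ j _ _ => S.e_pow_comm f f i j

/-- All sign changes. -/
noncomputable def E (f : Ix k → ZMod 2) : G :=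
  Finset.univ.noncommProd (fun i => S.e (j0 k) i ^ (f i).val) (S.E_comm f)

theorem E_add (f g : Ix k → ZMod 2) : S.E (f + g) = S.E f * S.E g := by
  rw [E, E, E]
  refine Eq.trans ?_ (Finset.noncommProd_mul_distrib _ _ _ _ (fun i _ j _ _ => S.e_pow_comm g f i j))
  refine Finset.noncommProd_congr rfl (fun i _ => ?_) _
  show S.e (j0 k) i ^ (f i + g i).val = _ * _
  rw [← pow_add]
  have h2 : S.e (j0 k) i ^ 2 = 1 := by rw [pow_two]; exact S.e_sq _ _
  have key : ∀ a b : ZMod 2, (a + b).val % 2 = (a.val + b.val) % 2 := by decide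
  rw [pow_eq_pow_mod _ h2, key, ← pow_eq_pow_mod _ h2]

theorem E_zero : S.E 0 = 1 := by
  have h := S.E_add 0 0
  rw [add_zero] at h
  exact mul_eq_left.1 h.symm

theorem E_single (i : Ix k) : S.E (Pi.single i 1) = S.e (j0 k) i := by
  rw [E, ← Finset.mul_noncommProd_erase Finset.univ (Finset.mem_univ i)]
  refine (congrArg _ ((Finset.noncommProd_eq_pow_card _ _ _ (1 : G) fun j hj => ?_).trans (one_pow _))).trans ?_
  · rw [Pi.single_eq_of_ne (Finset.ne_of_mem_erase hj), ZMod.val_zero, pow_zero]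
  · rw [mul_one, Pi.single_eq_same, ZMod.val_one, pow_one]

theorem E_pair (i j : Ix k) : S.E (Pi.single i 1 + Pi.single j 1) = S.e i j := by
  rw [S.E_add, S.E_single, S.E_single, S.e_zero]

theorem E_sq (f : Ix k → ZMod 2) : S.E f * S.E f = 1 := by
  rw [← S.E_add, show f + f = 0 from funext fun i => CharTwo.add_self_eq_zero (f i), S.E_zero]

theorem E_inv (f : Ix k → ZMod 2) : (S.E f)⁻¹ = S.E f := inv_eq_of_mul_eq_one_right (S.E_sq f)

end Pre

/-- An even subset. -/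
def Even' (f : Ix k → ZMod 2) : Prop := ∑ i, f i = 0

theorem Even'.add {f g : Ix k → ZMod 2} (hf : Even' f) (hg : Even' g) : Even' (f + g) := by
  simp only [Even', Pi.add_apply, Finset.sum_add_distrib]
  rw [hf, hg, add_zero]

theorem even_pair (i j : Ix k) : Even' (Pi.single i 1 + Pi.single j 1 : Ix k → ZMod 2) := by
  simp only [Even', Pi.add_apply, Finset.sum_add_distrib, Finset.sum_pi_single', Finset.mem_univ, if_true]
  decide

theorem even_induction {P : (Ix k → ZMod 2) → Prop} {f : Ix k → ZMod 2} (hf : Even' f) (m : Ix k) (h0 : P 0)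
    (h : ∀ g a, f a ≠ 0 → a ≠ m → P g → P (g + (Pi.single a 1 + Pi.single m 1))) : P f := by
  classical
  have key : ∀ s : Finset (Ix k), m ∉ s →
      P (∑ a ∈ s, f a • (Pi.single a 1 + Pi.single m 1 : Ix k → ZMod 2)) := by
    intro s hm
    induction s using Finset.induction with
    | empty => simpa using h0
    | insert a s ha ih =>
      rw [Finset.mem_insert, not_or] at hm
      rw [Finset.sum_insert ha, add_comm]
      by_cases hfa : f a = 0
      · rw [hfa, zero_smul, add_zero]; exact ih hm.2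
      · have h1 : f a = 1 := by
          have key2 : ∀ x : ZMod 2, x ≠ 0 → x = 1 := by decide
          exact key2 _ hfa
        rw [h1, one_smul]
        exact h _ a hfa (Ne.symm hm.1) (ih hm.2)
  have e : ∑ a ∈ Finset.univ.erase m, f a • (Pi.single a 1 + Pi.single m 1 : Ix k → ZMod 2) = f := by
    funext b
    have hm' : ∑ a ∈ Finset.univ.erase m, f a = f m := by
      have h := Finset.add_sum_erase Finset.univ f (Finset.mem_univ m)
      rw [hf] at h
      have key2 : ∀ x y : ZMod 2, x + y = 0 → y = x := by decide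
      exact key2 _ _ h
    simp only [Finset.sum_apply, Pi.smul_apply, Pi.add_apply, smul_eq_mul, mul_add, Finset.sum_add_distrib]
    rcases eq_or_ne b m with rfl | hb
    · rw [Finset.sum_eq_zero (fun a ha => by
        rw [Pi.single_eq_of_ne (Finset.ne_of_mem_erase ha).symm, mul_zero]), zero_add]
      simp [hm']
    · simp only [Pi.single_eq_of_ne hb, mul_zero, Finset.sum_const_zero, add_zero, Pi.single_apply, mul_ite,
        mul_one]
      rw [Finset.sum_ite_eq]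
      simp [hb]
  exact e ▸ key _ (Finset.notMem_erase m _)

theorem exists_off (i j : Ix k) : ∃ m : Ix k, m ≠ i ∧ m ≠ j := by
  by_contra hcon
  push Not at hcon
  have h : ∀ x : Ix k, x = i ∨ x = j := fun x => by
    by_cases hx : x = i
    · exact Or.inl hx
    · exact Or.inr (hcon x hx)
  rcases h (j0 k) with a | a <;> rcases h (j1 k) with b | b <;> rcases h (j2 k) with c | c <;>
    simp [Fin.ext_iff] at a b c <;> omega

namespace Pre

variable (S : Pre k F G)

theorem flip {i j : Ix k} (h : i ≠ j) (t : F) :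
    S.e i j * S.A (T h t) * S.e i j = S.A (T h.symm (-t)) := by
  obtain ⟨π, h0, h1⟩ := exists_two h
  have h01 : (0 : Fin 2) ≠ 1 := by decide
  have hs : Seven.star (T h01 t) = T h01.symm (-t) := Subtype.ext (by
    ext a b; fin_cases a <;> fin_cases b <;> simp [Seven.star_coe, T_coe, Matrix.single])
  have hb : S.w * S.A (lo F k (T h01 t)) * S.w⁻¹ = S.A (lo F k (T h01.symm (-t))) := by rw [S.cstar, hs]
  rw [lo_T, lo_T] at hb
  have hb' := congrArg (MulAut.conj (S.A (pm π))) hb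
  simp only [map_mul, map_inv, MulAut.conj_apply] at hb'
  rw [S.e_eq h0 h1, S.e_inv] at hb'
  subst h0 h1
  rwa [← map_inv, ← map_mul, ← map_mul, ← map_mul, ← map_mul, pm_conj_T, pm_conj_T] at hb'

theorem e_fix {i j : Ix k} (h : i ≠ j) (t : F) {a b : Ix k} (hai : a ≠ i) (haj : a ≠ j) (hbi : b ≠ i)
    (hbj : b ≠ j) : Commute (S.e a b) (S.A (T h t)) := by
  rcases eq_or_ne a b with rfl | hab
  · rw [S.e_self]; exact Commute.one_left _
  obtain ⟨π, h0, h1⟩ := exists_two hab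
  obtain ⟨i', rfl⟩ := π.1.surjective i
  obtain ⟨j', rfl⟩ := π.1.surjective j
  have h' : i' ≠ j' := fun e => h (congrArg _ e)
  have hge : ∀ x, π.1 x ≠ a → π.1 x ≠ b → 2 ≤ x.1 := fun x x0 x1 => by
    by_contra hx
    rcases Nat.lt_or_ge x.1 1 with hx' | hx'
    · exact x0 ((congrArg π.1 (Fin.ext (show x.1 = 0 by omega))).trans h0)
    · exact x1 ((congrArg π.1 (Fin.ext (show x.1 = 1 by omega))).trans h1)
  have hi2 := hge i' hai.symm hbi.symm
  have hj2 := hge j' haj.symm hbj.symm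
  have hne : (⟨i'.1 - 2, by omega⟩ : Fin (k + 2)) ≠ ⟨j'.1 - 2, by omega⟩ := fun e => by
    have := congrArg Fin.val e
    exact h' (Fin.ext (by simp only at this; omega))
  have hT : hi F k (T hne t) = T h' t := by
    rw [hi_T]
    exact T_congr _ t (Fin.ext (by simp [Fin.natAdd]; omega)) (Fin.ext (by simp [Fin.natAdd]; omega))
  have hc : Commute S.w (S.A (T h' t)) := hT ▸ S.cblk _
  have hc' := hc.map (MulAut.conj (S.A (pm π)) : G ≃* G)
  rw [MulAut.conj_apply, MulAut.conj_apply, S.e_eq h0 h1, ← map_inv, ← map_mul, ← map_mul, pm_conj_T] at hc'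
  exact hc'

theorem E_fix {i j : Ix k} (h : i ≠ j) (t : F) {f : Ix k → ZMod 2} (hf : Even' f) (hi0 : f i = 0)
    (hj0 : f j = 0) : Commute (S.E f) (S.A (T h t)) := by
  classical
  rcases eq_or_ne f 0 with rfl | hf0
  · rw [S.E_zero]; exact Commute.one_left _
  obtain ⟨m, hm⟩ : ∃ m, f m ≠ 0 := Function.ne_iff.1 hf0
  refine even_induction (P := fun g => Commute (S.E g) (S.A (T h t))) hf m (by rw [S.E_zero]; exact Commute.one_left _) ?_
  intro g a ha _ hg
  rw [S.E_add, S.E_pair]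
  exact hg.mul_left (S.e_fix h t (fun e => ha (e ▸ hi0)) (fun e => ha (e ▸ hj0)) (fun e => hm (e ▸ hi0))
    (fun e => hm (e ▸ hj0)))

theorem W_fix {i j : Ix k} (h : i ≠ j) {a b : Ix k} (hai : a ≠ i) (haj : a ≠ j) (hbi : b ≠ i) (hbj : b ≠ j) :
    Commute (S.e a b) (S.A (Wm F h)) := by
  rw [Wm, map_mul, map_mul]
  exact ((S.e_fix h 1 hai haj hbi hbj).mul_right (S.e_fix h.symm (-1) haj hai hbj hbi)).mul_right
    (S.e_fix h 1 hai haj hbi hbj)

theorem W_share {i j m : Ix k} (hij : i ≠ j) (him : i ≠ m) (hjm : j ≠ m) :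
    S.A (Wm F hij) * S.e i m * (S.A (Wm F hij))⁻¹ = S.e j m ∧
      S.A (Wm F hij) * S.e j m * (S.A (Wm F hij))⁻¹ = S.e i m := by
  have hts : S.A (lo F k ts) = S.A (Wm F (show j0 k ≠ j1 k by simp [Fin.ext_iff])) := congrArg S.A lo_ts
  have b1 := S.ts_conj_e02
  have b2 := S.ts_conj_e12
  rw [hts] at b1 b2
  obtain ⟨π, h2, ⟨h0, h1⟩ | ⟨h0, h1⟩⟩ := exists_three hij him hjm
  all_goals
    have c1 := congrArg (MulAut.conj (S.A (pm π))) b1
    have c2 := congrArg (MulAut.conj (S.A (pm π))) b2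
    simp only [map_mul, map_inv, MulAut.conj_apply] at c1 c2
    rw [← map_inv, ← map_mul, ← map_mul, pm_conj_Wm] at c1 c2
    rw [map_inv, S.e_pm, S.e_pm] at c1 c2
    subst h0 h1 h2
  · exact ⟨c1, c2⟩
  · rw [← Wm_inv hij.symm, map_inv, inv_inv]
    constructor
    · rw [← c1]; simp [mul_assoc]
    · rw [← c2]; simp [mul_assoc]

theorem W_self {i j : Ix k} (h : i ≠ j) : Commute (S.e i j) (S.A (Wm F h)) := by
  obtain ⟨π, h0, h1⟩ := exists_two h
  have hts : S.A (lo F k ts) = S.A (Wm F (show j0 k ≠ j1 k by simp [Fin.ext_iff])) := congrArg S.A lo_ts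
  have hc : Commute S.w (S.A (lo F k ts)) := S.ts_comm.symm
  rw [hts] at hc
  have hc' := hc.map (MulAut.conj (S.A (pm π)) : G ≃* G)
  rw [MulAut.conj_apply, MulAut.conj_apply, S.e_eq h0 h1, ← map_inv, ← map_mul, ← map_mul, pm_conj_Wm] at hc'
  subst h0 h1
  exact hc'

theorem W_e {i j : Ix k} (h : i ≠ j) (a b : Ix k) :
    S.A (Wm F h) * S.e a b * (S.A (Wm F h))⁻¹ = S.e (swap i j a) (swap i j b) := by
  rcases eq_or_ne a b with rfl | hab
  · simp [e_self]
  by_cases hai : a = i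
  · subst hai
    rw [swap_apply_left]
    by_cases hbj : b = j
    · subst hbj
      rw [swap_apply_right, S.e_symm b a]
      rw [← (S.W_self h).eq, mul_inv_cancel_right, S.e_symm]
    · rw [swap_apply_of_ne_of_ne hab.symm hbj]
      exact (S.W_share h hab (Ne.symm hbj)).1
  by_cases haj : a = j
  · subst haj
    rw [swap_apply_right]
    by_cases hbi : b = i
    · subst hbi
      rw [swap_apply_left, S.e_symm a b, ← (S.W_self h).eq, mul_inv_cancel_right, S.e_symm]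
    · rw [swap_apply_of_ne_of_ne hbi hab.symm]
      exact (S.W_share h (Ne.symm hbi) hab).2
  rw [swap_apply_of_ne_of_ne hai haj]
  by_cases hbi : b = i
  · subst hbi
    rw [swap_apply_left, S.e_symm a b, (S.W_share h (Ne.symm hai) (Ne.symm haj)).1, S.e_symm]
  by_cases hbj : b = j
  · subst hbj
    rw [swap_apply_right, S.e_symm a b, (S.W_share h (Ne.symm hai) (Ne.symm haj)).2, S.e_symm]
  rw [swap_apply_of_ne_of_ne hbi hbj, ← (S.W_fix h hai haj hbi hbj).eq, mul_inv_cancel_right]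

theorem W_E {i j : Ix k} (h : i ≠ j) {f : Ix k → ZMod 2} (hf : Even' f) :
    S.A (Wm F h) * S.E f * (S.A (Wm F h))⁻¹ = S.E (f ∘ swap i j) := by
  refine even_induction (P := fun g => S.A (Wm F h) * S.E g * (S.A (Wm F h))⁻¹ = S.E (g ∘ swap i j)) hf (j0 k) ?_ ?_
  · rw [show (0 : Ix k → ZMod 2) ∘ swap i j = 0 from rfl, S.E_zero]; simp
  intro g a _ _ hg
  have hp : ∀ b : Ix k, (Pi.single b (1 : ZMod 2)) ∘ swap i j = Pi.single (swap i j b) 1 := fun b => by
    funext x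
    simp [Pi.single_apply, swap_apply_eq_iff]
  rw [show (g + (Pi.single a 1 + Pi.single (j0 k) 1)) ∘ swap i j =
      g ∘ swap i j + ((Pi.single a (1 : ZMod 2)) ∘ swap i j + (Pi.single (j0 k) (1 : ZMod 2)) ∘ swap i j) from rfl,
    hp, hp, S.E_add, S.E_add (g ∘ swap i j), ← hg, S.E_pair, S.E_pair, ← S.W_e h]
  simp [mul_assoc]

end Pre

end Cfsg.Lib.Linear.ShortPres.OmegaPlus
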