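import Cfsg.Agent.Lib.Linear.ShortPres.OmegaPlus.Moves

/-!
# The matrices of root elements and the positive root subgroup
-/

set_option autoImplicit false
set_option linter.unusedSectionVars false

namespace Cfsg.Lib.Linear.ShortPres.OmegaPlus

open Equiv Matrix
open Cfsg.Lib.Linear.ShortPres.SLN
open scoped MatrixGroups

variable {F : Type*} [Field F] {k : ℕ} {G : Type*} [Group G]

/-- A matrix representation with prescribed values on the generators. -/
structure Rep (S : Pre k F G) where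
  P : G →* Matrix (SI k) (SI k) F
  hA : ∀ g a b, P (S.A g) a b =
    if a.2 = b.2 then (if a.2 = 0 then g.1 a.1 b.1 else (g⁻¹).1 b.1 a.1) else 0
  hw : ∀ a b, P S.w a b = if b = fl (Pi.single (j0 k) 1 + Pi.single (j1 k) 1) a then 1 else 0

/-- The matrix of a map. -/
def PM (F : Type*) [Field F] (σ : SI k → SI k) : Matrix (SI k) (SI k) F :=
  Matrix.of fun a b => if b = σ a then 1 else 0

theorem PM_mul_apply (σ : SI k → SI k) (M : Matrix (SI k) (SI k) F) (a b : SI k) :
    (PM F σ * M) a b = M (σ a) b := by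
  simp [PM, Matrix.mul_apply]

theorem fl_fl (f : Ix k → ZMod 2) (a : SI k) : fl f (fl f a) = a :=
  Prod.ext rfl (by simp [add_assoc, z2_self])

theorem mul_PM_apply (f : Ix k → ZMod 2) (M : Matrix (SI k) (SI k) F) (a b : SI k) :
    (M * PM F (fl f)) a b = M a (fl f b) := by
  rw [Matrix.mul_apply, Finset.sum_eq_single (fl f b)]
  · simp [PM, fl_fl]
  · intro c _ hc
    have : ¬ b = fl f c := fun e => hc (by rw [e, fl_fl])
    simp [PM, this]
  · exact fun h => absurd (Finset.mem_univ _) h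

theorem PM_comp (σ τ : SI k → SI k) : PM F σ * PM F τ = PM F (τ ∘ σ) := by
  ext a b
  rw [PM_mul_apply]
  rfl

/-- The position of a signed index. -/
def pos (a : SI k) : ℕ := if a.2 = 0 then a.1.1 else 2 * (2 + (k + 2)) - 1 - a.1.1

theorem pos_cases (a : SI k) :
    (a.2 = 0 ∧ pos a = a.1.1) ∨ (a.2 = 1 ∧ pos a = 2 * (2 + (k + 2)) - 1 - a.1.1) := by
  have key : ∀ x : ZMod 2, x = 0 ∨ x = 1 := by decide
  rcases key a.2 with h | h
  · exact Or.inl ⟨h, if_pos h⟩
  · exact Or.inr ⟨h, if_neg (by rw [h]; decide)⟩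

theorem pos_inj : Function.Injective (pos (k := k)) := by
  intro a b h
  have := a.1.2
  have := b.1.2
  rcases pos_cases a with ⟨x, hx⟩ | ⟨x, hx⟩ <;> rcases pos_cases b with ⟨y, hy⟩ | ⟨y, hy⟩
  all_goals first
    | (exfalso; omega)
    | exact Prod.ext (Fin.ext (by omega)) (x.trans y.symm)

theorem pos_bar (a : SI k) : pos (bar a) = 2 * (2 + (k + 2)) - 1 - pos a := by
  have := a.1.2
  rcases pos_cases a with ⟨x, hx⟩ | ⟨x, hx⟩ <;> rw [hx, pos, bar_snd, x]
  · simp
  · rw [if_pos (by decide), bar_fst]; omega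

theorem pos_lt (a : SI k) : pos a < 2 * (2 + (k + 2)) := by
  have := a.1.2
  rcases pos_cases a with ⟨x, hx⟩ | ⟨x, hx⟩ <;> omega

/-- A positive root. -/
def Posv (a b : SI k) : Prop := a.1 ≠ b.1 ∧ pos a < pos b

theorem Posv.flip {a b : SI k} (h : Posv a b) : Posv (bar b) (bar a) := by
  refine ⟨h.1.symm, ?_⟩
  have := pos_lt a
  have := pos_lt b
  have := h.2
  rw [pos_bar, pos_bar]
  omega

/-- Unitriangular matrices. -/
def Utri (M : Matrix (SI k) (SI k) F) : Prop := ∀ x y, (pos y < pos x → M x y = 0) ∧ M x x = 1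

theorem Utri.one : Utri (1 : Matrix (SI k) (SI k) F) := fun x y =>
  ⟨fun h => Matrix.one_apply_ne (fun e => absurd h (by rw [e]; exact lt_irrefl _)), Matrix.one_apply_eq x⟩

theorem Utri.mul {M N : Matrix (SI k) (SI k) F} (hM : Utri M) (hN : Utri N) : Utri (M * N) := by
  intro x y
  refine ⟨fun h => ?_, ?_⟩
  · rw [Matrix.mul_apply, Finset.sum_eq_zero]
    intro z _
    by_cases hz : pos z < pos x
    · rw [(hM x z).1 hz, zero_mul]
    · rw [(hN z y).1 (by omega), mul_zero]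
  · rw [Matrix.mul_apply, Finset.sum_eq_single x]
    · rw [(hM x x).2, (hN x x).2, one_mul]
    · intro z _ hz
      rcases lt_trichotomy (pos z) (pos x) with h | h | h
      · rw [(hM x z).1 h, zero_mul]
      · exact absurd (pos_inj h) hz
      · rw [(hN z x).1 h, mul_zero]
    · exact fun h => absurd (Finset.mem_univ _) h

namespace Rep

variable {S : Sys k F G} (R : Rep S.toPre)

theorem P_pm (π : alternatingGroup (Ix k)) :
    R.P (S.A (pm π)) = PM F (fun a : SI k => (π.1⁻¹ a.1, a.2)) := by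
  ext a b
  rw [R.hA, ← map_inv, pm_apply, pm_apply]
  simp only [PM, Matrix.of_apply, Prod.ext_iff]
  by_cases h2 : a.2 = b.2
  · rw [if_pos h2, InvMemClass.coe_inv, inv_inv]
    by_cases h : π.1⁻¹ a.1 = b.1
    · have h' : π.1 b.1 = a.1 := by rw [← h, Perm.coe_inv, Equiv.apply_symm_apply]
      simp [h, h', h2.symm]
    · have h' : ¬ π.1 b.1 = a.1 := fun e => h (by rw [Perm.inv_eq_iff_eq, e])
      have h'' : ¬ (Equiv.symm π.1) a.1 = b.1 := h
      simp [h, h', h'', Ne.symm h'']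
  · simp [h2, Ne.symm h2]

theorem P_e (i j : Ix k) : R.P (S.toPre.e i j) = PM F (fl (Pi.single i 1 + Pi.single j 1)) := by
  rcases eq_or_ne i j with rfl | h
  · rw [S.toPre.e_self, map_one]
    ext a b
    have : fl (Pi.single i 1 + Pi.single i 1) a = a := Prod.ext rfl (by simp [z2_self])
    simp [PM, this, Matrix.one_apply, eq_comm]
  obtain ⟨π, h0, h1⟩ := exists_two h
  have hw : R.P S.w = PM F (fl (Pi.single (j0 k) 1 + Pi.single (j1 k) 1)) := Matrix.ext (R.hw)
  rw [← S.toPre.e_eq h0 h1, ← map_inv S.A, ← map_inv, map_mul, map_mul, P_pm, P_pm, hw, PM_comp, PM_comp]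
  refine congrArg _ (funext fun a => ?_)
  simp only [Function.comp_apply, fl_fst, fl_snd, InvMemClass.coe_inv, inv_inv]
  refine Prod.ext (by simp) ?_
  show a.2 + _ = a.2 + _
  subst h0 h1
  simp [Pi.single_apply, Equiv.symm_apply_eq]

theorem P_E {f : Ix k → ZMod 2} (hf : Even' f) : R.P (S.toPre.E f) = PM F (fl f) := by
  refine even_induction (P := fun g => R.P (S.toPre.E g) = PM F (fl g)) hf (j0 k) ?_ ?_
  · rw [S.toPre.E_zero, map_one]
    ext a b
    have : fl (0 : Ix k → ZMod 2) a = a := Prod.ext rfl (by simp)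
    simp [PM, this, Matrix.one_apply, eq_comm]
  intro g a _ _ hg
  rw [S.toPre.E_add, map_mul, hg, S.toPre.E_pair, P_e, PM_comp]
  refine congrArg _ (funext fun x => Prod.ext rfl ?_)
  simp [add_assoc]

theorem P_cf {f : Ix k → ZMod 2} (hf : Even' f) (g : SpecialLinearGroup (Ix k) F) (a b : SI k) :
    R.P (S.toPre.cf f g) a b = R.P (S.A g) (fl f a) (fl f b) := by
  rw [Pre.cf_apply, map_mul, map_mul, R.P_E hf, mul_PM_apply, PM_mul_apply]

theorem P_X {a b : SI k} (h : a.1 ≠ b.1) (t : F) :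
    R.P (S.toPre.X a b t) = 1 + Matrix.single a b t - Matrix.single (bar b) (bar a) t := by
  obtain ⟨f, hf⟩ := exists_fr h
  have hT : ∀ x y : SI k, R.P (S.A (T h t)) x y =
      (1 + Matrix.single ((a.1, 0) : SI k) (b.1, 0) t - Matrix.single ((b.1, 1) : SI k) (a.1, 1) t :
        Matrix (SI k) (SI k) F) x y := by
    intro x y
    rw [R.hA]
    have hinv : (T h t : SpecialLinearGroup (Ix k) F)⁻¹ = T h (-t) :=
      inv_eq_of_mul_eq_one_right (by rw [T_add, add_neg_cancel]; exact Subtype.ext (by simp [T_coe]))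
    rw [hinv, T_coe, T_coe]
    obtain ⟨x1, x2⟩ := x
    obtain ⟨y1, y2⟩ := y
    simp only [Matrix.add_apply, Matrix.sub_apply, Matrix.one_apply, Matrix.single_apply, Prod.mk.injEq]
    have key : ∀ z : ZMod 2, z = 0 ∨ z = 1 := by decide
    rcases key x2 with rfl | rfl <;> rcases key y2 with rfl | rfl
    all_goals simp [eq_comm, and_comm]
    split_ifs <;> ring
  ext x y
  rw [S.toPre.X_eq h hf, R.P_cf hf.1, hT]
  have hx : ∀ (p z : SI k), (p = fl f z) ↔ (fl f p = z) := fun p z =>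
    ⟨fun e => by rw [e, fl_fl], fun e => by rw [← e, fl_fl]⟩
  have h1 : fl f ((a.1, 0) : SI k) = a := Prod.ext rfl (by simp [hf.2.1])
  have h2 : fl f ((b.1, 0) : SI k) = b := Prod.ext rfl (by simp [hf.2.2])
  have h3 : fl f ((b.1, 1) : SI k) = bar b := Prod.ext rfl (by simp [hf.2.2, add_comm])
  have h4 : fl f ((a.1, 1) : SI k) = bar a := Prod.ext rfl (by simp [hf.2.1, add_comm])
  have h5 : fl f x = fl f y ↔ x = y := ⟨fun e => by rw [← fl_fl f x, e, fl_fl], congrArg _⟩
  simp only [Matrix.add_apply, Matrix.sub_apply, Matrix.one_apply, Matrix.single_apply, hx, h1, h2, h3, h4, h5, fl_fl]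

theorem P_X_utri {a b : SI k} (h : Posv a b) (t : F) : Utri (R.P (S.toPre.X a b t)) := by
  have h' := h.flip.2
  have h2 := h.2
  intro x y
  rw [R.P_X h.1]
  simp only [Matrix.add_apply, Matrix.sub_apply, Matrix.one_apply, Matrix.single_apply]
  refine ⟨fun hlt => ?_, ?_⟩
  · have e1 : ¬ x = y := fun e => by subst e; omega
    have e2 : ¬ (a = x ∧ b = y) := fun e => by rw [← e.1, ← e.2] at hlt; omega
    have e3 : ¬ (bar b = x ∧ bar a = y) := fun e => by rw [← e.1, ← e.2] at hlt; omega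
    simp [e1, e2, e3]
  · have e2 : ¬ (a = x ∧ b = x) := fun e => h.1 (by rw [e.1, e.2])
    have e3 : ¬ (bar b = x ∧ bar a = x) := fun e => h.1 (by
      have := congrArg Prod.fst (e.2.trans e.1.symm)
      simpa using this)
    simp [e2, e3]

end Rep

namespace Sys

variable (S : Sys k F G)

/-- The positive root subgroup. -/
def U : Subgroup G := Subgroup.closure {g | ∃ a b t, Posv a b ∧ g = S.toPre.X a b t}

theorem X_mem_U {a b : SI k} (h : Posv a b) (t : F) : S.toPre.X a b t ∈ S.U :=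
  Subgroup.subset_closure ⟨a, b, t, h, rfl⟩

/-- The abelian part of the positive root subgroup. -/
def Us (s : Set (Ix k × Ix k)) : Subgroup G :=
  Subgroup.closure {g | ∃ p ∈ s, ∃ t, p.1 < p.2 ∧ g = S.toPre.X (p.1, 0) (p.2, 1) t}

theorem mem_Us (i j : Ix k) (t : F) : S.toPre.X (i, 0) (j, 1) t ∈ S.Us Set.univ := by
  rcases lt_trichotomy i j with h | rfl | h
  · exact Subgroup.subset_closure ⟨(i, j), trivial, t, h, rfl⟩
  · rw [S.toPre.X_same (a := ((i, 0) : SI k)) (b := (i, 1)) rfl]; exact one_mem _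
  · have e := S.toPre.X_flip (i, 0) (j, 1) (-t)
    rw [neg_neg, show bar ((j, 1) : SI k) = (j, 0) from Prod.ext rfl (show (1 : ZMod 2) + 1 = 0 by decide),
      show bar ((i, 0) : SI k) = (i, 1) from Prod.ext rfl (zero_add 1)] at e
    rw [← e]
    exact Subgroup.subset_closure ⟨(j, i), trivial, -t, h, rfl⟩

theorem conj_Us (g : SpecialLinearGroup (Ix k) F) {y : G} (hy : y ∈ S.Us Set.univ) :
    S.A g * y * (S.A g)⁻¹ ∈ S.Us Set.univ := by
  have step : ∀ (p q : Ix k) (hpq : p ≠ q) (s : F) (i j : Ix k) (t : F),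
      S.A (T hpq s) * S.toPre.X (i, 0) (j, 1) t * (S.A (T hpq s))⁻¹ ∈ S.Us Set.univ := by
    intro p q hpq s
    have hX : S.A (T hpq s) = S.toPre.X (p, 0) (q, 0) s := by
      rw [S.toPre.X_eq (a := ((p, 0) : SI k)) (b := (q, 0)) (f := 0) hpq ⟨by simp [Even'], rfl, rfl⟩,
        S.toPre.cf_zero]
    rw [hX]
    have main : ∀ (i j : Ix k) (t : F), q ≠ j → S.toPre.X (p, 0) (q, 0) s * S.toPre.X (i, 0) (j, 1) t *
        (S.toPre.X (p, 0) (q, 0) s)⁻¹ ∈ S.Us Set.univ := by
      intro i j t hqj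
      rcases eq_or_ne i j with rfl | hij
      · rw [S.toPre.X_same (a := ((i, 0) : SI k)) (b := (i, 1)) rfl, mul_one, mul_inv_cancel]; exact one_mem _
      rcases eq_or_ne q i with rfl | hqi
      · rcases eq_or_ne p j with rfl | hpj
        · have h := S.comm_same (a := ((p, 0) : SI k)) (b := (q, 0)) hpq s (-t)
          have e := S.toPre.X_flip ((p, 0) : SI k) (bar (q, 0)) t
          rw [bar_bar, show bar ((p, 0) : SI k) = (p, 1) from Prod.ext rfl (zero_add 1)] at e
          rw [e, h.1.eq, mul_inv_cancel_right, ← e]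
          exact S.mem_Us _ _ _
        · have e := S.toPre.prod_X (a := ((p, 0) : SI k)) (b := (q, 0)) (c := (j, 1)) hpq hqj hpj s t
          rw [e, mul_inv_cancel_right]
          exact mul_mem (S.mem_Us _ _ _) (S.mem_Us _ _ _)
      · rw [(S.comm_X (a := ((p, 0) : SI k)) (b := (q, 0)) (c := (i, 0)) (d := (j, 1))
          (fun e => hqi (congrArg Prod.fst e)) (fun e => by simpa using congrArg Prod.snd e)
          (fun e => hqj (congrArg Prod.fst e)) (fun e => by simpa using congrArg Prod.snd e) s t).eq,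
          mul_inv_cancel_right]
        exact S.mem_Us _ _ _
    intro i j t
    rcases eq_or_ne q j with rfl | hqj
    · rcases eq_or_ne i q with rfl | hiq
      · rw [S.toPre.X_same (a := ((i, 0) : SI k)) (b := (i, 1)) rfl, mul_one, mul_inv_cancel]; exact one_mem _
      have e := S.toPre.X_flip (i, 0) (q, 1) (-t)
      rw [neg_neg, show bar ((q, 1) : SI k) = (q, 0) from Prod.ext rfl (show (1 : ZMod 2) + 1 = 0 by decide),
        show bar ((i, 0) : SI k) = (i, 1) from Prod.ext rfl (zero_add 1)] at e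
      rw [← e]
      exact main q i (-t) hiq.symm
    · exact main i j t hqj
  have hmem : g ∈ Subgroup.closure {g : SpecialLinearGroup (Ix k) F | ∃ (p q : Ix k) (h : p ≠ q) (s : F), T h s = g} := by
    have := Cfsg.Lib.Linear.closure_transvection_eq_top (ι := Ix k) (F := F)
    refine (?_ : (⊤ : Subgroup _) ≤ _) (Subgroup.mem_top g)
    rw [← this]
    refine Subgroup.closure_mono ?_
    rintro _ ⟨p, q, h, s, rfl⟩
    exact ⟨p, q, h, s, rfl⟩
  revert y
  refine Subgroup.closure_induction'' (p := fun g _ => ∀ {y : G}, y ∈ S.Us Set.univ →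
    S.A g * y * (S.A g)⁻¹ ∈ S.Us Set.univ) ?_ ?_ ?_ ?_ hmem
  · rintro _ ⟨p, q, hpq, s, rfl⟩ y hy
    refine (?_ : S.Us Set.univ ≤ (S.Us Set.univ).comap (MulAut.conj (S.A (T hpq s)) : G ≃* G).toMonoidHom) hy
    refine (Subgroup.closure_le _).2 ?_
    rintro _ ⟨r, -, t, -, rfl⟩
    exact step p q hpq s r.1 r.2 t
  · rintro _ ⟨p, q, hpq, s, rfl⟩ y hy
    rw [show (T hpq s : SpecialLinearGroup (Ix k) F)⁻¹ = T hpq (-s) from
      inv_eq_of_mul_eq_one_right (by rw [T_add, add_neg_cancel]; exact Subtype.ext (by simp [T_coe]))]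
    refine (?_ : S.Us Set.univ ≤ (S.Us Set.univ).comap (MulAut.conj (S.A (T hpq (-s))) : G ≃* G).toMonoidHom) hy
    refine (Subgroup.closure_le _).2 ?_
    rintro _ ⟨r, -, t, -, rfl⟩
    exact step p q hpq (-s) r.1 r.2 t
  · intro y hy; simpa using hy
  · intro x z _ _ hx hz y hy
    have := hx (hz hy)
    rw [map_mul]
    simpa [mul_assoc] using this

theorem U_decomp {u : G} (hu : u ∈ S.U) : ∃ g, ∃ y ∈ S.Us Set.univ, u = S.A g * y := by
  refine Subgroup.closure_induction (p := fun u _ => ∃ g, ∃ y ∈ S.Us Set.univ, u = S.A g * y) ?_ ?_ ?_ ?_ hu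
  · rintro _ ⟨a, b, t, hab, rfl⟩
    obtain ⟨i, x⟩ := a
    obtain ⟨j, y⟩ := b
    have hne : i ≠ j := hab.1
    have hlt := hab.2
    have key : ∀ z : ZMod 2, z = 0 ∨ z = 1 := by decide
    rcases key x with rfl | rfl <;> rcases key y with rfl | rfl
    · exact ⟨T hne t, 1, one_mem _, by rw [mul_one, S.toPre.X_eq (a := ((i, 0) : SI k)) (b := (j, 0)) (f := 0) hne
        ⟨by simp [Even'], rfl, rfl⟩, S.toPre.cf_zero]⟩
    · exact ⟨1, _, S.mem_Us i j t, by rw [map_one, one_mul]⟩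
    · exfalso
      simp [pos] at hlt
      omega
    · have e := S.toPre.X_flip ((i, 1) : SI k) (j, 1) (-t)
      rw [neg_neg, show bar ((j, 1) : SI k) = (j, 0) from Prod.ext rfl (show (1 : ZMod 2) + 1 = 0 by decide),
        show bar ((i, 1) : SI k) = (i, 0) from Prod.ext rfl (show (1 : ZMod 2) + 1 = 0 by decide)] at e
      exact ⟨T hne.symm (-t), 1, one_mem _, by rw [mul_one, ← e,
        S.toPre.X_eq (a := ((j, 0) : SI k)) (b := (i, 0)) (f := 0) hne.symm ⟨by simp [Even'], rfl, rfl⟩,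
        S.toPre.cf_zero]⟩
  · exact ⟨1, 1, one_mem _, by rw [map_one, one_mul]⟩
  · rintro _ _ _ _ ⟨g, y, hy, rfl⟩ ⟨g', y', hy', rfl⟩
    refine ⟨g * g', (S.A g'⁻¹ * y * (S.A g'⁻¹)⁻¹) * y', mul_mem (S.conj_Us _ hy) hy', ?_⟩
    simp [mul_assoc]
  · rintro _ _ ⟨g, y, hy, rfl⟩
    refine ⟨g⁻¹, S.A g * y⁻¹ * (S.A g)⁻¹, S.conj_Us _ (inv_mem hy), ?_⟩
    simp [mul_assoc]

variable {S} (R : Rep S.toPre)

/-- The shape of the abelian part. -/
def Shape (s : Set (Ix k × Ix k)) (M : Matrix (SI k) (SI k) F) : Prop :=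
  (∀ x y : SI k, ¬ (x.2 = 0 ∧ y.2 = 1) → M x y = (1 : Matrix (SI k) (SI k) F) x y) ∧
    ∀ i j : Ix k, i < j → (i, j) ∉ s → M (i, 0) (j, 1) = 0

theorem shape_mul {M N : Matrix (SI k) (SI k) F} {s : Set (Ix k × Ix k)} (hM : Shape s M) (hN : Shape s N) :
    Shape s (M * N) ∧ ∀ i j : Ix k, (M * N) (i, 0) (j, 1) = M (i, 0) (j, 1) + N (i, 0) (j, 1) := by
  have h01 : (0 : ZMod 2) ≠ 1 := by decide
  have hsum : ∀ i j : Ix k, (M * N) (i, 0) (j, 1) = M (i, 0) (j, 1) + N (i, 0) (j, 1) := by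
    intro i j
    rw [Matrix.mul_apply, ← Finset.sum_subset (Finset.subset_univ ({(i, 0), (j, 1)} : Finset (SI k)))
      (fun z _ hz => ?_), Finset.sum_pair (by simp [h01])]
    · rw [hM.1 (i, 0) (i, 0) (fun e => h01 e.2), hN.1 (j, 1) (j, 1) (fun e => h01 e.1.symm),
        Matrix.one_apply_eq, Matrix.one_apply_eq, one_mul, mul_one, add_comm]
    · simp only [Finset.mem_insert, Finset.mem_singleton, not_or] at hz
      by_cases hz2 : z.2 = 1
      · rw [hN.1 z (j, 1) (fun e => h01 (e.1.symm.trans hz2)), Matrix.one_apply_ne hz.2, mul_zero]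
      · rw [hM.1 (i, 0) z (fun e => hz2 e.2), Matrix.one_apply_ne (Ne.symm hz.1), zero_mul]
  refine ⟨⟨fun x y hxy => ?_, fun i j hij hs => by rw [hsum, hM.2 i j hij hs, hN.2 i j hij hs, add_zero]⟩, hsum⟩
  rw [Matrix.mul_apply, Finset.sum_eq_single x]
  · rw [hM.1 x x (fun e => h01 (e.1.symm.trans e.2)), hN.1 x y hxy, Matrix.one_apply_eq, one_mul]
  · intro z _ hz
    by_cases h : x.2 = 0 ∧ z.2 = 1
    · have hzy : z ≠ y := fun e => hxy ⟨h.1, e ▸ h.2⟩
      rw [hN.1 z y (fun e => h01 (e.1.symm.trans h.2)), Matrix.one_apply_ne hzy, mul_zero]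
    · rw [hM.1 x z h, Matrix.one_apply_ne hz.symm, zero_mul]
  · exact fun h => absurd (Finset.mem_univ _) h

theorem shape_X {i j : Ix k} (hij : i < j) (t : F) :
    Shape {(i, j)} (R.P (S.toPre.X (i, 0) (j, 1) t)) ∧
      R.P (S.toPre.X (i, 0) (j, 1) t) (i, 0) (j, 1) = t := by
  rw [R.P_X (a := ((i, 0) : SI k)) (b := (j, 1)) hij.ne]
  have e1 : bar ((j, 1) : SI k) = (j, 0) := Prod.ext rfl (show (1 : ZMod 2) + 1 = 0 by decide)
  have e2 : bar ((i, 0) : SI k) = (i, 1) := Prod.ext rfl (zero_add 1)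
  rw [e1, e2]
  refine ⟨⟨fun x y hxy => ?_, fun p q hpq hs => ?_⟩, ?_⟩
  · have a1 : ¬ (((i, 0) : SI k) = x ∧ ((j, 1) : SI k) = y) := fun e => hxy ⟨by rw [← e.1], by rw [← e.2]⟩
    have a2 : ¬ (((j, 0) : SI k) = x ∧ ((i, 1) : SI k) = y) := fun e => hxy ⟨by rw [← e.1], by rw [← e.2]⟩
    simp [Matrix.single_apply, a1, a2]
  · simp only [Set.mem_singleton_iff, Prod.mk.injEq] at hs
    have a1 : ¬ (i = p ∧ j = q) := fun e => hs ⟨e.1.symm, e.2.symm⟩
    have a2 : ¬ (j = p ∧ i = q) := fun e => by rw [e.1, e.2] at hij; exact absurd (hij.trans hpq) (lt_irrefl _)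
    simp [Matrix.single_apply, a1, a2]
  · simp [Matrix.single_apply, hij.ne, hij.ne']

theorem Us_shape {s : Set (Ix k × Ix k)} {y : G} (hy : y ∈ S.Us s) : Shape s (R.P y) := by
  have hone : Shape s (1 : Matrix (SI k) (SI k) F) := ⟨fun _ _ _ => rfl, fun i j _ _ => Matrix.one_apply_ne (by simp)⟩
  have hgen : ∀ (p : Ix k × Ix k), p ∈ s → p.1 < p.2 → ∀ t, Shape s (R.P (S.toPre.X (p.1, 0) (p.2, 1) t)) :=
    fun p hp hlt t => ⟨(shape_X R hlt t).1.1, fun i j hij hs => (shape_X R hlt t).1.2 i j hij (fun e => hs (e ▸ hp))⟩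
  refine Subgroup.closure_induction'' (p := fun y _ => Shape s (R.P y)) ?_ ?_ (by rwa [map_one]) ?_ hy
  · rintro _ ⟨p, hp, t, hlt, rfl⟩; exact hgen p hp hlt t
  · rintro _ ⟨p, hp, t, hlt, rfl⟩
    rw [S.toPre.X_inv]
    exact hgen p hp hlt _
  · intro x z _ _ hx hz
    rw [map_mul]
    exact (shape_mul hx hz).1

theorem Us_comm {x y : G} (hx : x ∈ S.Us Set.univ) (hy : y ∈ S.Us Set.univ) : x * y = y * x := by
  have hg : ∀ i j p q : Ix k, i < j → p < q → ∀ t u : F,
      Commute (S.toPre.X (i, 0) (j, 1) t) (S.toPre.X (p, 0) (q, 1) u) := by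
    intro i j p q hij hpq t u
    rcases eq_or_ne i q with rfl | hiq
    · have e := S.toPre.X_flip ((p, 0) : SI k) (i, 1) (-u)
      rw [neg_neg] at e
      rw [← e]
      refine S.comm_X ?_ ?_ ?_ ?_ _ _ <;> intro h <;> simp [bar, Prod.ext_iff] at h <;>
        (try obtain ⟨h, h'⟩ := h) <;> first
          | exact absurd h (ne_of_lt hij)
          | exact absurd h (ne_of_gt hij)
          | exact absurd h' (by decide)
          | exact absurd h (ne_of_lt hpq)
          | exact absurd h (ne_of_gt hpq)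
          | (subst h; exact absurd (hij.trans hpq) (lt_irrefl _))
    · rcases eq_or_ne j p with rfl | hjp
      · have e := S.toPre.X_flip ((i, 0) : SI k) (j, 1) (-t)
        rw [neg_neg] at e
        rw [← e]
        refine S.comm_X ?_ ?_ ?_ ?_ _ _ <;> intro h <;> simp [bar, Prod.ext_iff] at h <;>
          (try obtain ⟨h, h'⟩ := h) <;> first
            | exact absurd h (ne_of_lt hij)
            | exact absurd h (ne_of_gt hij)
            | exact absurd h' (by decide)
            | exact absurd h (ne_of_lt hpq)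
            | exact absurd h (ne_of_gt hpq)
            | (subst h; exact absurd (hij.trans hpq) (lt_irrefl _))
      · refine S.comm_X ?_ ?_ ?_ ?_ _ _ <;> intro h <;> simp [bar, Prod.ext_iff] at h <;>
          (try obtain ⟨h, h'⟩ := h) <;> first
            | exact absurd h hiq
            | exact absurd h hjp
            | exact absurd h.symm hjp
            | exact absurd h' (by decide)
  have h1 : S.Us Set.univ ≤ Subgroup.centralizer {g | ∃ p : Ix k × Ix k, p ∈ (Set.univ : Set (Ix k × Ix k)) ∧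
      ∃ t, p.1 < p.2 ∧ g = S.toPre.X (p.1, 0) (p.2, 1) t} := by
    refine (Subgroup.closure_le _).2 ?_
    rintro _ ⟨p, -, t, hp, rfl⟩ _ ⟨q, -, u, hq, rfl⟩
    exact (hg q.1 q.2 p.1 p.2 hq hp u t).eq
  have h2 : S.Us Set.univ ≤ Subgroup.centralizer (S.Us Set.univ : Set G) := by
    refine (Subgroup.closure_le _).2 ?_
    intro g hg' z hz
    exact (h1 hz g hg').symm
  exact h2 hy x hx

theorem Us_le (s : Set (Ix k × Ix k)) : S.Us s ≤ S.Us Set.univ :=
  Subgroup.closure_mono fun _ ⟨p, _, t, h⟩ => ⟨p, trivial, t, h⟩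

theorem Us_inj (s : Finset (Ix k × Ix k)) : ∀ y ∈ S.Us (s : Set (Ix k × Ix k)), R.P y = 1 → y = 1 := by
  induction s using Finset.induction with
  | empty =>
    intro y hy _
    have : S.Us ((∅ : Finset (Ix k × Ix k)) : Set (Ix k × Ix k)) = ⊥ := by
      rw [Us, Subgroup.closure_eq_bot_iff]
      rintro _ ⟨p, hp, -⟩
      simp at hp
    rwa [this, Subgroup.mem_bot] at hy
  | insert a s ha ih =>
    intro y hy hP
    have hd : ∃ z ∈ S.Us (s : Set (Ix k × Ix k)), ∃ t, y = z * (if a.1 < a.2 then S.toPre.X (a.1, 0) (a.2, 1) t else 1) := by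
      refine Subgroup.closure_induction (p := fun y _ => ∃ z ∈ S.Us (s : Set (Ix k × Ix k)), ∃ t,
        y = z * (if a.1 < a.2 then S.toPre.X (a.1, 0) (a.2, 1) t else 1)) ?_ ?_ ?_ ?_ hy
      · rintro _ ⟨p, hp, t, hlt, rfl⟩
        rcases Finset.mem_insert.1 (Finset.mem_coe.1 hp) with rfl | hp
        · exact ⟨1, one_mem _, t, by rw [one_mul, if_pos hlt]⟩
        · exact ⟨_, Subgroup.subset_closure ⟨p, Finset.mem_coe.2 hp, t, hlt, rfl⟩, 0,
            by rw [S.toPre.X_zero, ite_self, mul_one]⟩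
      · exact ⟨1, one_mem _, 0, by rw [S.toPre.X_zero, ite_self, mul_one]⟩
      · rintro _ _ _ _ ⟨z, hz, t, rfl⟩ ⟨z', hz', t', rfl⟩
        refine ⟨z * z', mul_mem hz hz', t + t', ?_⟩
        split_ifs with hlt
        · rw [← S.toPre.X_add]
          have hc := Us_comm (S.mem_Us a.1 a.2 t) (Us_le _ hz')
          rw [mul_assoc, ← mul_assoc (S.toPre.X _ _ t), hc]
          simp [mul_assoc]
        · simp
      · rintro _ _ ⟨z, hz, t, rfl⟩
        refine ⟨z⁻¹, inv_mem hz, -t, ?_⟩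
        split_ifs with hlt
        · rw [_root_.mul_inv_rev, S.toPre.X_inv]
          exact Us_comm (S.mem_Us _ _ _) (inv_mem (Us_le _ hz))
        · simp
    obtain ⟨z, hz, t, rfl⟩ := hd
    split_ifs at hP ⊢ with hlt
    · have hs := Us_shape R (s := ((insert a s : Finset _) : Set (Ix k × Ix k))) (y := z)
        (Subgroup.closure_mono (by rintro _ ⟨p, hp, r⟩; exact ⟨p, by simpa using Or.inr hp, r⟩) hz)
      have hx := Us_shape R (s := ((insert a s : Finset _) : Set (Ix k × Ix k)))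
        (y := S.toPre.X (a.1, 0) (a.2, 1) t) (Subgroup.subset_closure ⟨a, by simp, t, hlt, rfl⟩)
      have he := (shape_mul hs hx).2 a.1 a.2
      rw [← map_mul, hP, Matrix.one_apply_ne (by simp), (Us_shape R hz).2 a.1 a.2 hlt (by simpa using ha),
        (shape_X R hlt t).2, zero_add] at he
      subst he
      rw [S.toPre.X_zero, mul_one] at hP ⊢
      exact ih z hz hP
    · rw [mul_one] at hP ⊢
      exact ih z hz hP

theorem P_U {u : G} (hu : u ∈ S.U) : Utri (R.P u) := by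
  refine Subgroup.closure_induction'' (p := fun u _ => Utri (R.P u)) ?_ ?_ (by rw [map_one]; exact Utri.one) ?_ hu
  · rintro _ ⟨a, b, t, h, rfl⟩; exact R.P_X_utri h t
  · rintro _ ⟨a, b, t, h, rfl⟩; rw [S.toPre.X_inv]; exact R.P_X_utri h _
  · intro x y _ _ hx hy; rw [map_mul]; exact hx.mul hy

theorem U_inj {u : G} (hu : u ∈ S.U) (hP : R.P u = 1) : u = 1 := by
  obtain ⟨g, y, hy, rfl⟩ := S.U_decomp hu
  have hg : g = 1 := Subtype.ext (by
    ext i j
    have h := congrFun (congrFun hP (i, 0)) (j, 0)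
    rw [map_mul, Matrix.mul_apply, Finset.sum_eq_single ((j, 0) : SI k), R.hA, (Us_shape R hy).1 (j, 0) (j, 0)
      (fun e => (show (0 : ZMod 2) ≠ 1 by decide) e.2), Matrix.one_apply_eq, mul_one, if_pos rfl, if_pos rfl, Matrix.one_apply] at h
    · rw [Matrix.SpecialLinearGroup.coe_one, Matrix.one_apply, h]
      simp
    · intro z _ hz
      rw [(Us_shape R hy).1 z (j, 0) (fun e => (show (0 : ZMod 2) ≠ 1 by decide) e.2), Matrix.one_apply_ne hz, mul_zero]
    · exact fun h => absurd (Finset.mem_univ _) h)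
  subst hg
  rw [map_one, one_mul] at hP ⊢
  refine Us_inj R Finset.univ y ?_ hP
  rwa [Finset.coe_univ]

end Sys

end Cfsg.Lib.Linear.ShortPres.OmegaPlus
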